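import Mathlib

/-!
An eight-dimensional module over `GF(2)` for the product of three symmetric groups of degree three
with an invariant subgroup of order 16 on which the three involutions induce all transvections to a
point: every element of order three is fixed-point-free.
-/

set_option autoImplicit false
set_option maxHeartbeats 1000000
set_option linter.unusedSimpArgs false

namespace Cfsg.Agent.OEightRec

/-- The situation. -/
structure Mod (V : Type*) [AddCommGroup V] where
  /-- the elements of order three -/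
  d : Fin 3 → AddMonoid.End V
  /-- the involutions -/
  a : Fin 3 → AddMonoid.End V
  exp : ∀ v : V, v + v = 0
  d3 : ∀ i v, d i (d i (d i v)) = v
  a2 : ∀ i v, a i (a i v) = v
  ad : ∀ i v, a i (d i v) = d i (d i (a i v))
  adj : ∀ i j, i ≠ j → ∀ v, a i (d j v) = d j (a i v)
  dd : ∀ i j v, d i (d j v) = d j (d i v)
  aa : ∀ i j v, a i (a j v) = a j (a i v)
  card : Nat.card V = 256
  faith : ∀ i, ∃ v, d i v ≠ v
  /-- the invariant subgroup -/
  W : AddSubgroup V
  cardW : Nat.card W = 16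
  stab : ∀ i, ∀ w ∈ W, a i w ∈ W
  /-- the common fixed point -/
  x : V
  xW : x ∈ W
  x0 : x ≠ 0
  fix : ∀ i, a i x = x
  only : ∀ w ∈ W, (∀ i, a i w = w) → w = 0 ∨ w = x
  moves : ∀ i, ∃ w ∈ W, a i w ≠ w
  moves₂ : ∀ i j, i ≠ j → ∃ w ∈ W, a i (a j w) ≠ w

/-- The bits of a block label. -/
def bit (J : Fin 8) (i : Fin 3) : Bool := J.val.testBit i.val

/-- The lower bound for the order of a nonzero block. -/
def lb (J : Fin 8) : ℕ :=
  (if bit J 0 then 4 else 1) * (if bit J 1 then 4 else 1) * (if bit J 2 then 4 else 1)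

/-- The bound for the chosen block. -/
def others (s : ℕ) (J0 : Fin 8) : ℕ :=
  ((List.range 8).map fun J =>
    if s.testBit J && !(J == J0.val) then (if h : J < 8 then lb ⟨J, h⟩ else 1) else 1).prod

theorem others_ge : ∀ J0 : Fin 8, ∀ s : Fin 256, s.val.testBit J0.val = true →
    (∀ i : Fin 3, ∃ J : Fin 8, bit J i = true ∧ s.val.testBit J.val = true) →
    lb 7 ≤ others s.val J0 * lb J0 := by
  decide +kernel

namespace Mod

variable {V : Type*} [AddCommGroup V] (M : Mod V)
include M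

theorem add2 (u v : V) : u + (u + v) = v := by rw [← add_assoc, M.exp, zero_add]

theorem eq_of_add {u v : V} (h : u + v = 0) : u = v := by
  rw [← add_zero u, ← M.exp v, ← add_assoc, h, zero_add]

/-- The projection of a factor. -/
def f (i : Fin 3) : Bool → AddMonoid.End V
  | true => M.d i + M.d i * M.d i
  | false => 1 + M.d i + M.d i * M.d i

theorem f_true (i : Fin 3) (v : V) : M.f i true v = M.d i v + M.d i (M.d i v) := rfl

theorem f_false (i : Fin 3) (v : V) : M.f i false v = v + M.d i v + M.d i (M.d i v) := rfl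

theorem f_sum (i : Fin 3) (v : V) : M.f i true v + M.f i false v = v := by
  rw [f_true, f_false, add_assoc v, add_comm v, M.add2]

theorem f_a (i j : Fin 3) (b : Bool) (v : V) : M.a j (M.f i b v) = M.f i b (M.a j v) := by
  have h : ∀ v, M.a j (M.d i v + M.d i (M.d i v)) = M.d i (M.a j v) + M.d i (M.d i (M.a j v)) := by
    intro v
    rw [map_add]
    by_cases e : j = i
    · subst e
      rw [M.ad, M.ad, M.ad, M.d3, add_comm]
    · rw [M.adj j i e, M.adj j i e, M.adj j i e]
  cases b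
  · rw [f_false, f_false, add_assoc, map_add, h, add_assoc]
  · exact h v

theorem f_d (i j : Fin 3) (b : Bool) (v : V) : M.d j (M.f i b v) = M.f i b (M.d j v) := by
  cases b
  · rw [f_false, f_false, map_add, map_add, M.dd j i, M.dd j i, M.dd j i]
  · rw [f_true, f_true, map_add, M.dd j i, M.dd j i, M.dd j i]

theorem f_f (i : Fin 3) (b : Bool) (v : V) : M.f i b (M.f i (!b) v) = 0 := by
  cases b <;> simp only [Bool.not_true, Bool.not_false, f_true, f_false, map_add, M.d3] <;>
    abel_nf <;> simp [two_zsmul, M.exp, two_nsmul]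

theorem f_idem (i : Fin 3) (b : Bool) (v : V) : M.f i b (M.f i b v) = M.f i b v := by
  have h := congrArg (M.f i b) (M.f_sum i v)
  rw [map_add] at h
  cases b
  · rw [show M.f i false (M.f i true v) = 0 from M.f_f i false v, zero_add] at h; exact h
  · rw [show M.f i true (M.f i false v) = 0 from M.f_f i true v, add_zero] at h; exact h

theorem f_comm (i j : Fin 3) (b c : Bool) (v : V) : M.f i b (M.f j c v) = M.f j c (M.f i b v) := by
  cases b
  · rw [f_false, f_false, map_add, map_add]; simp only [M.f_d]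
  · rw [f_true, f_true, map_add]; simp only [M.f_d]

/-- The projection of a block. -/
def e (J : Fin 8) : AddMonoid.End V := M.f 0 (bit J 0) * M.f 1 (bit J 1) * M.f 2 (bit J 2)

theorem e_apply (J : Fin 8) (v : V) :
    M.e J v = M.f 0 (bit J 0) (M.f 1 (bit J 1) (M.f 2 (bit J 2) v)) := rfl

theorem e_a (J : Fin 8) (j : Fin 3) (v : V) : M.a j (M.e J v) = M.e J (M.a j v) := by
  simp only [e_apply, M.f_a]

theorem e_d (J : Fin 8) (j : Fin 3) (v : V) : M.d j (M.e J v) = M.e J (M.d j v) := by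
  simp only [e_apply, M.f_d]

theorem e_fix (J : Fin 8) (i : Fin 3) (v : V) : M.f i (bit J i) (M.e J v) = M.e J v := by
  fin_cases i <;> simp only [e_apply]
  · exact M.f_idem 0 _ _
  · show M.f 1 (bit J 1) (M.f 0 _ _) = _
    rw [M.f_comm 1 0, M.f_idem]
  · show M.f 2 (bit J 2) (M.f 0 _ _) = _
    rw [M.f_comm 2 0, M.f_comm 2 1, M.f_idem]

/-- A block. -/
def B (J : Fin 8) : AddSubgroup V where
  carrier := {v | M.e J v = v}
  add_mem' := fun {u v} hu hv => by
    show M.e J (u + v) = u + v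
    rw [map_add, hu, hv]
  zero_mem' := map_zero (M.e J)
  neg_mem' := fun {v} hv => by
    show M.e J (-v) = -v
    rw [map_neg, hv]

theorem e_mem (J : Fin 8) (v : V) : M.e J v ∈ M.B J := by
  show M.e J (M.e J v) = M.e J v
  rw [M.e_apply J (M.e J v), M.e_fix, M.e_fix, M.e_fix]

theorem f_B {J : Fin 8} {v : V} (hv : v ∈ M.B J) (i : Fin 3) : M.f i (bit J i) v = v := by
  conv_lhs => rw [← (hv : M.e J v = v)]
  rw [M.e_fix, hv]

theorem sum_e (v : V) :
    M.e 0 v + M.e 1 v + M.e 2 v + M.e 3 v + M.e 4 v + M.e 5 v + M.e 6 v + M.e 7 v = v := by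
  have h0 := M.f_sum 0
  have h1 := M.f_sum 1
  have h2 := M.f_sum 2
  conv_rhs => rw [← h0 v, ← h1 v, map_add, map_add, ← h2 v]
  simp only [map_add, e_apply, bit, Fin.val_zero, Fin.val_one, Fin.val_two]
  simp [Nat.testBit, Nat.shiftRight_eq_div_pow]
  abel

theorem eq_zero_of {J K : Fin 8} (h : J ≠ K) (v : V) : M.e J (M.e K v) = 0 := by
  obtain ⟨i, hi⟩ : ∃ i, bit J i ≠ bit K i := by revert h; revert J K; decide
  rw [← M.e_fix K i v]
  rw [M.e_apply J]
  have hb : bit K i = !bit J i := by revert hi; cases bit J i <;> cases bit K i <;> simp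
  rw [hb]
  fin_cases i
  · show M.f 0 _ (M.f 1 _ (M.f 2 _ (M.f 0 _ _))) = 0
    rw [M.f_comm 2 0, M.f_comm 1 0]; exact M.f_f 0 _ _
  · show M.f 0 _ (M.f 1 _ (M.f 2 _ (M.f 1 _ _))) = 0
    rw [M.f_comm 2 1]; exact (congrArg _ (M.f_f 1 _ _)).trans (map_zero _)
  · show M.f 0 _ (M.f 1 _ (M.f 2 _ (M.f 2 _ _))) = 0
    exact (congrArg _ ((congrArg _ (M.f_f 2 _ _)).trans (map_zero _))).trans (map_zero _)

theorem card_blocks : ∏ J, Nat.card ↥(M.B J) = 256 := by
  rw [← Nat.card_pi, ← M.card]
  refine Nat.card_congr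
    { toFun := fun w => ∑ J, (w J : V)
      invFun := fun v J => ⟨M.e J v, M.e_mem J v⟩
      left_inv := fun w => by
        funext J
        refine Subtype.ext ?_
        show M.e J (∑ K, (w K : V)) = w J
        rw [map_sum, Finset.sum_eq_single J (fun K _ hK => ?_) (fun h => absurd (Finset.mem_univ J) h)]
        · exact (w J).2
        · rw [← ((w K).2 : M.e K (w K : V) = _)]
          exact M.eq_zero_of (Ne.symm hK) _
      right_inv := fun v => by
        show ∑ J, M.e J v = v
        simp only [Fin.sum_univ_eight]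
        exact M.sum_e v }

/-- The fixed points of one involution. -/
def fx (S : AddSubgroup V) (i : Fin 3) : AddSubgroup V where
  carrier := {v | v ∈ S ∧ M.a i v = v}
  add_mem' := fun {u v} hu hv => ⟨S.add_mem hu.1 hv.1, by rw [map_add, hu.2, hv.2]⟩
  zero_mem' := ⟨S.zero_mem, map_zero _⟩
  neg_mem' := fun {v} hv => ⟨S.neg_mem hv.1, by rw [map_neg, hv.2]⟩

theorem card_fx {S : AddSubgroup V} {i : Fin 3} (hd : ∀ v ∈ S, M.d i v ∈ S) (ha : ∀ v ∈ S, M.a i v ∈ S)
    (hfp : ∀ v ∈ S, M.f i true v = v) : Nat.card S = Nat.card (M.fx S i) * Nat.card (M.fx S i) := by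
  rw [← Nat.card_prod]
  have key : ∀ v ∈ S, M.d i (M.d i v) = v + M.d i v := fun v hv => by
    have h := hfp v hv
    rw [f_true] at h
    rw [← M.add2 (M.d i v) (M.d i (M.d i v)), h, add_comm]
  have hn : ∀ v ∈ S, v + M.a i v ∈ M.fx S i := fun v hv =>
    ⟨S.add_mem hv (ha v hv), by rw [map_add, M.a2, add_comm]⟩
  have hm : ∀ v ∈ S, v + M.d i (v + M.a i v) ∈ M.fx S i := fun v hv => by
    refine ⟨S.add_mem hv (hd _ (hn v hv).1), ?_⟩
    rw [map_add, M.ad, (hn v hv).2, key _ (hn v hv).1, ← add_assoc]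
    congr 1
    rw [add_comm v, M.add2]
  refine Nat.card_congr
    { toFun := fun v => (⟨_, hm v v.2⟩, ⟨_, hn v v.2⟩)
      invFun := fun p => ⟨(p.1 : V) + M.d i p.2, S.add_mem p.1.2.1 (hd _ p.2.2.1)⟩
      left_inv := fun v => Subtype.ext (by
        show (v : V) + M.d i ((v : V) + M.a i v) + M.d i ((v : V) + M.a i v) = v
        rw [add_assoc, M.exp, add_zero])
      right_inv := fun p => by
        obtain ⟨⟨m, hm1, hm2⟩, ⟨n, hn1, hn2⟩⟩ := p
        have e : m + M.d i n + M.a i (m + M.d i n) = n := by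
          rw [map_add, hm2, M.ad, hn2, key n hn1]
          abel_nf
          simp [two_zsmul, M.exp, two_nsmul]
        refine Prod.ext (Subtype.ext ?_) (Subtype.ext e)
        show m + M.d i n + M.d i (m + M.d i n + M.a i (m + M.d i n)) = m
        rw [e, add_assoc, M.exp, add_zero] }

theorem B_d {J : Fin 8} (j : Fin 3) : ∀ v ∈ M.B J, M.d j v ∈ M.B J := fun v hv => by
  show M.e J (M.d j v) = _
  rw [← M.e_d, hv]

theorem B_a {J : Fin 8} (j : Fin 3) : ∀ v ∈ M.B J, M.a j v ∈ M.B J := fun v hv => by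
  show M.e J (M.a j v) = _
  rw [← M.e_a, hv]

theorem fx_d {S : AddSubgroup V} {i j : Fin 3} (h : i ≠ j) (hd : ∀ v ∈ S, M.d j v ∈ S) :
    ∀ v ∈ M.fx S i, M.d j v ∈ M.fx S i := fun v hv => ⟨hd v hv.1, by rw [M.adj i j h, hv.2]⟩

theorem fx_a {S : AddSubgroup V} {i j : Fin 3} (ha : ∀ v ∈ S, M.a j v ∈ S) :
    ∀ v ∈ M.fx S i, M.a j v ∈ M.fx S i := fun v hv => ⟨ha v hv.1, by rw [M.aa i j, hv.2]⟩

theorem two_le [Finite V] {S : AddSubgroup V} {v : V} (hv : v ∈ S) (h0 : v ≠ 0) : 2 ≤ Nat.card S := by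
  have hnt : Nontrivial S := ⟨⟨⟨v, hv⟩, 0, fun e => h0 (congrArg Subtype.val e)⟩⟩
  exact Finite.one_lt_card

/-- A nonzero subgroup invariant under `a i` has a nonzero fixed point. -/
theorem exists_fx {S : AddSubgroup V} {i : Fin 3} (ha : ∀ v ∈ S, M.a i v ∈ S) {v : V} (hv : v ∈ S)
    (h0 : v ≠ 0) : ∃ w ∈ M.fx S i, w ≠ 0 := by
  by_cases h : M.a i v = v
  · exact ⟨v, ⟨hv, h⟩, h0⟩
  · refine ⟨v + M.a i v, ⟨S.add_mem hv (ha v hv), by rw [map_add, M.a2, add_comm]⟩, fun e => h ?_⟩
    have := M.add2 v (M.a i v)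
    rw [e, add_zero] at this
    exact this.symm

theorem lb_le [Finite V] (J : Fin 8) {v : V} (hv : v ∈ M.B J) (h0 : v ≠ 0) : lb J ≤ Nat.card (M.B J) := by
  have step : ∀ (S : AddSubgroup V) (i : Fin 3), (∀ v ∈ S, M.d i v ∈ S) → (∀ v ∈ S, M.a i v ∈ S) →
      (∀ v ∈ S, M.f i (bit J i) v = v) → ∀ k, (∀ w ∈ M.fx S i, w ∈ S) → k ≤ Nat.card (M.fx S i) →
      1 ≤ k → (if bit J i then k * k else k) ≤ Nat.card S := by
    intro S i hd ha hf k hle hk h1
    split_ifs with hb
    · rw [M.card_fx hd ha (fun v hv => hb ▸ hf v hv)]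
      exact Nat.mul_le_mul hk hk
    · exact hk.trans (Nat.card_le_card_of_injective (fun w : M.fx S i => (⟨w, hle w w.2⟩ : S))
        fun a b e => Subtype.ext (congrArg (fun z : S => (z : V)) e))
  obtain ⟨v1, hv1, h1⟩ := M.exists_fx (M.B_a 0) hv h0
  obtain ⟨v2, hv2, h2⟩ := M.exists_fx (M.fx_a (i := 0) (M.B_a 1)) hv1 h1
  obtain ⟨v3, hv3, h3⟩ := M.exists_fx (M.fx_a (i := 1) (M.fx_a (i := 0) (M.B_a 2))) hv2 h2
  have c3 := step (M.fx (M.fx (M.B J) 0) 1) 2 (M.fx_d (by decide) (M.fx_d (by decide) (M.B_d 2)))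
    (M.fx_a (M.fx_a (M.B_a 2))) (fun v hv => M.f_B hv.1.1 2) 2 (fun w hw => hw.1) (M.two_le hv3 h3)
    (by norm_num)
  have c2 := step (M.fx (M.B J) 0) 1 (M.fx_d (by decide) (M.B_d 1)) (M.fx_a (M.B_a 1))
    (fun v hv => M.f_B hv.1 1) _ (fun w hw => hw.1) c3 (by split_ifs <;> norm_num)
  have c1 := step (M.B J) 0 (M.B_d 0) (M.B_a 0) (fun v hv => M.f_B hv 0) _ (fun w hw => hw.1) c2
    (by split_ifs <;> norm_num)
  refine le_trans ?_ c1
  unfold lb
  cases bit J 0 <;> cases bit J 1 <;> cases bit J 2 <;> norm_num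

theorem W_inj {J : Fin 8} (hx : M.e J M.x ≠ 0) {w : V} (hw : w ∈ M.W) (h0 : M.e J w = 0) : w = 0 := by
  by_contra hne
  let K : AddSubgroup V := M.W ⊓ AddMonoidHom.ker (M.e J : V →+ V)
  have hK : ∀ i, ∀ v ∈ K, M.a i v ∈ K := fun i v hv =>
    ⟨M.stab i v hv.1, by
      show M.e J (M.a i v) = 0
      have h : M.e J v = 0 := hv.2
      rw [← M.e_a, h, map_zero]⟩
  obtain ⟨v1, hv1, h1⟩ := M.exists_fx (hK 0) (v := w) ⟨hw, h0⟩ hne
  obtain ⟨v2, hv2, h2⟩ := M.exists_fx (M.fx_a (i := 0) (hK 1)) hv1 h1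
  obtain ⟨v3, hv3, h3⟩ := M.exists_fx (M.fx_a (i := 1) (M.fx_a (i := 0) (hK 2))) hv2 h2
  rcases M.only v3 hv3.1.1.1.1 (fun i => by
    fin_cases i
    exacts [hv3.1.1.2, hv3.1.2, hv3.2]) with e | e
  · exact h3 e
  · exact hx (e ▸ hv3.1.1.1.2)

theorem sixteen_le [Finite V] {J : Fin 8} (hx : M.e J M.x ≠ 0) : 16 ≤ Nat.card (M.B J) := by
  rw [← M.cardW]
  refine Nat.card_le_card_of_injective (fun w : M.W => (⟨M.e J w, M.e_mem J w⟩ : M.B J))
    fun u v h => Subtype.ext ?_
  have h' : M.e J (u : V) = M.e J v := congrArg Subtype.val h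
  exact M.eq_of_add (M.W_inj hx (M.W.add_mem u.2 v.2) (by rw [map_add, h', M.exp]))

/-- An element trivial on the fixed points of a block is trivial on it. -/
theorem trivial_step {S : AddSubgroup V} {i : Fin 3} (hd : ∀ v ∈ S, M.d i v ∈ S)
    (ha : ∀ v ∈ S, M.a i v ∈ S) (hfp : ∀ v ∈ S, M.f i true v = v) (g : V →+ V)
    (hg : ∀ v, g (M.d i v) = M.d i (g v)) (h : ∀ v ∈ M.fx S i, g v = v) : ∀ v ∈ S, g v = v := by
  intro v hv
  have hn : v + M.a i v ∈ M.fx S i :=
    ⟨S.add_mem hv (ha v hv), by rw [map_add, M.a2, add_comm]⟩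
  have hm : v + M.d i (v + M.a i v) ∈ M.fx S i := by
    refine ⟨S.add_mem hv (hd _ hn.1), ?_⟩
    have h' := hfp _ hn.1
    rw [f_true] at h'
    rw [map_add, M.ad, hn.2, ← M.add2 (M.d i (v + M.a i v)) (M.d i (M.d i _)), h', ← add_assoc]
    rw [add_comm (M.a i v) (M.d i _), add_assoc, add_comm v (M.a i v), M.add2, add_comm]
  have e : v = (v + M.d i (v + M.a i v)) + M.d i (v + M.a i v) := by rw [add_assoc, M.exp, add_zero]
  conv_lhs => rw [e]
  rw [map_add, hg, h _ hm, h _ hn, ← e]

/-- Every element of order three is fixed-point-free. -/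
theorem fpf [Finite V] (i : Fin 3) (v : V) : v + M.d i v + M.d i (M.d i v) = 0 := by
  classical
  obtain ⟨J0, hJ0⟩ : ∃ J, M.e J M.x ≠ 0 := by
    by_contra h
    push Not at h
    exact M.x0 ((M.sum_e M.x).symm.trans (by simp [h]))
  obtain ⟨s, hs⟩ : ∃ s : Fin 256, ∀ J : Fin 8, s.val.testBit J.val = true ↔ 2 ≤ Nat.card (M.B J) := by
    have key : ∀ p : Fin 8 → Bool, ∃ s : Fin 256, ∀ J : Fin 8, s.val.testBit J.val = p J := by
      decide +kernel
    obtain ⟨s, hs⟩ := key fun J => decide (2 ≤ Nat.card (M.B J))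
    exact ⟨s, fun J => by rw [hs J, decide_eq_true_iff]⟩
  have hne : ∀ J, s.val.testBit J.val = true → lb J ≤ Nat.card (M.B J) := fun J hJ => by
    have := Finite.one_lt_card_iff_nontrivial.1 ((hs J).1 hJ)
    obtain ⟨⟨w, hw⟩, hw0⟩ := exists_ne (0 : M.B J)
    exact M.lb_le J hw fun e => hw0 (Subtype.ext e)
  have hcov : ∀ i : Fin 3, ∃ J : Fin 8, bit J i = true ∧ s.val.testBit J.val = true := by
    intro i
    by_contra hc
    push Not at hc
    obtain ⟨v, hv⟩ := M.faith i
    refine hv ?_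
    rw [← M.sum_e v]
    simp only [map_add]
    have hJ : ∀ J, M.d i (M.e J v) = M.e J v := fun J => by
      by_cases hb : bit J i = true
      · have h1 : M.e J v = 0 := by
          by_contra h0
          exact hc J hb ((hs J).2 (M.two_le (M.e_mem J v) h0))
        rw [h1, map_zero]
      · rw [Bool.not_eq_true] at hb
        have h1 := M.e_fix J i v
        rw [hb, f_false, add_assoc, add_eq_left] at h1
        have := M.add2 (M.d i (M.e J v)) (M.d i (M.d i (M.e J v)))
        rw [h1, add_zero] at this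
        conv_rhs => rw [← M.d3 i (M.e J v), ← this, ← this]
    simp only [hJ]
  have hx2 : s.val.testBit J0.val = true := (hs J0).2 (M.two_le (M.e_mem J0 M.x) hJ0)
  have hoth := others_ge J0 s hx2 hcov
  have hprod : Nat.card (M.B J0) * others s.val J0 ≤ 256 := by
    refine le_of_le_of_eq ?_ M.card_blocks
    rw [← Finset.mul_prod_erase _ _ (Finset.mem_univ J0)]
    refine Nat.mul_le_mul_left _ ?_
    have e : others s.val J0 =
        ∏ J : Fin 8, if s.val.testBit J.val && !(J.val == J0.val) then lb J else 1 := by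
      rw [others, ← List.ofFn_getElem (xs := List.range 8), Fin.prod_univ_eight]
      simp [List.range_succ]
      ring
    rw [e, ← Finset.mul_prod_erase _ _ (Finset.mem_univ J0)]
    rw [if_neg (by simp), one_mul]
    refine Finset.prod_le_prod' fun J hJ => ?_
    split_ifs with hb
    · exact hne J (by simp only [Bool.and_eq_true] at hb; exact hb.1)
    · exact Nat.card_pos
  have h16 := M.sixteen_le hJ0
  have h7 : lb 7 = 64 := rfl
  rw [h7] at hoth
  -- only the full block remains
  by_cases h3 : J0 = 7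
  · subst h3
    have h7b : ∀ i : Fin 3, bit 7 i = true := by decide
    have h256 : 256 ≤ Nat.card (M.B 7) := by
      obtain ⟨v1, hv1, h1⟩ := M.exists_fx (M.B_a 0) (M.e_mem 7 M.x) hJ0
      obtain ⟨v2, hv2, h2⟩ := M.exists_fx (M.fx_a (i := 0) (M.B_a 1)) hv1 h1
      obtain ⟨v3, hv3, h3'⟩ := M.exists_fx (M.fx_a (i := 1) (M.fx_a (i := 0) (M.B_a 2))) hv2 h2
      have t2 := M.two_le hv3 h3'
      rw [M.card_fx (M.B_d 0) (M.B_a 0) (fun v hv => h7b 0 ▸ M.f_B hv 0),
        M.card_fx (M.fx_d (by decide) (M.B_d 1)) (M.fx_a (M.B_a 1)) (fun v hv => h7b 1 ▸ M.f_B hv.1 1),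
        M.card_fx (M.fx_d (by decide) (M.fx_d (by decide) (M.B_d 2))) (M.fx_a (M.fx_a (M.B_a 2)))
          (fun v hv => h7b 2 ▸ M.f_B hv.1.1 2)]
      calc 256 = 2 * 2 * (2 * 2) * (2 * 2 * (2 * 2)) := by norm_num
        _ ≤ _ := Nat.mul_le_mul (Nat.mul_le_mul (Nat.mul_le_mul t2 t2) (Nat.mul_le_mul t2 t2))
          (Nat.mul_le_mul (Nat.mul_le_mul t2 t2) (Nat.mul_le_mul t2 t2))
    have htop : M.B 7 = ⊤ := AddSubgroup.eq_top_of_le_card _ (by rw [M.card]; exact h256)
    have hv : v ∈ M.B 7 := htop ▸ AddSubgroup.mem_top v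
    have h := h7b i ▸ M.f_B hv i
    rw [← M.f_false, ← h]
    exact M.f_f i false v
  exfalso
  have hb0 : others s.val J0 * lb J0 * Nat.card (M.B J0) ≤ lb J0 * 256 := by
    calc others s.val J0 * lb J0 * Nat.card (M.B J0) = lb J0 * (Nat.card (M.B J0) * others s.val J0) := by ring
      _ ≤ _ := Nat.mul_le_mul_left _ hprod
  have hb : 64 * Nat.card (M.B J0) ≤ lb J0 * 256 := le_trans (Nat.mul_le_mul_right _ hoth) hb0
  have key : ∀ J : Fin 8, J ≠ 7 → (lb J = 1 ∨ (∃ i j k : Fin 3, i ≠ j ∧ i ≠ k ∧ j ≠ k ∧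
      bit J i = true ∧ bit J j = false ∧ bit J k = false ∧ lb J = 4) ∨ ∃ i j k : Fin 3, i ≠ j ∧
      i ≠ k ∧ j ≠ k ∧ bit J i = true ∧ bit J j = true ∧ bit J k = false ∧ lb J = 16) := by decide
  rcases key J0 h3 with
    hl | ⟨i, j, k, hij, hik, hjk, bi, bj, bk, hl⟩ | ⟨i, j, k, hij, hik, hjk, bi, bj, bk, hl⟩
  · rw [hl] at hb; omega
  · rw [hl] at hb
    -- one active factor
    set S := M.B J0
    set N := M.fx S i
    have hN : Nat.card S = Nat.card N * Nat.card N :=
      M.card_fx (M.B_d i) (M.B_a i) (fun v hv => bi ▸ M.f_B hv i)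
    have hN4 : Nat.card N ≤ 4 := by
      by_contra h
      have := Nat.mul_le_mul (show 5 ≤ Nat.card N by omega) (show 5 ≤ Nat.card N by omega)
      omega
    set x' := M.e J0 M.x
    have hx' : x' ∈ N := ⟨M.e_mem J0 _, by rw [M.e_a, M.fix]⟩
    have hgW : ∀ g : V →+ V, (∀ v, g (M.d i v) = M.d i (g v)) → (∀ v, g (M.e J0 v) = M.e J0 (g v)) →
        (∀ v ∈ N, g v = v) → (∀ w ∈ M.W, g w ∈ M.W) → ∀ w ∈ M.W, g w = w := by
      intro g hg hge hN' hgW w hw
      have := M.trivial_step (M.B_d i) (M.B_a i) (fun v hv => bi ▸ M.f_B hv i) g hg hN' _ (M.e_mem J0 w)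
      rw [hge] at this
      have h0 := M.W_inj hJ0 (M.W.add_mem (hgW w hw) hw) (by rw [map_add, this, M.exp])
      exact M.eq_of_add h0
    -- each of the two other involutions moves a point to a fixed partner
    have hmv : ∀ l, l ≠ i → ∀ m ∈ N, M.a l m = m ∨ M.a l m = m + x' := by
      intro l hl m hm
      by_contra hc
      push Not at hc
      have hlm : M.a l m ∈ N := M.fx_a (M.B_a l) m hm
      have hlx : M.a l x' = x' := by rw [M.e_a, M.fix]
      have inj : ∀ u v, M.a l u = M.a l v → u = v := fun u v h => by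
        rw [← M.a2 l u, h, M.a2]
      let f : Fin 5 → N := ![⟨0, N.zero_mem⟩, ⟨x', hx'⟩, ⟨m, hm⟩, ⟨m + x', N.add_mem hm hx'⟩, ⟨_, hlm⟩]
      have hf : Function.Injective f := by
        intro p q hpq
        have e : (f p : V) = f q := by rw [hpq]
        have hm0 : m ≠ 0 := fun e => hc.1 (by rw [e, map_zero])
        have hmx : m ≠ x' := fun e => hc.1 (by rw [e, hlx])
        have hs0 : m + x' ≠ 0 := fun e => hmx (by rw [← M.add2 x' m, add_comm x' m, e, add_zero])
        have hl0 : M.a l m ≠ 0 := fun e => hm0 (inj _ _ (by rw [e, map_zero]))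
        have hlx' : M.a l m ≠ x' := fun e => hmx (inj _ _ (by rw [e, hlx]))
        fin_cases p <;> fin_cases q <;> first
          | rfl
          | exact absurd e hJ0 | exact absurd e.symm hJ0
          | exact absurd e hm0 | exact absurd e.symm hm0
          | exact absurd e hmx | exact absurd e.symm hmx
          | exact absurd e hs0 | exact absurd e.symm hs0
          | exact absurd e hl0 | exact absurd e.symm hl0
          | exact absurd e hlx' | exact absurd e.symm hlx'
          | exact absurd e hc.1 | exact absurd e.symm hc.1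
          | exact absurd e hc.2 | exact absurd e.symm hc.2
          | exact absurd (add_eq_right.1 e) hm0 | exact absurd (add_eq_right.1 e.symm) hm0
          | exact absurd (add_eq_left.1 e) hJ0 | exact absurd (add_eq_left.1 e.symm) hJ0
      have := Nat.card_le_card_of_injective f hf
      simp at this
      omega
    by_cases hj : ∀ m ∈ N, M.a j m = m
    · obtain ⟨w, hw, hne'⟩ := M.moves j
      exact hne' (hgW (M.a j) (M.adj j i (Ne.symm hij)) (fun v => M.e_a J0 j v) hj (M.stab j) w hw)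
    by_cases hk : ∀ m ∈ N, M.a k m = m
    · obtain ⟨w, hw, hne'⟩ := M.moves k
      exact hne' (hgW (M.a k) (M.adj k i (Ne.symm hik)) (fun v => M.e_a J0 k v) hk (M.stab k) w hw)
    push Not at hj hk
    obtain ⟨m, hm, hjm⟩ := hj
    obtain ⟨m', hm', hkm⟩ := hk
    obtain ⟨w, hw, hne'⟩ := M.moves₂ j k hjk
    refine hne' (hgW ((M.a j).comp (M.a k) : V →+ V) ?_ ?_ ?_ (fun w hw => M.stab j _ (M.stab k w hw)) w hw)
    · intro v
      show M.a j (M.a k (M.d i v)) = M.d i (M.a j (M.a k v))
      rw [M.adj k i (Ne.symm hik), M.adj j i (Ne.symm hij)]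
    · intro v
      show M.a j (M.a k (M.e J0 v)) = M.e J0 (M.a j (M.a k v))
      rw [M.e_a, M.e_a]
    · intro u hu
      show M.a j (M.a k u) = u
      have hex : ∀ l, l ≠ i → ∀ p ∈ N, M.a l p ≠ p → ∀ q ∈ N, M.a l q = q → q = 0 ∨ q = x' := by
        intro l hl p hp hpl q hq hql
        by_contra hc
        push Not at hc
        have hxf : M.a l x' = x' := by rw [M.e_a, M.fix]
        let f : Fin 5 → N := ![⟨0, N.zero_mem⟩, ⟨x', hx'⟩, ⟨q, hq⟩, ⟨q + x', N.add_mem hq hx'⟩, ⟨p, hp⟩]
        have hf : Function.Injective f := by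
          intro a b hab
          have e : (f a : V) = f b := by rw [hab]
          have hs0 : q + x' ≠ 0 := fun e => hc.2 (by rw [← M.add2 x' q, add_comm x' q, e, add_zero])
          have hp0 : p ≠ 0 := fun e => hpl (by rw [e, map_zero])
          have hpx : p ≠ x' := fun e => hpl (by rw [e, hxf])
          have hpq : p ≠ q := fun e => hpl (by rw [e, hql])
          have hps : p ≠ q + x' := fun e => hpl (by rw [e, map_add, hql, hxf])
          fin_cases a <;> fin_cases b <;> first
            | rfl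
            | exact absurd e hJ0 | exact absurd e.symm hJ0
            | exact absurd e hc.1 | exact absurd e.symm hc.1
            | exact absurd e hc.2 | exact absurd e.symm hc.2
            | exact absurd e hs0 | exact absurd e.symm hs0
            | exact absurd e hp0 | exact absurd e.symm hp0
            | exact absurd e hpx | exact absurd e.symm hpx
            | exact absurd e hpq | exact absurd e.symm hpq
            | exact absurd e hps | exact absurd e.symm hps
            | exact absurd (add_eq_right.1 e) hc.1 | exact absurd (add_eq_right.1 e.symm) hc.1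
            | exact absurd (add_eq_left.1 e) hJ0 | exact absurd (add_eq_left.1 e.symm) hJ0
        have := Nat.card_le_card_of_injective f hf
        simp at this
        omega
      have hfx : ∀ l, l ≠ i → M.a l x' = x' := fun l _ => by rw [M.e_a, M.fix]
      rcases hmv k (Ne.symm hik) u hu with e | e
      · rw [e]
        rcases hex k (Ne.symm hik) m' hm' hkm u hu e with h | h <;> rw [h]
        · rw [map_zero]
        · exact hfx j (Ne.symm hij)
      · rw [e, map_add, hfx j (Ne.symm hij)]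
        rcases hmv j (Ne.symm hij) u hu with e' | e'
        · rcases hex j (Ne.symm hij) m hm hjm u hu e' with h | h
          · rw [h, map_zero] at e
            exact absurd (by rw [zero_add] at e; exact e.symm) hJ0
          · rw [h, hfx k (Ne.symm hik)] at e
            exact absurd (add_eq_left.1 e.symm) hJ0
        · rw [e', add_assoc, M.exp, add_zero]
  · rw [hl] at hb
    -- two active factors
    set S := M.B J0
    set S1 := M.fx S i
    set N := M.fx S1 j
    have h1 : Nat.card S = Nat.card S1 * Nat.card S1 :=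
      M.card_fx (M.B_d i) (M.B_a i) (fun v hv => bi ▸ M.f_B hv i)
    have h2 : Nat.card S1 = Nat.card N * Nat.card N :=
      M.card_fx (M.fx_d hij (M.B_d j)) (M.fx_a (M.B_a j)) (fun v hv => bj ▸ M.f_B hv.1 j)
    have hN2 : Nat.card N ≤ 2 := by
      by_contra h
      have h3 := Nat.mul_le_mul (show 3 ≤ Nat.card N by omega) (show 3 ≤ Nat.card N by omega)
      rw [← h2] at h3
      have h4 := Nat.mul_le_mul h3 h3
      omega
    set x' := M.e J0 M.x
    have hx' : x' ∈ N := ⟨⟨M.e_mem J0 _, by rw [M.e_a, M.fix]⟩, by rw [M.e_a, M.fix]⟩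
    have hN' : ∀ u ∈ N, M.a k u = u := by
      intro u hu
      by_cases hu0 : u = 0
      · rw [hu0, map_zero]
      by_cases hux : u = x'
      · rw [hux, M.e_a, M.fix]
      let f : Fin 3 → N := ![⟨0, N.zero_mem⟩, ⟨x', hx'⟩, ⟨u, hu⟩]
      have hf : Function.Injective f := by
        intro p q hpq
        have e : (f p : V) = f q := by rw [hpq]
        fin_cases p <;> fin_cases q <;> first
          | rfl
          | exact absurd e hJ0 | exact absurd e.symm hJ0
          | exact absurd e hu0 | exact absurd e.symm hu0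
          | exact absurd e hux | exact absurd e.symm hux
      have := Nat.card_le_card_of_injective f hf
      simp at this
      omega
    obtain ⟨w, hw, hne'⟩ := M.moves k
    refine hne' ?_
    have t1 := M.trivial_step (M.fx_d hij (M.B_d j)) (M.fx_a (M.B_a j)) (fun v hv => bj ▸ M.f_B hv.1 j)
      (M.a k) (M.adj k j (Ne.symm hjk)) hN'
    have t2 := M.trivial_step (M.B_d i) (M.B_a i) (fun v hv => bi ▸ M.f_B hv i)
      (M.a k) (M.adj k i (Ne.symm hik)) t1 _ (M.e_mem J0 w)
    have t2' : M.e J0 (M.a k w) = M.e J0 w := (M.e_a J0 k w).symm.trans t2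
    have h0 := M.W_inj hJ0 (M.W.add_mem (M.stab k w hw) hw) (by rw [map_add, t2', M.exp])
    exact M.eq_of_add h0

end Mod

end Cfsg.Agent.OEightRec
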