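import Cfsg.Agent.OEightRec.Lifts
import Cfsg.Agent.OEightRec.Module

/-!
The action of the centraliser on `O_2(C(t))` modulo its centre: the three elements of order three
are fixed-point-free.
-/

set_option autoImplicit false

namespace Cfsg.Agent.OEightRec

open Subgroup Cfsg Cfsg.Agent.LargeExtra

variable {G : Type*} [Group G] [Finite G] {t : G}

/-- The two-core modulo its derived group. -/
abbrev QV (t : G) : Type _ := Additive (Abelianization ↥(oc t))

/-- The projection. -/
noncomputable def pv (q : ↥(oc t)) : QV t := Additive.ofMul (Abelianization.of q)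

/-- The action. -/
noncomputable def qact (c : ↥(centralizer ({t} : Set G))) : AddMonoid.End (QV t) :=
  MonoidHom.toAdditive (Abelianization.map
    { toFun := fun q : ↥(oc t) => (⟨(c : G) * q * (c : G)⁻¹, oc_conj_mem c.2 q.2⟩ : ↥(oc t))
      map_one' := Subtype.ext (by simp)
      map_mul' := fun a b => Subtype.ext (by simp [mul_assoc]) })

theorem pv_surj (v : QV t) : ∃ q, pv q = v := QuotientGroup.mk'_surjective _ (Additive.toMul v)

theorem pv_mul (a b : ↥(oc t)) : pv (a * b) = pv a + pv b := rfl

theorem qact_pv (c : ↥(centralizer ({t} : Set G))) (q : ↥(oc t)) :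
    qact c (pv q) = pv ⟨(c : G) * q * (c : G)⁻¹, oc_conj_mem c.2 q.2⟩ := rfl

theorem qact_mul (c d : ↥(centralizer ({t} : Set G))) (v : QV t) :
    qact c (qact d v) = qact (c * d) v := by
  obtain ⟨q, rfl⟩ := pv_surj v
  rw [qact_pv, qact_pv, qact_pv]
  congr 1
  exact Subtype.ext (show (c : G) * ((d : G) * q * (d : G)⁻¹) * (c : G)⁻¹ = (c : G) * d * q * ((c : G) * d)⁻¹ by group)

theorem qact_one (v : QV t) : qact (1 : ↥(centralizer ({t} : Set G))) v = v := by
  obtain ⟨q, rfl⟩ := pv_surj v
  rw [qact_pv]
  congr 1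
  exact Subtype.ext (by simp)

namespace Hyp

variable (H : Hyp t)
include H

theorem commutator_eq : commutator ↥(oc t) = center ↥(oc t) := H.es.1.2.2

theorem pv_eq_iff {a b : ↥(oc t)} : pv a = pv b ↔ (b : G) = a ∨ (b : G) = (a : G) * t := by
  constructor
  · intro h
    have h' : (a : ↥(oc t))⁻¹ * b ∈ commutator ↥(oc t) := QuotientGroup.eq.1 (congrArg Additive.toMul h)
    rw [H.commutator_eq] at h'
    rcases H.sett.center_cases (a⁻¹ * b).2 fun q hq => congrArg Subtype.val (mem_center_iff.1 h' ⟨q, hq⟩) with e | e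
    · left
      have := congrArg ((a : G) * ·) e
      simpa [mul_assoc] using this
    · right
      have := congrArg ((a : G) * ·) e
      simpa [mul_assoc] using this
  · intro h
    refine congrArg Additive.ofMul (QuotientGroup.eq.2 ?_)
    rw [H.commutator_eq, mem_center_iff]
    intro q
    refine Subtype.ext ?_
    show (q : G) * ((a : G)⁻¹ * b) = (a : G)⁻¹ * b * q
    rcases h with e | e <;> rw [e]
    · simp
    · rw [inv_mul_cancel_left]; exact H.sett.comm_z q.2

theorem pv_zero_iff {a : ↥(oc t)} : pv a = 0 ↔ (a : G) = 1 ∨ (a : G) = t := by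
  rw [show (0 : QV t) = pv 1 from rfl, eq_comm, H.pv_eq_iff]
  simp

theorem exp_two (v : QV t) : v + v = 0 := by
  obtain ⟨q, rfl⟩ := pv_surj v
  rw [← pv_mul, H.pv_zero_iff]
  exact H.sett.center_cases (q * q).2 fun p hp => by
    have h2 : q ^ 2 ∈ center ↥(oc t) := Fusion.es_pow_mem_center H.es q
    rw [sq] at h2
    exact congrArg Subtype.val (mem_center_iff.1 h2 ⟨p, hp⟩)

theorem card_QV : Nat.card (QV t) = 256 := by
  have h := card_eq_card_quotient_mul_card_subgroup (commutator ↥(oc t))
  rw [H.commutator_eq, H.es.2, H.card] at h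
  have e : Nat.card (QV t) = Nat.card (↥(oc t) ⧸ center ↥(oc t)) := by
    rw [← H.commutator_eq]; rfl
  omega

theorem qact_congr {c d : ↥(centralizer ({t} : Set G))} (h : H.π c = H.π d) (v : QV t) :
    qact c v = qact d v := by
  have he : ((d⁻¹ * c : ↥(centralizer ({t} : Set G))) : G) ∈ oc t :=
    (H.ker _).1 (by rw [map_mul, map_inv, h, inv_mul_cancel])
  obtain ⟨q, rfl⟩ := pv_surj v
  have key : qact (d⁻¹ * c) (pv q) = pv q := by
    rw [qact_pv, eq_comm, H.pv_eq_iff]
    show ((d⁻¹ * c : ↥(centralizer ({t} : Set G))) : G) * q * ((d⁻¹ * c : ↥(centralizer ({t} : Set G))) : G)⁻¹ = _ ∨ _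
    rcases H.sett.commutator_cases he q.2 with e | e
    · exact Or.inl (mul_inv_eq_one.1 e)
    · refine Or.inr ?_
      exact (mul_inv_eq_iff_eq_mul.1 e).trans (H.sett.comm_z q.2).eq.symm
  conv_rhs => rw [← key]
  rw [qact_mul, mul_inv_cancel_left]

end Hyp

/-- The rotations as elements of the centraliser. -/
def Lifts.D {H : Hyp t} (L : Lifts H) (i : Fin 3) : ↥(centralizer ({t} : Set G)) :=
  ⟨L.dl i, mem_centralizer_singleton_iff.2 (L.dC i)⟩

/-- The other lifts as elements of the centraliser. -/
def Lifts.N {H : Hyp t} (L : Lifts H) (i : Fin 3) : ↥(centralizer ({t} : Set G)) :=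
  ⟨L.nl i, mem_centralizer_singleton_iff.2 (L.nC i)⟩

variable {H : Hyp t} {g x : G}

theorem Two.exists_R (T : Two H g x) (hs : H.Std x) (p : P3) (hp : p ∈ closure (Set.range ref)) :
    ∃ r : ↥(centralizer ({t} : Set G)), (r : G) ∈ oc x ∧ H.π r = p := by
  have hle : closure (Set.range ref) ≤ H.img x := (closure_le _).2 (by rintro _ ⟨i, rfl⟩; exact hs i)
  obtain ⟨c, hc, hcp⟩ := hle hp
  exact ⟨c, (mem_subgroupOf.1 hc).1, hcp⟩

theorem Two.moves (T : Two H g x) {c : ↥(centralizer ({t} : Set G))} (hc : (c : G) ∈ oc x)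
    (hne : H.π c ≠ 1) : ∃ w, ∃ hw : w ∈ oc t ⊓ oc x, qact c (pv ⟨w, hw.1⟩) ≠ pv ⟨w, hw.1⟩ := by
  by_contra h
  push Not at h
  refine hne ((H.ker c).2 (T.cent_W hc fun w hw => ?_).1)
  have hd := h w hw
  rw [qact_pv, H.pv_eq_iff] at hd
  rcases T.R_W ⟨hc, c.2⟩ hw with e | e
  · exact mul_inv_eq_iff_eq_mul.1 e
  · rcases hd with e' | e'
    · exact mul_inv_eq_iff_eq_mul.1 e'.symm
    · exfalso
      have e2 : w = (c : G) * w * (c : G)⁻¹ * t := e'
      rw [e] at e2
      have hwx : x * w = w * x := T.abel _ T.x_W _ hw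
      have h3 : w * (x * t) = w := by
        conv_rhs => rw [e2, hwx, mul_assoc]
      have h4 := mul_eq_left.1 h3
      exact T.ne (by rw [← mul_one x, ← H.tt, ← mul_assoc, h4, one_mul])

theorem Two.fpf (T : Two H g x) (hs : H.Std x) (L : Lifts H) (i : Fin 3) (v : QV t) :
    v + qact (L.D i) v + qact (L.D i) (qact (L.D i) v) = 0 := by
  classical
  have hW : (oc t ⊓ oc x).subgroupOf (oc t) ≤ (⊤ : Subgroup ↥(oc t)) := le_top
  let WV : AddSubgroup (QV t) :=
    Subgroup.toAddSubgroup (((oc t ⊓ oc x).subgroupOf (oc t)).map Abelianization.of)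
  have memW : ∀ v : QV t, v ∈ WV ↔ ∃ w, ∃ hw : w ∈ oc t ⊓ oc x, pv ⟨w, hw.1⟩ = v := by
    intro v
    constructor
    · rintro ⟨q, hq, e⟩
      exact ⟨q, mem_subgroupOf.1 hq, congrArg Additive.ofMul e⟩
    · rintro ⟨w, hw, rfl⟩
      exact ⟨⟨w, hw.1⟩, mem_subgroupOf.2 hw, rfl⟩
  have cardW : Nat.card WV = 16 := by
    set W' := (oc t ⊓ oc x).subgroupOf (oc t)
    have e : Nat.card WV = Nat.card ↥(W'.map Abelianization.of) := rfl
    have h32 : Nat.card ↥W' = 32 := by
      rw [Nat.card_congr (subgroupOfEquivOfLe inf_le_left).toEquiv, T.card_W]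
    have hk := card_mul_index ((Abelianization.of.comp W'.subtype).ker)
    rw [index_ker, MonoidHom.range_comp, range_subtype, h32] at hk
    have hker : (Abelianization.of.comp W'.subtype).ker = (center ↥(oc t)).subgroupOf W' := by
      rw [← MonoidHom.comap_ker, Abelianization.ker_of, H.commutator_eq]; rfl
    have hle : center ↥(oc t) ≤ W' := fun c hc => mem_subgroupOf.2 (by
      rcases H.sett.center_cases c.2 fun q hq => congrArg Subtype.val (mem_center_iff.1 hc ⟨q, hq⟩) with e | e <;>
        rw [e]
      exacts [one_mem _, T.t_W])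
    rw [hker, Nat.card_congr (subgroupOfEquivOfLe hle).toEquiv, H.es.2] at hk
    omega
  have stab : ∀ c : ↥(centralizer ({t} : Set G)), (c : G) ∈ oc x → ∀ v ∈ WV, qact c v ∈ WV := by
    intro c hc v hv
    obtain ⟨w, hw, rfl⟩ := (memW v).1 hv
    refine (memW _).2 ⟨(c : G) * w * (c : G)⁻¹, ⟨oc_conj_mem c.2 hw.1,
      (oc x).mul_mem ((oc x).mul_mem hc hw.2) ((oc x).inv_mem hc)⟩, rfl⟩
  have hr : ∀ i, ∃ r : ↥(centralizer ({t} : Set G)), (r : G) ∈ oc x ∧ H.π r = ref i := fun i =>
    T.exists_R hs _ (subset_closure ⟨i, rfl⟩)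
  have hrot : ∀ i, H.π (L.D i) = rot i := L.dπ
  have href : ∀ i, H.π (L.N i) = ref i := L.nπ
  let M : Mod (QV t) :=
  { d := fun i => qact (L.D i)
    a := fun i => qact (L.N i)
    exp := H.exp_two
    d3 := fun i v => by
      rw [qact_mul, qact_mul, H.qact_congr (d := 1) (by
        rw [map_mul, map_mul, hrot, map_one, ← rot_cube i, pow_succ, sq, mul_assoc]), qact_one]
    a2 := fun i v => by
      rw [qact_mul, H.qact_congr (d := 1) (by rw [map_mul, href, map_one]; exact ref_mul_self i), qact_one]
    ad := fun i v => by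
      rw [qact_mul, qact_mul, qact_mul]
      exact H.qact_congr (by simp only [map_mul, href, hrot]; rw [ref_rot, mul_assoc]) v
    adj := fun i j h v => by
      rw [qact_mul, qact_mul]
      exact H.qact_congr (by simp only [map_mul, href, hrot]; exact ref_rot_ne h) v
    dd := fun i j v => by
      rw [qact_mul, qact_mul]
      exact H.qact_congr (by simp only [map_mul, hrot]; exact rot_comm i j) v
    aa := fun i j v => by
      rw [qact_mul, qact_mul]
      exact H.qact_congr (by simp only [map_mul, href]; exact ref_comm i j) v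
    card := H.card_QV
    faith := fun i => by
      by_contra h
      push Not at h
      -- an element of order three centralising the quotient centralises the two-core
      refine rot_ne i ?_
      rw [← hrot i, H.ker]
      refine H.cent (mem_centralizer_iff.2 fun q hq => ?_)
      have h1 := h (pv ⟨q, hq⟩)
      rw [qact_pv, H.pv_eq_iff] at h1
      rcases h1 with e | e
      · exact (mul_inv_eq_iff_eq_mul.1 e.symm).symm
      · exfalso
        have e' : q = L.dl i * q * (L.dl i)⁻¹ * t := e
        have hdt : Commute (L.dl i) t := L.dC i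
        have hqt : L.dl i * q * (L.dl i)⁻¹ = q * t := by
          conv_rhs => rw [e', mul_assoc, H.tt, mul_one]
        have h3 : q = L.dl i * (L.dl i * (L.dl i * q * (L.dl i)⁻¹) * (L.dl i)⁻¹) * (L.dl i)⁻¹ := by
          have := L.d3 i
          calc q = (L.dl i * L.dl i * L.dl i) * q * (L.dl i * L.dl i * L.dl i)⁻¹ := by
                rw [this, one_mul, inv_one, mul_one]
            _ = _ := by group
        have hs : L.dl i * (q * t) * (L.dl i)⁻¹ = q := by
          rw [show L.dl i * (q * t) * (L.dl i)⁻¹ = L.dl i * q * (t * (L.dl i)⁻¹) by group,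
            ← hdt.inv_left.eq, show L.dl i * q * ((L.dl i)⁻¹ * t) = L.dl i * q * (L.dl i)⁻¹ * t by group,
            hqt, mul_assoc, H.tt, mul_one]
        rw [hqt, hs, hqt] at h3
        exact H.tne (mul_eq_left.1 h3.symm)
    W := WV
    cardW := cardW
    stab := fun i v hv => by
      obtain ⟨r, hr1, hr2⟩ := hr i
      rw [H.qact_congr (d := r) (by rw [href, hr2])]
      exact stab r hr1 v hv
    x := pv ⟨x, T.mem⟩
    xW := (memW _).2 ⟨x, T.x_W, rfl⟩
    x0 := fun h => by
      rcases H.pv_zero_iff.1 h with e | e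
      exacts [T.xne e, T.ne e]
    fix := fun i => by
      obtain ⟨r, hr1, hr2⟩ := hr i
      rw [H.qact_congr (d := r) (by rw [href, hr2]), qact_pv, H.pv_eq_iff]
      exact Or.inl ((mul_inv_eq_iff_eq_mul.2 (mem_centralizer_singleton_iff.1 (oc_le x hr1))).symm)
    only := fun v hv hfix => by
      obtain ⟨w, hw, rfl⟩ := (memW v).1 hv
      have hall : ∀ r ∈ oc x ⊓ centralizer ({t} : Set G), r * w = w * r := by
        intro r hr'
        let r' : ↥(centralizer ({t} : Set G)) := ⟨r, hr'.2⟩
        have hp : H.π r' ∈ closure (Set.range ref) := by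
          have hmem : H.π r' ∈ H.img x := ⟨r', mem_subgroupOf.2 hr', rfl⟩
          have heq : closure (Set.range ref) = H.img x := by
            refine eq_of_le_of_card_ge ((closure_le _).2 (by rintro _ ⟨i, rfl⟩; exact hs i)) ?_
            rw [show Nat.card ↥(H.img x) = 8 from T.card_image]
            let f : Fin 2 × Fin 2 × Fin 2 → ↥(closure (Set.range ref)) := fun s =>
              ⟨ref 0 ^ s.1.val * ref 1 ^ s.2.1.val * ref 2 ^ s.2.2.val, mul_mem (mul_mem
                (pow_mem (subset_closure (Set.mem_range_self 0)) _) (pow_mem (subset_closure (Set.mem_range_self 1)) _))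
                (pow_mem (subset_closure (Set.mem_range_self 2)) _)⟩
            have hf : Function.Injective f := by
              intro a b h
              have h' := congrArg Subtype.val h
              have h0 := congrFun h' 0
              have h1 := congrFun h' 1
              have h2 := congrFun h' 2
              simp [f, ref] at h0 h1 h2
              have key : ∀ m n : Fin 2, (Equiv.swap (1 : Fin 3) 2) ^ m.val = (Equiv.swap (1 : Fin 3) 2) ^ n.val → m = n := by
                decide
              exact Prod.ext (key _ _ h0) (Prod.ext (key _ _ h1) (key _ _ h2))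
            simpa using Nat.card_le_card_of_injective f hf
          rwa [heq]
        have hmod : ∀ c : ↥(centralizer ({t} : Set G)), H.π c ∈ closure (Set.range ref) →
            qact c (pv ⟨w, hw.1⟩) = pv ⟨w, hw.1⟩ := by
          intro c hc
          generalize hpc : H.π c = p at hc
          induction hc using closure_induction generalizing c with
          | mem p hp =>
            obtain ⟨i, rfl⟩ := hp
            rw [H.qact_congr (d := L.N i) (by rw [href, hpc])]
            exact hfix i
          | one => rw [H.qact_congr (d := 1) (by rw [hpc, map_one]), qact_one]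
          | mul p q _ _ hp hq =>
            obtain ⟨a, ha⟩ := H.surj p
            obtain ⟨b, hb⟩ := H.surj q
            rw [H.qact_congr (d := a * b) (by rw [hpc, map_mul, ha, hb]), ← qact_mul, hq b hb, hp a ha]
          | inv p _ hp =>
            obtain ⟨a, ha⟩ := H.surj p
            rw [H.qact_congr (d := a⁻¹) (by rw [hpc, map_inv, ha])]
            conv_lhs => rw [← hp a ha]
            rw [qact_mul, inv_mul_cancel, qact_one]
        have := hmod r' hp
        rw [qact_pv, H.pv_eq_iff] at this
        rcases T.R_W hr' hw with e | e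
        · exact mul_inv_eq_iff_eq_mul.1 e
        · rcases this with e' | e'
          · exact mul_inv_eq_iff_eq_mul.1 e'.symm
          · exfalso
            have e2 : w = r * w * r⁻¹ * t := e'
            rw [e] at e2
            have hwx : x * w = w * x := T.abel _ T.x_W _ hw
            have h3 : w * (x * t) = w := by
              conv_rhs => rw [e2, hwx, mul_assoc]
            exact T.ne (by rw [← mul_one x, ← H.tt, ← mul_assoc, mul_eq_left.1 h3, one_mul])
      rcases T.fixed_W hw hall with e | e | e | e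
      · exact Or.inl (H.pv_zero_iff.2 (Or.inl e))
      · exact Or.inl (H.pv_zero_iff.2 (Or.inr e))
      · exact Or.inr (congrArg pv (Subtype.ext e))
      · exact Or.inr ((H.pv_eq_iff).2 (Or.inr e) |>.symm)
    moves := fun i => by
      obtain ⟨r, hr1, hr2⟩ := hr i
      obtain ⟨w, hw, hne⟩ := T.moves hr1 (by
        rw [hr2, ref, ne_eq, Pi.mulSingle_eq_one_iff]; decide)
      refine ⟨pv ⟨w, hw.1⟩, (memW _).2 ⟨w, hw, rfl⟩, ?_⟩
      rw [H.qact_congr (d := r) (by rw [href, hr2])]
      exact hne
    moves₂ := fun i j hij => by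
      obtain ⟨r, hr1, hr2⟩ := T.exists_R hs _ (mul_mem (subset_closure ⟨i, rfl⟩) (subset_closure ⟨j, rfl⟩) :
        ref i * ref j ∈ closure (Set.range ref))
      obtain ⟨w, hw, hne⟩ := T.moves hr1 (fun e => by
        rw [hr2] at e
        have := congrFun e i
        simp [ref, Pi.mulSingle_eq_of_ne hij] at this)
      refine ⟨pv ⟨w, hw.1⟩, (memW _).2 ⟨w, hw, rfl⟩, ?_⟩
      rw [qact_mul, H.qact_congr (d := r) (by rw [map_mul, href, href, hr2])]
      exact hne }
  exact M.fpf i v

end Cfsg.Agent.OEightRec
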