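import Cfsg.Agent.OEightRec.Bound
import Cfsg.Agent.LargeExtra.FourGroup
import Cfsg.Agent.Layer.PConstraint
import Cfsg.Agent.S3300

/-!
An involution `t` with `O_2(C(t))` extraspecial of order `2^9` and `C(t)/O_2(C(t))` a direct product
of three symmetric groups of degree three.
-/

set_option autoImplicit false

namespace Cfsg.Agent.OEightRec

open Subgroup Cfsg Cfsg.Agent.LargeExtra

/-- The direct product of three symmetric groups of degree three. -/
abbrev P3 : Type := Fin 3 → Equiv.Perm (Fin 3)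

theorem card_P3 : Nat.card P3 = 216 := by
  rw [Nat.card_eq_fintype_card, Fintype.card_pi]; simp [Fintype.card_perm, Nat.factorial]

/-- The hypotheses. -/
structure Hyp {G : Type*} [Group G] [Finite G] (t : G) where
  res : Cfsg.pResidual 2 G = ⊤
  ord : orderOf t = 2
  es : IsExtraspecial 2 ↥(oc t)
  cent : centralizer ((oc t : Subgroup G) : Set G) ≤ oc t
  card : Nat.card ↥(oc t) = 512
  /-- the quotient map -/
  π : ↥(centralizer ({t} : Set G)) →* P3
  surj : Function.Surjective π
  ker : ∀ c, π c = 1 ↔ (c : G) ∈ oc t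

variable {G : Type*} [Group G] [Finite G]

/-- The hypotheses from the statement. -/
theorem exists_hyp (hG : Cfsg.pResidual 2 G = ⊤) (t : G) (ht : orderOf t = 2)
    (C : Subgroup G) (hC : C = centralizer ({t} : Set G))
    (hF : IsExtraspecial 2 (generalizedFittingSubgroup C))
    (hFcard : Nat.card (generalizedFittingSubgroup C) = 2 ^ 9)
    (e : C ⧸ pCore 2 C ≃* Equiv.Perm (Fin 3) × Equiv.Perm (Fin 3) × Equiv.Perm (Fin 3))
    (hcc : centralizer (((pCore 2 C).map C.subtype : Subgroup G) : Set G) ≤ (pCore 2 C).map C.subtype) :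
    Nonempty (Hyp t) := by
  subst hC
  have : Fact (Nat.Prime 2) := ⟨Nat.prime_two⟩
  set C := centralizer ({t} : Set G)
  have hsc : Layer.PCoreSelfCentral 2 ↥C := by
    intro c hc
    have h1 : (c : G) ∈ (pCore 2 C).map C.subtype := hcc (mem_centralizer_iff.2 (by
      rintro _ ⟨q, hq, rfl⟩
      exact congrArg Subtype.val (mem_centralizer_iff.1 hc q hq)))
    obtain ⟨q, hq, hqc⟩ := h1
    rwa [← Subtype.ext (show (q : G) = c from hqc)]
  have hFQ := Layer.generalizedFitting_eq_pCore_iff.2 hsc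
  rw [hFQ] at hF hFcard
  let em := equivMapOfInjective (pCore 2 ↥C) C.subtype C.subtype_injective
  let f : Equiv.Perm (Fin 3) × Equiv.Perm (Fin 3) × Equiv.Perm (Fin 3) →* P3 :=
    { toFun := fun p => ![p.1, p.2.1, p.2.2]
      map_one' := by funext i; fin_cases i <;> rfl
      map_mul' := fun p q => by funext i; fin_cases i <;> rfl }
  have hf : Function.Bijective f := by
    constructor
    · intro p q h
      exact Prod.ext (congrFun h 0) (Prod.ext (congrFun h 1) (congrFun h 2))
    · intro p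
      exact ⟨(p 0, p 1, p 2), by funext i; fin_cases i <;> rfl⟩
  refine ⟨⟨hG, ht, ?_, hcc, ?_, f.comp (e.toMonoidHom.comp (QuotientGroup.mk' _)),
    hf.2.comp (e.surjective.comp (QuotientGroup.mk'_surjective _)), fun c => ?_⟩⟩
  · exact LargeExtra.extraspecial_congr em hF
  · rw [show oc t = (pCore 2 ↥C).map C.subtype from rfl, ← Nat.card_congr em.toEquiv, hFcard]
    norm_num
  · rw [MonoidHom.comp_apply, MonoidHom.comp_apply, ← map_one f, hf.1.eq_iff, MulEquiv.coe_toMonoidHom,
      MulEquiv.map_eq_one_iff, QuotientGroup.mk'_apply, QuotientGroup.eq_one_iff]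
    exact ⟨fun h => ⟨c, h, rfl⟩, fun ⟨q, hq, hqc⟩ => Subtype.ext (show (q : G) = c from hqc) ▸ hq⟩

namespace Hyp

variable {t : G} (H : Hyp t)
include H

theorem sett : Setting t := ⟨H.ord, H.es, H.cent⟩

theorem tmem : t ∈ oc t := mem_oc_self H.ord

theorem tt : t * t = 1 := H.sett.sq_one

theorem tne : t ≠ 1 := H.sett.ne_one

theorem nrm : centralizer ({t} : Set G) ≤ normalizer (oc t : Set G) := fun c hc =>
  mem_normalizer_iff.2 fun q => ⟨oc_conj_mem hc, fun hq => by
    have := oc_conj_mem (inv_mem hc) hq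
    simpa [mul_assoc] using this⟩

/-- A second conjugate of `t` lies in the two-core of its centraliser. -/
theorem exists_conj : ∃ g : G, g * t * g⁻¹ ∈ oc t ∧ g * t * g⁻¹ ≠ t := by
  have : Fact (Nat.Prime 2) := ⟨Nat.prime_two⟩
  set C := centralizer ({t} : Set G)
  let ψ : ↥C →* ℤˣ := (Equiv.Perm.sign).comp ((Pi.evalMonoidHom (fun _ : Fin 3 => Equiv.Perm (Fin 3)) 0).comp H.π)
  have hψ : Function.Surjective ψ := Equiv.Perm.sign_surjective (Fin 3) |>.comp
    (fun p => let ⟨c, hc⟩ := H.surj (fun _ => p); ⟨c, congrFun hc 0⟩)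
  set K : Subgroup G := ψ.ker.map C.subtype
  refine S3300.result H.res t H.ord (oc t) rfl H.es H.cent 4 (by norm_num)
    (by rw [H.card]; norm_num) K (map_subtype_le _) (fun h hh => ?_) ?_
  · ext y
    simp only [K, Subgroup.mem_map, MulEquiv.coe_toMonoidHom, MulAut.conj_apply, MonoidHom.mem_ker]
    constructor
    · rintro ⟨_, ⟨a, ha, rfl⟩, rfl⟩
      exact ⟨⟨h, hh⟩ * a * ⟨h, hh⟩⁻¹, by rw [map_mul, map_mul, ha, mul_one, map_inv, mul_inv_cancel], rfl⟩
    · rintro ⟨a, ha, rfl⟩
      refine ⟨_, ⟨⟨h, hh⟩⁻¹ * a * ⟨h, hh⟩, by rw [map_mul, map_mul, ha, mul_one, map_inv, inv_mul_cancel], rfl⟩, ?_⟩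
      simp [mul_assoc]
  · rw [relIndex, show K.subgroupOf C = ψ.ker from comap_map_eq_self_of_injective C.subtype_injective _,
      index_ker, MonoidHom.range_eq_top.2 hψ, card_top, Nat.card_eq_fintype_card]
    rfl

/-- A 2-subgroup of the centraliser covers at most a Sylow subgroup of the quotient. -/
theorem card_two_le {S : Subgroup G} (hS : IsPGroup 2 ↥S) (hle : S ≤ centralizer ({t} : Set G)) :
    Nat.card ↥S ≤ 8 * Nat.card ↥(S ⊓ oc t : Subgroup G) := by
  have : Fact (Nat.Prime 2) := ⟨Nat.prime_two⟩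
  set ψ : ↥S →* P3 := H.π.comp (inclusion hle)
  have hk : ψ.ker = (S ⊓ oc t).subgroupOf S := by
    ext s
    rw [MonoidHom.mem_ker, mem_subgroupOf, mem_inf, and_iff_right s.2]
    exact H.ker _
  have hr : Nat.card ↥ψ.range ≤ 8 := by
    have hp : IsPGroup 2 ↥ψ.range := hS.of_surjective ψ.rangeRestrict ψ.rangeRestrict_surjective
    obtain ⟨k, hk⟩ := IsPGroup.iff_card.1 hp
    have h1 : 2 ^ k ∣ 216 := card_P3 ▸ hk ▸ card_subgroup_dvd_card _
    rw [hk]
    have h3 : k ≤ 3 := by
      by_contra hlt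
      have := (Nat.pow_dvd_pow 2 (show 4 ≤ k by omega)).trans h1
      norm_num at this
    calc 2 ^ k ≤ 2 ^ 3 := Nat.pow_le_pow_right (by norm_num) h3
      _ = 8 := by norm_num
  calc Nat.card ↥S = Nat.card ↥ψ.ker * ψ.ker.index := (card_mul_index _).symm
    _ ≤ Nat.card ↥(S ⊓ oc t : Subgroup G) * 8 := by
      rw [index_ker, hk, Nat.card_congr (subgroupOfEquivOfLe inf_le_left).toEquiv]
      exact Nat.mul_le_mul_left _ hr
    _ = _ := mul_comm _ _

/-- The bound on abelian subgroups of the two-core. -/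
theorem card_abel_le {A : Subgroup G} (hle : A ≤ oc t) (hA : ∀ a ∈ A, ∀ b ∈ A, a * b = b * a) :
    Nat.card ↥A ≤ 32 := by
  have h := card_sq_le H.es (A.subgroupOf (oc t)) fun a ha b hb => Subtype.ext (hA _ ha _ hb)
  rw [Nat.card_congr (subgroupOfEquivOfLe hle).toEquiv, H.card] at h
  by_contra hlt
  have := Nat.mul_le_mul (show 33 ≤ Nat.card ↥A by omega) (show 33 ≤ Nat.card ↥A by omega)
  omega

/-- A self-centralising abelian subgroup of order 32. -/
theorem centralizer_abel {A : Subgroup G} (hle : A ≤ oc t) (hA : ∀ a ∈ A, ∀ b ∈ A, a * b = b * a)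
    (hc : Nat.card ↥A = 32) {q : G} (hq : q ∈ oc t) (hqA : ∀ a ∈ A, q * a = a * q) : q ∈ A := by
  have hle' : A ⊔ zpowers q ≤ oc t := sup_le hle (zpowers_le.2 hq)
  have hcomm : A ⊔ zpowers q ≤ centralizer ((A ⊔ zpowers q : Subgroup G) : Set G) := by
    have h1 : A ⊔ zpowers q ≤ centralizer (A : Set G) := sup_le
      (fun a ha => mem_centralizer_iff.2 fun b hb => hA b hb a ha)
      (zpowers_le.2 (mem_centralizer_iff.2 fun b hb => (hqA b hb).symm))
    have h2 : A ⊔ zpowers q ≤ centralizer ({q} : Set G) := sup_le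
      (fun a ha => mem_centralizer_singleton_iff.2 (hqA a ha).symm)
      (zpowers_le.2 (mem_centralizer_singleton_iff.2 rfl))
    refine sup_le (fun a ha => mem_centralizer_iff.2 fun y hy => (mem_centralizer_iff.1 (h1 hy) a ha).symm) ?_
    exact zpowers_le.2 (mem_centralizer_iff.2 fun y hy => mem_centralizer_singleton_iff.1 (h2 hy))
  have h := H.card_abel_le hle' fun a ha b hb => (mem_centralizer_iff.1 (hcomm ha) b hb).symm
  rw [eq_of_le_of_card_ge (le_sup_left : A ≤ A ⊔ zpowers q) (by omega)]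
  exact mem_sup_right (mem_zpowers q)

end Hyp

end Cfsg.Agent.OEightRec
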