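import Cfsg.Agent.ExtraPair.Basic

/-!
An abelian subgroup of an extraspecial 2-group `E` has order `a` with `a * a ≤ 2 * |E|`.
-/

set_option autoImplicit false

namespace Cfsg.Agent.OEightRec

open Subgroup Cfsg

variable {E : Type*} [Group E] [Finite E]

theorem card_mul_centralizer_le (h : IsExtraspecial 2 E) :
    ∀ A : Subgroup E, center E ≤ A →
      Nat.card A * Nat.card ↥(centralizer (A : Set E)) ≤ 2 * Nat.card E := by
  classical
  intro A
  induction hn : Nat.card A using Nat.strong_induction_on generalizing A with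
  | _ m IH =>
  subst hn
  intro hZ
  rcases hZ.eq_or_lt with rfl | hlt
  · rw [h.2]
    exact Nat.mul_le_mul_left 2 (Nat.le_of_dvd Nat.card_pos (card_subgroup_dvd_card _))
  obtain ⟨x, hxA, hxZ⟩ := SetLike.exists_of_lt hlt
  obtain ⟨M, hZM, hxM, hidx⟩ := ExtraPair.exists_index_two h le_rfl hxZ
  set B := A ⊓ M with hB
  have hBA : B ≤ A := inf_le_left
  have hrel : B.relIndex A = 2 := by
    rw [hB, inf_relIndex_left, relIndex]
    rw [index_eq_two_iff]
    refine ⟨⟨x, hxA⟩, fun b => ?_⟩
    simp only [mem_subgroupOf, Subgroup.coe_mul]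
    by_cases hb : (b : E) ∈ M
    · exact Or.inr ⟨hb, fun hc => hxM ((mul_mem_cancel_left hb).1 hc)⟩
    · exact Or.inl ⟨(mul_mem_iff_of_index_two hidx).2 (iff_of_false hb hxM), hb⟩
  have hcard : Nat.card B * 2 = Nat.card A := by
    rw [← hrel, relIndex, ← Nat.card_congr (subgroupOfEquivOfLe hBA).toEquiv, card_mul_index]
  have hC : centralizer (A : Set E) < centralizer (B : Set E) := by
    refine lt_of_le_of_ne (centralizer_le hBA) fun he => hxM ?_
    have := ExtraPair.centralizer_centralizer_le h (H := B) (le_inf hZ hZM) (x := x) (by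
      rw [← he, mem_centralizer_iff]
      exact fun c hc => (mem_centralizer_iff.1 hc x hxA).symm)
    exact this.2
  have h2 : 2 * Nat.card ↥(centralizer (A : Set E)) ≤ Nat.card ↥(centralizer (B : Set E)) := by
    obtain ⟨k, hk⟩ := card_dvd_of_le hC.le
    rcases Nat.lt_or_ge k 2 with hk2 | hk2
    · refine absurd (eq_of_le_of_card_ge hC.le ?_) hC.ne
      rw [hk]
      interval_cases k
      · simp
      · simp
    · rw [hk, mul_comm]
      exact Nat.mul_le_mul_left _ hk2
  have hIH := IH (Nat.card B) (by have := Nat.card_pos (α := B); omega) B rfl (le_inf hZ hZM)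
  calc Nat.card A * Nat.card ↥(centralizer (A : Set E))
      = Nat.card B * (2 * Nat.card ↥(centralizer (A : Set E))) := by rw [← hcard]; ring
    _ ≤ Nat.card B * Nat.card ↥(centralizer (B : Set E)) := Nat.mul_le_mul_left _ h2
    _ ≤ _ := hIH

/-- The bound on abelian subgroups. -/
theorem card_sq_le (h : IsExtraspecial 2 E) (A : Subgroup E) (hA : ∀ a ∈ A, ∀ b ∈ A, a * b = b * a) :
    Nat.card A * Nat.card A ≤ 2 * Nat.card E := by
  set A' := A ⊔ center E with hA'
  have hcomm : A' ≤ centralizer (A' : Set E) := by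
    rw [hA', sup_le_iff]
    constructor
    · intro a ha
      rw [mem_centralizer_iff]
      intro y hy
      have : A' ≤ centralizer ({a} : Set E) := sup_le
        (fun b hb => mem_centralizer_singleton_iff.2 (hA b hb a ha))
        (fun c hc => mem_centralizer_singleton_iff.2 (mem_center_iff.1 hc a).symm)
      exact mem_centralizer_singleton_iff.1 (this hy)
    · exact Subgroup.center_le_centralizer _
  have h1 := card_mul_centralizer_le h A' le_sup_right
  have h2 : Nat.card A ≤ Nat.card A' := card_le_of_le le_sup_left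
  have h3 : Nat.card A' ≤ Nat.card ↥(centralizer (A' : Set E)) := card_le_of_le hcomm
  exact le_trans (Nat.mul_le_mul h2 (h2.trans h3)) h1

end Cfsg.Agent.OEightRec
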