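import Mathlib

/-!
The centraliser model: a normal form `q · m` with `q` in an extraspecial group of order 512 written
on nine bits and `m` in a direct product of three dihedral groups of order six.
-/

set_option autoImplicit false

namespace Cfsg.Agent.OEightRec

/-- The commutator form on the generators. -/
def comB (S T : ℕ) : Bool := S ^^^ T == 7

/-- The cocycle of the ordered products. -/
def beta (a b : ℕ) : Bool :=
  ((a.testBit 4 && b.testBit 3) ^^ (a.testBit 5 && b.testBit 2)) ^^
    ((a.testBit 6 && b.testBit 1) ^^ (a.testBit 7 && b.testBit 0))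

/-- The product in the two-core. -/
def mz (a b : ℕ) : ℕ :=
  ((a % 256) ^^^ (b % 256)) + 256 * ((a / 256 + b / 256 + (beta (a % 256) (b % 256)).toNat) % 2)

/-- The inverse in the two-core. -/
def invz (a : ℕ) : ℕ := a % 256 + 256 * ((a / 256 + (beta (a % 256) (a % 256)).toNat) % 2)

/-- The image of a generator under a rotation. -/
def gd (i S : ℕ) : ℕ := if S.testBit i then mz (2 ^ (S ^^^ 2 ^ i)) (2 ^ S) else 2 ^ (S ^^^ 2 ^ i)

/-- The image of a generator under a reflection. -/
def gn (i S : ℕ) : ℕ := if S.testBit i then mz (2 ^ (S ^^^ 2 ^ i)) (2 ^ S) else 2 ^ S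

/-- The extension of a map on the generators. -/
def extz (img : ℕ → ℕ) : ℕ → ℕ → ℕ
  | 0, _ => 0
  | k + 1, z => if z.testBit k then mz (extz img k z) (img k) else extz img k z

/-- The extension to the whole two-core. -/
def applyz (img : ℕ → ℕ) (z : ℕ) : ℕ := mz (extz img 8 (z % 256)) (256 * ((z / 256) % 2))

/-- A rotation on the two-core. -/
def ad (i z : ℕ) : ℕ := applyz (gd i) z

/-- A reflection on the two-core. -/
def an (i z : ℕ) : ℕ := applyz (gn i) z

/-- One factor on the two-core. -/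
def act1 (i m z : ℕ) : ℕ :=
  let w := if m < 3 then z else an i z
  if m % 3 == 0 then w else if m % 3 == 1 then ad i w else ad i (ad i w)

/-- The action of the top group. -/
def actm (m z : ℕ) : ℕ := act1 0 (m % 6) (act1 1 (m / 6 % 6) (act1 2 (m / 36 % 6) z))

/-- The product in one factor. -/
def mm1 (a b : ℕ) : ℕ :=
  (if a < 3 then (a % 3 + b % 3) % 3 else (a % 3 + 3 - b % 3) % 3) + 3 * ((a / 3 + b / 3) % 2)

/-- The inverse in one factor. -/
def invm1 (a : ℕ) : ℕ := if a < 3 then (3 - a) % 3 else a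

/-- The product in the top group. -/
def mmul (a b : ℕ) : ℕ :=
  mm1 (a % 6) (b % 6) + 6 * mm1 (a / 6 % 6) (b / 6 % 6) + 36 * mm1 (a / 36 % 6) (b / 36 % 6)

/-- The inverse in the top group. -/
def minv (a : ℕ) : ℕ := invm1 (a % 6) + 6 * invm1 (a / 6 % 6) + 36 * invm1 (a / 36 % 6)

/-- The product. -/
def cmul (c d : ℕ) : ℕ := mz (c % 512) (actm (c / 512) (d % 512)) + 512 * mmul (c / 512) (d / 512)

/-- The inverse. -/
def cinv (c : ℕ) : ℕ := actm (minv (c / 512)) (invz (c % 512)) + 512 * minv (c / 512)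

/-- The generator of index `S` of the two-core. -/
def cq (S : ℕ) : ℕ := 2 ^ S

/-- The central involution. -/
def ct : ℕ := 256

/-- A rotation. -/
def cd (i : ℕ) : ℕ := 512 * 6 ^ i

/-- A reflection. -/
def cn (i : ℕ) : ℕ := 512 * (3 * 6 ^ i)

theorem beta_step : ∀ T : Fin 8, ∀ a : Fin 256, ∀ b : Fin (2 ^ T.val),
    ((a.val ^^^ b.val) ^^^ 2 ^ T.val = a.val ^^^ (b.val + 2 ^ T.val)) ∧
      (beta a.val b.val ^^ beta (a.val ^^^ b.val) (2 ^ T.val)) = beta a.val (b.val + 2 ^ T.val) := by
  decide +kernel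

end Cfsg.Agent.OEightRec
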