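import Cfsg.Agent.OEightRec.Code

/-!
The swapper table: the image of a code under the exchange of `t` and `x`.
-/

set_option autoImplicit false

namespace Cfsg.Agent.OEightRec

/-- The image of a generator of `C(t) ∩ C(x)` from the two-core: index 8 stands for `t`. -/
def phiq (S : ℕ) : ℕ :=
  if S == 8 then 1 else if S == 0 then 256 else if S == 1 then 2 else if S == 2 then 4
  else if S == 4 then 16 else if S == 6 then cn 0 else if S == 5 then cn 1 else if S == 3 then cn 2 else 0

/-- The exchange of `t` and `x` on the centraliser of both: the bits of the two-core part in order, then the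
three reflections. -/
def phi (c : ℕ) : ℕ :=
  let z := c % 512
  let m := c / 512
  let step := fun (acc S : ℕ) => if z.testBit S then cmul acc (phiq S) else acc
  let a := [0, 1, 2, 3, 4, 5, 6, 8].foldl step 0
  let a := if m % 6 == 3 then cmul a 64 else a
  let a := if m / 6 % 6 == 3 then cmul a 32 else a
  if m / 36 % 6 == 3 then cmul a 8 else a

/-- Codes of the elements centralising `x` as well. -/
def inTx (c : ℕ) : Bool := cmul c 1 == cmul 1 c

end Cfsg.Agent.OEightRec
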