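import Cfsg.Agent.OEightRec.Gens
import Cfsg.Agent.OEightRec.CodeFacts

/-!
The centraliser of `t` is the image of the model.
-/

set_option autoImplicit false
set_option maxHeartbeats 1000000

namespace Cfsg.Agent.OEightRec

open Subgroup Cfsg Cfsg.Agent.LargeExtra

/-- The centraliser model inside a group, with an element exchanging `t` and `x`: everything the
later stages use. -/
structure Locl {G : Type*} [Group G] (t x h : G) (f : ℕ → G) : Prop where
  mul : ∀ a < 110592, ∀ b < 110592, f (cmul a b) = f a * f b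
  inj : ∀ a < 110592, ∀ b < 110592, f a = f b → a = b
  mem : ∀ a < 110592, f a * t = t * f a
  surj : ∀ g : G, g * t = t * g → ∃ a < 110592, f a = g
  ft : f 256 = t
  fx : f 1 = x
  hh : ∀ a < 110592, inTx a = true → h * f a * h⁻¹ = f (phi a)
  h2 : h * h = 1
  conj : ∀ g : G, g * t * g⁻¹ ≠ t → (∃ a < 512, f a = g * t * g⁻¹) →
    ∃ c < 110592, g * t * g⁻¹ = f c * x * (f c)⁻¹

variable {G : Type*} [Group G] [Finite G] {t : G}

theorem actm_lt : ∀ (i : Fin 3) (z : Fin 512), ad i.val z.val < 512 ∧ an i.val z.val < 512 := by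
  decide +kernel

theorem mz_lt (a b : ℕ) : mz a b < 512 := by
  have h : (a % 256) ^^^ (b % 256) < 256 :=
    Nat.xor_lt_two_pow (n := 8) (Nat.mod_lt _ (by norm_num)) (Nat.mod_lt _ (by norm_num))
  unfold mz
  omega

theorem mm1_lt (a b : ℕ) : mm1 a b < 6 := by unfold mm1; split_ifs <;> omega

theorem mmul_lt (a b : ℕ) : mmul a b < 216 := by
  have := mm1_lt (a % 6) (b % 6)
  have := mm1_lt (a / 6 % 6) (b / 6 % 6)
  have := mm1_lt (a / 36 % 6) (b / 36 % 6)
  unfold mmul; omega

theorem cmul_lt (a b : ℕ) : cmul a b < 110592 := by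
  have := mz_lt (a % 512) (actm (a / 512) (b % 512))
  have := mmul_lt (a / 512) (b / 512)
  unfold cmul; omega

namespace Frame

variable {H : Hyp t} {L : Lifts H} {g x : G} (F : Frame L g x)

/-- The element of the two-core with a given code. -/
def iz (z : ℕ) : G := F.prd 8 (z % 256) * zb t ((z / 256) % 2 == 1)

/-- The element of one factor of the top. -/
def top1 (_F : Frame L g x) (i : Fin 3) (m : ℕ) : G := L.dl i ^ (m % 3) * L.nl i ^ (m / 3 % 2)

/-- The element of the top with a given code. -/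
def top (m : ℕ) : G := F.top1 0 (m % 6) * F.top1 1 (m / 6 % 6) * F.top1 2 (m / 36 % 6)

/-- The element with a given code. -/
def el (c : ℕ) : G := F.iz (c % 512) * F.top (c / 512)

include F

theorem prd_congr {a b : ℕ} : ∀ k, (∀ S < k, a.testBit S = b.testBit S) → F.prd k a = F.prd k b := by
  intro k hk
  induction k with
  | zero => rfl
  | succ k ih =>
    simp only [prd, hk k (by omega), ih fun S hS => hk S (by omega)]

theorem qs_comm {S T : ℕ} (hS : S < 8) (hT : T < 8) :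
    F.qs S * F.qs T = zb t (comB S T) * (F.qs T * F.qs S) := F.com_all S T hS hT

theorem zb_mul (a b : Bool) : zb t a * zb t b = zb t (a ^^ b) := by
  cases a <;> cases b <;> simp [zb, H.tt]

theorem prd_t (k a : ℕ) (b : Bool) : Commute (F.prd k a) (zb t b) :=
  zb_comm b (H.sett.comm_z (F.prd_mem k a)).eq

/-- The sign created when a generator moves to its place. -/
def psign (a T : ℕ) : ℕ → Bool
  | 0 => false
  | k + 1 => psign a T k ^^ (decide (T < k) && a.testBit k && comB k T)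

theorem prd_push {a T : ℕ} (hT : T < 8) : ∀ k, T < k → k ≤ 8 →
    F.prd k a * F.qs T = F.prd k (a ^^^ 2 ^ T) * zb t (psign a T k) := by
  intro k
  induction k with
  | zero => intro h; omega
  | succ k ih =>
    intro hTk hk
    rcases Nat.lt_or_ge T k with hlt | hge
    · have hbit : (a ^^^ 2 ^ T).testBit k = a.testBit k := by
        rw [Nat.testBit_xor, Nat.testBit_two_pow_of_ne (by omega)]; simp
      have hih := ih hlt (by omega)
      simp only [prd, psign, hbit, decide_eq_true hlt, Bool.true_and]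
      cases hb : a.testBit k
      · simpa [hb] using hih
      · simp only [if_true, Bool.true_and]
        have hz : Commute (F.qs k) (zb t (psign a T k)) := zb_comm _ (F.t_comm k).eq
        have hc : Commute (zb t (comB k T)) (F.qs T * F.qs k) :=
          (zb_comm _ ((F.t_comm T).mul_left (F.t_comm k)).eq).symm
        rw [mul_assoc, F.qs_comm (by omega) hT, hc.eq, ← mul_assoc, ← mul_assoc, hih, mul_assoc _ (zb t _),
          ← hz.eq, ← mul_assoc, mul_assoc, F.zb_mul]
    · obtain rfl : T = k := by omega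
      have hp : psign a T (T + 1) = false := by
        have h0 : ∀ j, j ≤ T → psign a T j = false := by
          intro j hj
          induction j with
          | zero => rfl
          | succ j ih =>
            simp only [psign, ih (by omega), decide_eq_false (show ¬ T < j by omega), Bool.false_and, Bool.xor_false]
        simp [psign, h0 T le_rfl]
      have hbit : (a ^^^ 2 ^ T).testBit T = !a.testBit T := by
        rw [Nat.testBit_xor, Nat.testBit_two_pow_self]; simp
      have hcg : F.prd T (a ^^^ 2 ^ T) = F.prd T a := F.prd_congr T fun S hS => by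
        rw [Nat.testBit_xor, Nat.testBit_two_pow_of_ne (by omega)]; simp
      rw [hp]
      simp only [prd, hbit, hcg]
      cases a.testBit T <;> simp [zb, mul_assoc, F.qs_sq]

theorem prd_mul : ∀ b : Fin 256, ∀ a : Fin 256,
    F.prd 8 a.val * F.prd 8 b.val = F.prd 8 (a.val ^^^ b.val) * zb t (beta a.val b.val) := by
  suffices h : ∀ k, k ≤ 8 → ∀ b : ℕ, b < 2 ^ k → ∀ a : Fin 256,
      F.prd 8 a.val * F.prd 8 b = F.prd 8 (a.val ^^^ b) * zb t (beta a.val b) from
    fun b a => h 8 le_rfl b.val b.2 a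
  intro k
  induction k with
  | zero =>
    intro _ b hb a
    obtain rfl : b = 0 := by simpa using hb
    have h0 : ∀ j, F.prd j 0 = 1 := fun j => by induction j with
      | zero => rfl
      | succ j ih => simp [prd, ih]
    simp [h0, beta, zb]
  | succ k ih =>
    intro hk b hb a
    by_cases hlt : b < 2 ^ k
    · exact ih (by omega) b hlt a
    obtain ⟨b', rfl⟩ : ∃ b', b = b' + 2 ^ k := ⟨b - 2 ^ k, by omega⟩
    have hb' : b' < 2 ^ k := by rw [pow_succ] at hb; omega
    have hk8 : k < 8 := by omega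
    obtain ⟨hx, hbeta⟩ := beta_step ⟨k, hk8⟩ a ⟨b', hb'⟩
    simp only at hx hbeta
    have hsplit : F.prd 8 (b' + 2 ^ k) = F.prd 8 b' * F.qs k := by
      have hlow : ∀ S, k < S → b'.testBit S = false := fun S hS =>
        Nat.testBit_lt_two_pow (lt_of_lt_of_le hb' (Nat.pow_le_pow_right (by norm_num) hS.le))
      have hkbit : b'.testBit k = false := Nat.testBit_lt_two_pow hb'
      have hadd : b' + 2 ^ k = b' ^^^ 2 ^ k := by
        have key : ∀ T : Fin 8, ∀ c : Fin (2 ^ T.val), c.val + 2 ^ T.val = c.val ^^^ 2 ^ T.val := by decide +kernel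
        exact key ⟨k, hk8⟩ ⟨b', hb'⟩
      have hs := F.prd_push (a := b') hk8 8 hk8 le_rfl
      have hs0 : ∀ j, psign b' k j = false := by
        intro j
        induction j with
        | zero => rfl
        | succ j ih =>
          simp only [psign, ih, Bool.false_xor]
          rcases Nat.lt_or_ge k j with h | h
          · simp [hlow j h]
          · simp [decide_eq_false (show ¬ k < j by omega)]
      rw [hs0, ← hadd] at hs
      simpa [zb] using hs.symm
    have hxl : a.val ^^^ b' < 256 := Nat.xor_lt_two_pow (n := 8) a.2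
      (lt_of_lt_of_le hb' (Nat.pow_le_pow_right (by norm_num) (by omega)))
    rw [hsplit, ← mul_assoc, ih (by omega) b' hb' a, mul_assoc,
      ← (zb_comm (beta a.val b') (F.t_comm k).eq).eq, ← mul_assoc, F.prd_push hk8 8 hk8 le_rfl, hx,
      mul_assoc, F.zb_mul, ← hbeta]
    congr 2
    have key : ∀ c : Fin 256, ∀ T : Fin 8, psign c.val T.val 8 = beta c.val (2 ^ T.val) := by decide +kernel
    rw [key ⟨_, hxl⟩ ⟨k, hk8⟩, Bool.xor_comm]

theorem iz_mul (a b : ℕ) : F.iz a * F.iz b = F.iz (mz a b) := by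
  have ha : a % 256 < 256 := Nat.mod_lt _ (by norm_num)
  have hb : b % 256 < 256 := Nat.mod_lt _ (by norm_num)
  have hxl : (a % 256) ^^^ (b % 256) < 256 := Nat.xor_lt_two_pow (n := 8) ha hb
  set e := ((a / 256 + b / 256 + (beta (a % 256) (b % 256)).toNat) % 2) with he
  have e1 : mz a b % 256 = (a % 256) ^^^ (b % 256) := by unfold mz; omega
  have e2 : mz a b / 256 % 2 = e := by unfold mz; omega
  rw [iz, iz, iz, e1, e2, mul_assoc, ← mul_assoc (zb t _) (F.prd 8 _), ← (F.prd_t 8 _ _).eq, ← mul_assoc,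
    ← mul_assoc, F.prd_mul ⟨_, hb⟩ ⟨_, ha⟩, mul_assoc, mul_assoc, F.zb_mul, F.zb_mul]
  congr 2
  rw [he]
  rcases Nat.mod_two_eq_zero_or_one (a / 256) with h1 | h1 <;>
    rcases Nat.mod_two_eq_zero_or_one (b / 256) with h2 | h2 <;>
    cases beta (a % 256) (b % 256) <;> simp [Nat.add_mod, h1, h2]

theorem iz_two_pow {S : ℕ} (hS : S < 8) : F.iz (2 ^ S) = F.qs S := by
  interval_cases S <;> simp [iz, prd, zb, Nat.testBit, Nat.shiftRight_eq_div_pow]

theorem iz_t : F.iz 256 = t := by simp [iz, prd, zb]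

theorem iz_zero : F.iz 0 = 1 := by simp [iz, prd, zb]

theorem iz_conj {c : G} (hc : c * t = t * c) (img : ℕ → ℕ)
    (h : ∀ S < 8, c * F.qs S * c⁻¹ = F.iz (img S)) (z : ℕ) (hz : z < 512) :
    c * F.iz z * c⁻¹ = F.iz (applyz img z) := by
  have hk : ∀ k, k ≤ 8 → c * F.prd k (z % 256) * c⁻¹ = F.iz (extz img k (z % 256)) := by
    intro k hk
    induction k with
    | zero => simp [prd, extz, F.iz_zero]
    | succ k ih =>
      simp only [prd, extz]
      split_ifs
      · rw [← F.iz_mul, ← ih (by omega), ← h k (by omega)]; group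
      · exact ih (by omega)
  have he : zb t ((z / 256) % 2 == 1) = F.iz (256 * (z / 256 % 2)) := by
    rcases Nat.mod_two_eq_zero_or_one (z / 256) with e | e <;> rw [e]
    · simp [F.iz_zero, zb]
    · simp [F.iz_t, zb]
  rw [applyz, ← F.iz_mul, ← hk 8 le_rfl, ← he]
  have hz' : Commute c (zb t ((z / 256) % 2 == 1)) := zb_comm _ hc
  conv_lhs => rw [iz, ← mul_assoc, mul_assoc _ (zb t _), ← hz'.inv_left.eq, ← mul_assoc]

theorem conj_dl (i : Fin 3) {z : ℕ} (hz : z < 512) : L.dl i * F.iz z * (L.dl i)⁻¹ = F.iz (ad i.val z) := by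
  refine F.iz_conj (L.dC i) _ (fun S hS => ?_) z hz
  have hT : S ^^^ 2 ^ i.val < 8 := Nat.xor_lt_two_pow (n := 3) hS (by fin_cases i <;> norm_num)
  cases hb : S.testBit i.val
  · rw [F.conj_up hS hb, gd, if_neg (by simp [hb]), F.iz_two_pow hT]
  · rw [F.conj_down hS hb, gd, if_pos hb, ← F.iz_mul, F.iz_two_pow hT, F.iz_two_pow hS]

theorem conj_nl (i : Fin 3) {z : ℕ} (hz : z < 512) : L.nl i * F.iz z * (L.nl i)⁻¹ = F.iz (an i.val z) := by
  refine F.iz_conj (L.nC i) _ (fun S hS => ?_) z hz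
  have hT : S ^^^ 2 ^ i.val < 8 := Nat.xor_lt_two_pow (n := 3) hS (by fin_cases i <;> norm_num)
  rw [F.conj_n hS i, gn]
  split_ifs with hb
  · rw [← F.iz_mul, F.iz_two_pow hT, F.iz_two_pow hS]
  · rw [F.iz_two_pow hS]

theorem conj_top1 (i : Fin 3) {m : ℕ} (hm : m < 6) {z : ℕ} (hz : z < 512) :
    F.top1 i m * F.iz z * (F.top1 i m)⁻¹ = F.iz (act1 i.val m z) ∧ act1 i.val m z < 512 := by
  have hlt := fun z' (h : z' < 512) => actm_lt i ⟨z', h⟩
  have e : ∀ d n : G, ∀ a : G, d * n * a * (d * n)⁻¹ = d * (n * a * n⁻¹) * d⁻¹ := fun d n a => by group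
  have e2 : ∀ d a : G, d * d * a * (d * d)⁻¹ = d * (d * a * d⁻¹) * d⁻¹ := fun d a => by group
  have hw : an i.val z < 512 := (hlt z hz).2
  interval_cases m <;> simp [top1, act1]
  · exact hz
  · exact ⟨F.conj_dl i hz, (hlt z hz).1⟩
  · refine ⟨?_, (hlt _ (hlt z hz).1).1⟩
    rw [sq, mul_inv_rev, ← F.conj_dl i (hlt z hz).1, ← F.conj_dl i hz]; group
  · exact ⟨F.conj_nl i hz, hw⟩
  · refine ⟨?_, (hlt _ hw).1⟩
    rw [← F.conj_dl i hw, ← F.conj_nl i hz]; group
  · refine ⟨?_, (hlt _ (hlt _ hw).1).1⟩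
    rw [sq, ← F.conj_dl i (hlt _ hw).1, ← F.conj_dl i hw, ← F.conj_nl i hz]; group

theorem conj_top (m : ℕ) {z : ℕ} (hz : z < 512) :
    F.top m * F.iz z * (F.top m)⁻¹ = F.iz (actm m z) ∧ actm m z < 512 := by
  obtain ⟨h2, l2⟩ := F.conj_top1 2 (m := m / 36 % 6) (Nat.mod_lt _ (by norm_num)) hz
  obtain ⟨h1, l1⟩ := F.conj_top1 1 (m := m / 6 % 6) (Nat.mod_lt _ (by norm_num)) l2
  obtain ⟨h0, l0⟩ := F.conj_top1 0 (m := m % 6) (Nat.mod_lt _ (by norm_num)) l1
  simp only [Fin.val_zero, Fin.val_one, Fin.val_two] at h0 h1 h2 l0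
  refine ⟨?_, l0⟩
  rw [actm, ← h0, ← h1, ← h2, top]
  group

theorem top1_mul (i : Fin 3) : ∀ a b : ℕ, a < 6 → b < 6 → F.top1 i a * F.top1 i b = F.top1 i (mm1 a b) := by
  have hn := F.nn i
  have hd := L.d3 i
  have hnd := L.nd i
  have hnd2 : L.nl i * (L.dl i * L.dl i) = L.dl i * L.nl i := by
    rw [← mul_assoc, hnd, mul_assoc _ (L.nl i), hnd, show L.dl i * L.dl i * (L.dl i * L.dl i * L.nl i) =
      (L.dl i * L.dl i * L.dl i) * L.dl i * L.nl i by group, hd, one_mul]
  have hd3 : ∀ r : G, L.dl i * (L.dl i * (L.dl i * r)) = r := fun r => by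
    rw [← mul_assoc, ← mul_assoc, hd, one_mul]
  have hn2 : ∀ r : G, L.nl i * (L.nl i * r) = r := fun r => by rw [← mul_assoc, hn, one_mul]
  have hmv : ∀ r : G, L.nl i * (L.dl i * r) = L.dl i * (L.dl i * (L.nl i * r)) := fun r => by
    rw [← mul_assoc, hnd, mul_assoc, mul_assoc]
  have hd' : L.dl i * (L.dl i * L.dl i) = 1 := by rw [← mul_assoc, hd]
  intro a b ha hb
  interval_cases a <;> interval_cases b <;>
    simp [top1, mm1, sq, mul_assoc, hd3, hn2, hmv, hd', hn, hnd]

theorem top1_comm {i j : Fin 3} (h : i ≠ j) (a b : ℕ) : Commute (F.top1 i a) (F.top1 j b) := by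
  have h1 : Commute (L.dl i) (L.dl j) := L.dd i j
  have h2 : Commute (L.nl i) (L.dl j) := L.ndne i j h
  have h3 : Commute (L.dl i) (L.nl j) := Commute.symm (L.ndne j i (Ne.symm h))
  have h4 : Commute (L.nl i) (L.nl j) := F.nn_comm i j
  exact (((h1.pow_pow _ _).mul_right (h3.pow_pow _ _))).mul_left ((h2.pow_pow _ _).mul_right (h4.pow_pow _ _))

theorem top_mul (a b : ℕ) : F.top a * F.top b = F.top (mmul a b) := by
  have key : ∀ p q r : ℕ, p < 6 → q < 6 → r < 6 → (p + 6 * q + 36 * r) % 6 = p ∧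
      (p + 6 * q + 36 * r) / 6 % 6 = q ∧ (p + 6 * q + 36 * r) / 36 % 6 = r := by omega
  obtain ⟨e0, e1, e2⟩ := key _ _ _ (mm1_lt (a % 6) (b % 6)) (mm1_lt (a / 6 % 6) (b / 6 % 6))
    (mm1_lt (a / 36 % 6) (b / 36 % 6))
  rw [← mmul] at e0 e1 e2
  set a0 := a % 6
  set a1 := a / 6 % 6
  set a2 := a / 36 % 6
  set b0 := b % 6
  set b1 := b / 6 % 6
  set b2 := b / 36 % 6
  have c10 : Commute (F.top1 1 a1) (F.top1 0 b0) := F.top1_comm (by decide) _ _
  have c20 : Commute (F.top1 2 a2) (F.top1 0 b0) := F.top1_comm (by decide) _ _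
  have c21 : Commute (F.top1 2 a2) (F.top1 1 b1) := F.top1_comm (by decide) _ _
  show F.top1 0 a0 * F.top1 1 a1 * F.top1 2 a2 * (F.top1 0 b0 * F.top1 1 b1 * F.top1 2 b2) =
    F.top1 0 (mmul a b % 6) * F.top1 1 (mmul a b / 6 % 6) * F.top1 2 (mmul a b / 36 % 6)
  rw [e0, e1, e2, ← F.top1_mul 0 _ _ (Nat.mod_lt _ (by norm_num)) (Nat.mod_lt _ (by norm_num)),
    ← F.top1_mul 1 _ _ (Nat.mod_lt _ (by norm_num)) (Nat.mod_lt _ (by norm_num)),
    ← F.top1_mul 2 _ _ (Nat.mod_lt _ (by norm_num)) (Nat.mod_lt _ (by norm_num))]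
  calc _ = F.top1 0 a0 * F.top1 1 a1 * (F.top1 2 a2 * F.top1 0 b0) * F.top1 1 b1 * F.top1 2 b2 := by group
    _ = F.top1 0 a0 * (F.top1 1 a1 * F.top1 0 b0) * (F.top1 2 a2 * F.top1 1 b1) * F.top1 2 b2 := by
      rw [c20.eq]; group
    _ = _ := by rw [c10.eq, c21.eq]; simp only [a0, a1, a2, b0, b1, b2]; group

theorem el_mul (a b : ℕ) : F.el (cmul a b) = F.el a * F.el b := by
  obtain ⟨hc, hlt⟩ := F.conj_top (a / 512) (z := b % 512) (Nat.mod_lt _ (by norm_num))
  have hml := mz_lt (a % 512) (actm (a / 512) (b % 512))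
  have e1 : cmul a b % 512 = mz (a % 512) (actm (a / 512) (b % 512)) := by unfold cmul; omega
  have e2 : cmul a b / 512 = mmul (a / 512) (b / 512) := by unfold cmul; omega
  simp only [el, e1, e2, ← F.iz_mul, ← hc, ← F.top_mul]
  group

theorem el_mem (a : ℕ) : F.el a * t = t * F.el a := by
  have h1 : Commute (F.iz (a % 512)) t := by
    rcases Bool.eq_false_or_eq_true ((a % 512 / 256) % 2 == 1) with e | e
    · rw [iz, e]; exact (H.sett.comm_z (F.prd_mem 8 _)).mul_left (Commute.refl t)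
    · rw [iz, e]; exact (H.sett.comm_z (F.prd_mem 8 _)).mul_left (Commute.one_left t)
  have h2 : ∀ i m, Commute (F.top1 i m) t := fun i m =>
    ((show Commute (L.dl i) t from L.dC i).pow_left _).mul_left ((show Commute (L.nl i) t from L.nC i).pow_left _)
  exact (h1.mul_left (((h2 _ _).mul_left (h2 _ _)).mul_left (h2 _ _))).eq

/-- The model map onto the centraliser is bijective. -/
theorem el_bij : Function.Bijective fun a : Fin 110592 =>
    (⟨F.el a.val, mem_centralizer_singleton_iff.2 (F.el_mem _)⟩ : ↥(centralizer ({t} : Set G))) := by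
  have hcard : Nat.card ↥(centralizer ({t} : Set G)) = 110592 := by
    have h := card_mul_index H.π.ker
    have hk : H.π.ker = (oc t).subgroupOf (centralizer ({t} : Set G)) := by
      ext c; exact H.ker c
    rw [index_ker, MonoidHom.range_eq_top.2 H.surj, card_top, card_P3, hk,
      Nat.card_congr (subgroupOfEquivOfLe (oc_le t)).toEquiv, H.card] at h
    omega
  refine (Nat.bijective_iff_surjective_and_card _).2 ⟨?_, by rw [Nat.card_fin, hcard]⟩
  intro c
  -- the top part
  have hP : ∀ p : P3, ∃ m < 216, p = Pi.mulSingle 0 (finRotate 3 ^ (m % 6 % 3) * Equiv.swap 1 2 ^ (m % 6 / 3 % 2)) *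
      Pi.mulSingle 1 (finRotate 3 ^ (m / 6 % 6 % 3) * Equiv.swap 1 2 ^ (m / 6 % 6 / 3 % 2)) *
      Pi.mulSingle 2 (finRotate 3 ^ (m / 36 % 6 % 3) * Equiv.swap 1 2 ^ (m / 36 % 6 / 3 % 2)) := by
    have key : ∀ q : Equiv.Perm (Fin 3), ∃ k : Fin 6, q = finRotate 3 ^ (k.val % 3) * Equiv.swap 1 2 ^ (k.val / 3 % 2) := by
      decide
    intro p
    obtain ⟨a, ha⟩ := key (p 0)
    obtain ⟨b, hb⟩ := key (p 1)
    obtain ⟨d, hd⟩ := key (p 2)
    have a2 := a.2
    have b2 := b.2
    have d2 := d.2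
    refine ⟨a.val + 6 * b.val + 36 * d.val, by omega, ?_⟩
    rw [show (a.val + 6 * b.val + 36 * d.val) % 6 = a.val by omega,
      show (a.val + 6 * b.val + 36 * d.val) / 6 % 6 = b.val by omega,
      show (a.val + 6 * b.val + 36 * d.val) / 36 % 6 = d.val by omega, ← ha, ← hb, ← hd]
    funext j; fin_cases j <;> simp
  obtain ⟨m, hm, hp⟩ := hP (H.π c)
  have hmem : ∀ i k, F.top1 i k ∈ centralizer ({t} : Set G) := fun i k =>
    mul_mem (pow_mem (mem_centralizer_singleton_iff.2 (L.dC i)) _) (pow_mem (mem_centralizer_singleton_iff.2 (L.nC i)) _)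
  have hπ : ∀ i k, H.π ⟨F.top1 i k, hmem i k⟩ =
      Pi.mulSingle i (finRotate 3 ^ (k % 3) * Equiv.swap 1 2 ^ (k / 3 % 2)) := fun i k => by
    have : (⟨F.top1 i k, hmem i k⟩ : ↥(centralizer ({t} : Set G))) = L.D i ^ (k % 3) * L.N i ^ (k / 3 % 2) := rfl
    rw [this, map_mul, map_pow, map_pow, show H.π (L.D i) = rot i from L.dπ i,
      show H.π (L.N i) = ref i from L.nπ i, rot, ref, ← Pi.mulSingle_pow, ← Pi.mulSingle_pow, ← Pi.mulSingle_mul]
  set u : ↥(centralizer ({t} : Set G)) := ⟨F.top1 0 (m % 6), hmem _ _⟩ * ⟨F.top1 1 (m / 6 % 6), hmem _ _⟩ *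
    ⟨F.top1 2 (m / 36 % 6), hmem _ _⟩ with hu
  have hq : ((c * u⁻¹ : ↥(centralizer ({t} : Set G))) : G) ∈ oc t :=
    (H.ker _).1 (by rw [map_mul, map_inv, hu, map_mul, map_mul, hπ, hπ, hπ, ← hp, mul_inv_cancel])
  obtain ⟨v, hv, hcase⟩ := F.exists_prd hq
  obtain ⟨z, hz, hze⟩ : ∃ z < 512, F.iz z = ((c * u⁻¹ : ↥(centralizer ({t} : Set G))) : G) := by
    rcases hcase with e | e <;> rw [e]
    · refine ⟨v, by omega, ?_⟩
      rw [iz, show v % 256 = v by omega, show v / 256 = 0 by omega]; simp [zb]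
    · refine ⟨v + 256, by omega, ?_⟩
      rw [iz, show (v + 256) % 256 = v by omega, show (v + 256) / 256 = 1 by omega]; simp [zb]
  refine ⟨⟨z + 512 * m, by omega⟩, Subtype.ext ?_⟩
  show F.el (z + 512 * m) = c
  rw [el, show (z + 512 * m) % 512 = z by omega, show (z + 512 * m) / 512 = m by omega, hze]
  show (c : G) * (u : G)⁻¹ * F.top m = c
  rw [show F.top m = (u : G) from rfl, inv_mul_cancel_right]

theorem el_inj {a b : ℕ} (ha : a < 110592) (hb : b < 110592) (h : F.el a = F.el b) : a = b :=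
  congrArg Fin.val (F.el_bij.1 (a₁ := ⟨a, ha⟩) (a₂ := ⟨b, hb⟩) (Subtype.ext h))

theorem el_surj {c : G} (hc : c * t = t * c) : ∃ a < 110592, F.el a = c := by
  obtain ⟨a, ha⟩ := F.el_bij.2 ⟨c, mem_centralizer_singleton_iff.2 hc⟩
  exact ⟨a.val, a.2, congrArg Subtype.val ha⟩

theorem el_t : F.el 256 = t := by simp [el, top, top1, F.iz_t]

theorem el_x : F.el 1 = x := by
  have := F.iz_two_pow (S := 0) (by norm_num)
  simp [el, top, top1, F.qs_zero] at this ⊢
  exact this

end Frame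

end Cfsg.Agent.OEightRec
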