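import Cfsg.Agent.OEightRec.Act
import Cfsg.Agent.OEightRec.Code

/-!
Generators of the centraliser obtained from a conjugate `x` of `t` in the two-core.
-/

set_option autoImplicit false
set_option maxHeartbeats 1000000

namespace Cfsg.Agent.OEightRec

open Subgroup Cfsg Cfsg.Agent.LargeExtra

variable {G : Type*} [Group G] [Finite G] {t : G}

/-- A frame: the data with the sign of `x` normalised. -/
structure Frame {H : Hyp t} (L : Lifts H) (g x : G) : Prop where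
  two : Two H g x
  std : H.Std x
  line : x * (L.dl 0 * x * (L.dl 0)⁻¹) * (L.dl 0 * L.dl 0 * x * (L.dl 0 * L.dl 0)⁻¹) = 1

theorem exists_frame (hG : Cfsg.pResidual 2 G = ⊤) (H : Hyp t) :
    ∃ (H' : Hyp t) (L : Lifts H') (g x : G), Frame L g x := by
  have _ := hG
  obtain ⟨g, hg, hgne⟩ := H.exists_conj
  obtain ⟨H', T, hs⟩ := (Two.exists_std (H := H) ⟨rfl, hg, hgne⟩)
  obtain ⟨L⟩ := H'.exists_lifts
  set x := g * t * g⁻¹ with hx
  have h0 := T.fpf hs L 0 (pv ⟨x, T.mem⟩)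
  rw [qact_pv, qact_pv, ← pv_mul, ← pv_mul, H'.pv_zero_iff] at h0
  simp only [Subgroup.coe_mul] at h0
  rcases h0 with e | e
  · refine ⟨H', L, g, x, T, hs, ?_⟩
    calc _ = x * (L.dl 0 * x * (L.dl 0)⁻¹) * (L.dl 0 * (L.dl 0 * x * (L.dl 0)⁻¹) * (L.dl 0)⁻¹) := by group
      _ = 1 := e
  -- otherwise replace `x` by `x t`
  obtain ⟨y, hy, hyx⟩ := H'.sett.exists_mover T.mem T.xne T.ne
  have T' : Two H' (y * g) (x * t) := by
    refine ⟨by rw [show y * g * t * (y * g)⁻¹ = y * (g * t * g⁻¹) * y⁻¹ by group]; exact hyx,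
      mul_mem T.mem H'.tmem, fun e' => T.xne (mul_eq_right.1 e')⟩
  refine ⟨H', L, y * g, x * t, T', fun i => ?_, ?_⟩
  · obtain ⟨c, hc, hcp⟩ := hs i
    have hy' : y ∈ centralizer ({t} : Set G) := oc_le t hy
    refine ⟨⟨y, hy'⟩ * c * ⟨y, hy'⟩⁻¹, mem_subgroupOf.2 ⟨?_, Subgroup.mul_mem _ (Subgroup.mul_mem _ hy' c.2) (inv_mem hy')⟩, ?_⟩
    · rw [← hyx]; exact conj_mem_oc (mem_subgroupOf.1 hc).1
    · rw [map_mul, map_mul, map_inv, (H'.ker ⟨y, hy'⟩).2 hy, hcp, one_mul, inv_one, mul_one]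
  · have ht : Commute t (L.dl 0) := (L.dC 0).symm
    have e1 : L.dl 0 * (x * t) * (L.dl 0)⁻¹ = L.dl 0 * x * (L.dl 0)⁻¹ * t := by
      rw [← mul_assoc, mul_assoc _ t, ht.inv_right.eq]; group
    have e2 : L.dl 0 * L.dl 0 * (x * t) * (L.dl 0 * L.dl 0)⁻¹ =
        L.dl 0 * L.dl 0 * x * (L.dl 0 * L.dl 0)⁻¹ * t := by
      rw [← mul_assoc, mul_assoc _ t, (ht.mul_right ht).inv_right.eq]; group
    rw [e1, e2]
    have hyc : Commute (L.dl 0 * x * (L.dl 0)⁻¹) t := H'.sett.comm_z (oc_conj_mem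
      (mem_centralizer_singleton_iff.2 (L.dC 0)) T.mem)
    have e' : x * (L.dl 0 * x * (L.dl 0)⁻¹) *
        (L.dl 0 * L.dl 0 * x * (L.dl 0 * L.dl 0)⁻¹) = t := by
      calc _ = x * (L.dl 0 * x * (L.dl 0)⁻¹) * (L.dl 0 * (L.dl 0 * x * (L.dl 0)⁻¹) * (L.dl 0)⁻¹) := by group
        _ = t := e
    have hzc : Commute (L.dl 0 * L.dl 0 * x * (L.dl 0 * L.dl 0)⁻¹) t := H'.sett.comm_z (oc_conj_mem
      (mul_mem (mem_centralizer_singleton_iff.2 (L.dC 0)) (mem_centralizer_singleton_iff.2 (L.dC 0))) T.mem)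
    calc x * t * (L.dl 0 * x * (L.dl 0)⁻¹ * t) * (L.dl 0 * L.dl 0 * x * (L.dl 0 * L.dl 0)⁻¹ * t)
        = x * (L.dl 0 * x * (L.dl 0)⁻¹) * (t * t) *
          (L.dl 0 * L.dl 0 * x * (L.dl 0 * L.dl 0)⁻¹) * t := by
            rw [show x * t * (L.dl 0 * x * (L.dl 0)⁻¹ * t) = x * (t * (L.dl 0 * x * (L.dl 0)⁻¹)) * t by group,
              ← hyc.eq]
            group
      _ = 1 := by rw [H'.tt, mul_one, e', H'.tt]

namespace Frame

variable {H : Hyp t} {L : Lifts H} {g x : G} (F : Frame L g x)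

/-- The element moving `x` to the generator of index `S`. -/
def mv (_F : Frame L g x) (S : ℕ) : G :=
  (if S.testBit 0 then L.dl 0 else 1) * (if S.testBit 1 then L.dl 1 else 1) *
    (if S.testBit 2 then L.dl 2 else 1)

/-- The generators of the two-core. -/
def qs (S : ℕ) : G := F.mv S * x * (F.mv S)⁻¹

theorem mv_C (S : ℕ) : F.mv S * t = t * F.mv S := by
  have h : ∀ (b : Bool) (i : Fin 3), Commute (if b then L.dl i else 1) t := fun b i => by
    cases b
    · exact Commute.one_left t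
    · exact L.dC i
  exact (((h _ 0).mul_left (h _ 1)).mul_left (h _ 2)).eq

theorem qs_mem (S : ℕ) : F.qs S ∈ oc t :=
  oc_conj_mem (mem_centralizer_singleton_iff.2 (F.mv_C S)) F.two.mem

theorem qs_sq (S : ℕ) : F.qs S * F.qs S = 1 := by
  rw [qs, show F.mv S * x * (F.mv S)⁻¹ * (F.mv S * x * (F.mv S)⁻¹) = F.mv S * (x * x) * (F.mv S)⁻¹ by group,
    F.two.xx, mul_one, mul_inv_cancel]

theorem qs_zero : F.qs 0 = x := by simp [qs, mv]

theorem qs_inv (S : ℕ) : (F.qs S)⁻¹ = F.qs S := inv_eq_of_mul_eq_one_right (F.qs_sq S)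

theorem mv_up : ∀ (S : Fin 8) (i : Fin 3), S.val.testBit i.val = false →
    L.dl i * F.mv S.val = F.mv (S.val ^^^ 2 ^ i.val) := by
  intro S i h
  have hb : ∀ (b : Bool) (k : Fin 3), Commute (L.dl i) (if b then L.dl k else 1) := fun b k => by
    cases b
    · exact Commute.one_right _
    · exact L.dd i k
  simp only [mv, Nat.testBit_xor, Nat.testBit_two_pow]
  fin_cases i
  · rw [show S.val.testBit 0 = false from h]
    simp [mul_assoc]
  · rw [show S.val.testBit 1 = false from h]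
    simp only [Bool.false_eq_true, if_false, mul_one]
    rw [← mul_assoc, (hb (S.val.testBit 0) 0).eq]
    simp
  · rw [show S.val.testBit 2 = false from h]
    simp only [Bool.false_eq_true, if_false, mul_one]
    rw [((hb (S.val.testBit 0) 0).mul_right (hb (S.val.testBit 1) 1)).eq]
    simp

theorem conj_up {S : ℕ} (hS : S < 8) {i : Fin 3} (h : S.testBit i.val = false) :
    L.dl i * F.qs S * (L.dl i)⁻¹ = F.qs (S ^^^ 2 ^ i.val) := by
  have := F.mv_up ⟨S, hS⟩ i h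
  rw [qs, qs, ← this]
  group

end Frame

end Cfsg.Agent.OEightRec
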