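import Cfsg.Agent.OEightRec.Emb

/-!
A conjugate of `t` in the two-core other than `t` is conjugate to `x` under the centraliser.
-/

set_option autoImplicit false
set_option maxHeartbeats 1000000

namespace Cfsg.Agent.OEightRec

open Subgroup Cfsg Cfsg.Agent.LargeExtra

theorem lin_fix : ∀ c : Fin 256, (∀ i : Fin 3, lin (gn i.val) 8 c.val = c.val) → c.val = 0 ∨ c.val = 1 := by
  decide +kernel

theorem beq_seven : comB 7 0 = true := rfl

variable {G : Type*} [Group G] [Finite G] {t : G}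

namespace Frame

variable {H : Hyp t} {L : Lifts H} {g x : G} (F : Frame L g x)
include F

/-- The conjugate `x t` of `x`. -/
theorem qs7_x : F.qs 7 * x * (F.qs 7)⁻¹ = x * t := by
  have h := F.com_all 7 0 (by norm_num) (by norm_num)
  rw [Com, F.qs_zero, beq_seven] at h
  simp only [zb, if_true] at h
  rw [h, ← mul_assoc, mul_inv_cancel_right]
  exact F.two.tx

theorem conj_of_mem {g' : G} (hmem : g' * t * g'⁻¹ ∈ oc t) (hne : g' * t * g'⁻¹ ≠ t) :
    ∃ c : G, c * t = t * c ∧ g' * t * g'⁻¹ = c * x * c⁻¹ := by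
  set y := g' * t * g'⁻¹ with hy
  have T : Two H g' y := ⟨rfl, hmem, hne⟩
  obtain ⟨u, hu⟩ := T.exists_u
  obtain ⟨c, hc⟩ := H.surj u
  set y' : G := (c : G) * y * (c : G)⁻¹ with hy'
  have hy'Q : y' ∈ oc t := oc_conj_mem c.2 hmem
  have hct : (c : G) * t = t * (c : G) := mem_centralizer_singleton_iff.1 c.2
  obtain ⟨a, ha'⟩ := F.ev_bij.2 (pv ⟨y', hy'Q⟩)
  have ha : F.ev a.val = pv ⟨y', hy'Q⟩ := ha'
  have hfix : ∀ i : Fin 3, lin (gn i.val) 8 a.val = a.val := by
    intro i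
    obtain ⟨r, hr, hrp⟩ := hu i
    have hr' : (r : G) ∈ oc y := (mem_subgroupOf.1 hr).1
    have hp : H.π (c * r * c⁻¹) = H.π (L.N i) := by
      rw [map_mul, map_mul, map_inv, hc, show H.π (L.N i) = ref i from L.nπ i, ← hrp]
      rfl
    have hq := H.qact_congr hp (pv ⟨y', hy'Q⟩)
    rw [qact_pv] at hq
    have e : ((c * r * c⁻¹ : ↥(centralizer ({t} : Set G))) : G) * y' *
        ((c * r * c⁻¹ : ↥(centralizer ({t} : Set G))) : G)⁻¹ = y' := by
      show (c : G) * r * (c : G)⁻¹ * y' * ((c : G) * r * (c : G)⁻¹)⁻¹ = y'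
      rw [hy', show (c : G) * r * (c : G)⁻¹ * ((c : G) * y * (c : G)⁻¹) * ((c : G) * r * (c : G)⁻¹)⁻¹ =
        (c : G) * ((r : G) * y * (r : G)⁻¹) * (c : G)⁻¹ by group,
        mul_inv_eq_iff_eq_mul.2 (mem_centralizer_singleton_iff.1 (oc_le y hr'))]
    rw [show (⟨_, oc_conj_mem (c * r * c⁻¹).2 hy'Q⟩ : ↥(oc t)) = ⟨y', hy'Q⟩ from Subtype.ext e,
      ← ha, F.a_ev] at hq
    have hlt : lin (gn i.val) 8 a.val < 256 := by
      have key : ∀ (c : Fin 256) (j : Fin 3), lin (gn j.val) 8 c.val < 256 := by decide +kernel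
      exact key a i
    exact (congrArg Fin.val (F.ev_bij.1 (a₁ := a) (a₂ := ⟨_, hlt⟩) hq)).symm
  have hne' : ∀ z : G, z * t = t * z → y' = z → y = (c : G)⁻¹ * z * (c : G) := fun z _ e => by
    rw [← e, hy']; group
  have hy1 : y' ≠ 1 := fun e => T.xne (by rw [hne' 1 (by simp) e]; group)
  have hyt : y' ≠ t := fun e => hne (by
    rw [hne' t rfl e, mul_assoc, ← hct, ← mul_assoc, inv_mul_cancel, one_mul])
  have hx : y' = x ∨ y' = x * t := by
    rcases lin_fix a hfix with h | h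
    · exfalso
      have e : pv ⟨y', hy'Q⟩ = (0 : QV t) := by
        rw [← ha, h]; simp [ev]
      rcases H.pv_zero_iff.1 e with e | e
      exacts [hy1 e, hyt e]
    · have e : pv ⟨x, F.two.mem⟩ = pv ⟨y', hy'Q⟩ := by
        rw [← ha, h, show (1 : ℕ) = 2 ^ 0 by norm_num,
          F.ev_pow (by norm_num)]
        exact congrArg pv (Subtype.ext F.qs_zero.symm)
      exact H.pv_eq_iff.1 e
  have hback : y = (c : G)⁻¹ * y' * (c : G) := by rw [hy']; group
  have hci : (c : G)⁻¹ * t = t * (c : G)⁻¹ := (show Commute (c : G) t from hct).inv_left.eq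
  rcases hx with e | e
  · exact ⟨(c : G)⁻¹, hci, by rw [hback, e, inv_inv]⟩
  · refine ⟨(c : G)⁻¹ * F.qs 7, ?_, ?_⟩
    · exact ((show Commute (c : G)⁻¹ t from hci).mul_left (F.t_comm 7)).eq
    · rw [hback, e, ← F.qs7_x]; group

end Frame

end Cfsg.Agent.OEightRec
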