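import Cfsg.Agent.OEightRec.Code

/-!
The action of the generators on the two-core modulo its centre, on eight-bit masks.
-/

set_option autoImplicit false

namespace Cfsg.Agent.OEightRec

/-- The linear extension of a map on generators. -/
def lin (img : ℕ → ℕ) : ℕ → ℕ → ℕ
  | 0, _ => 0
  | k + 1, c => if c.testBit k then lin img k c ^^^ (img k % 256) else lin img k c

/-- One step towards the fixed point. -/
def down (i : ℕ) (b : Bool) (c : ℕ) : ℕ := if b then c ^^^ lin (gn i) 8 c else c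

theorem lin_inj : ∀ c : Fin 256, c.val ≠ 0 → ∃ S : Fin 8,
    down 0 (S.val.testBit 0) (down 1 (S.val.testBit 1) (down 2 (S.val.testBit 2) c.val)) = 1 := by
  decide +kernel

theorem lin_socle : ∀ c : Fin 256,
    (∀ i : Fin 3, c.val ^^^ lin (gn i.val) 8 c.val = 0 ∨ c.val ^^^ lin (gn i.val) 8 c.val = 1) →
      c.val &&& 23 = c.val := by
  decide +kernel

theorem gn_val : ∀ (S : Fin 8) (i : Fin 3), gn i.val S.val % 256 =
    if S.val.testBit i.val then 2 ^ (S.val ^^^ 2 ^ i.val) ^^^ 2 ^ S.val else 2 ^ S.val := by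
  decide

theorem gd_val : ∀ (S : Fin 8) (i : Fin 3), gd i.val S.val % 256 =
    if S.val.testBit i.val then 2 ^ (S.val ^^^ 2 ^ i.val) ^^^ 2 ^ S.val else 2 ^ (S.val ^^^ 2 ^ i.val) := by
  decide

theorem pick_bit : ∀ (S : Fin 8) (i : Fin 3), S.val ≠ 0 → ∃ j : Fin 3, S.val.testBit j.val = true ∧
    (S.val.testBit i.val = true → j = i) := by
  decide

theorem pair_cases : ∀ S T : Fin 8, (∀ i : Fin 3, ¬(S.val.testBit i.val = true ∧ T.val.testBit i.val = true)) →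
    S.val = 0 ∨ T.val = 0 ∨
    (∃ i j : Fin 3, i ≠ j ∧ S.val = 2 ^ i.val ∧ T.val = 2 ^ j.val) ∨
    (∃ i : Fin 3, S.val = 2 ^ i.val ∧ T.val = 7 ^^^ 2 ^ i.val) ∨
    (∃ i : Fin 3, T.val = 2 ^ i.val ∧ S.val = 7 ^^^ 2 ^ i.val) := by
  decide

theorem zero_cases : ∀ U : Fin 8, U.val = 0 ∨ (∃ i : Fin 3, U.val = 2 ^ i.val) ∨
    (∃ j k : Fin 3, j ≠ k ∧ U.val = 2 ^ k.val ^^^ 2 ^ j.val) ∨ U.val = 7 := by
  decide

end Cfsg.Agent.OEightRec
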