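import Cfsg.Agent.OEightRec.Frame
import Cfsg.Agent.OEightRec.LinCode

/-!
The relations between the generators of the centraliser.
-/

set_option autoImplicit false
set_option maxHeartbeats 1000000

namespace Cfsg.Agent.OEightRec

open Subgroup Cfsg Cfsg.Agent.LargeExtra

variable {G : Type*} [Group G] [Finite G] {t : G}

/-- The central sign. -/
def zb (t : G) (b : Bool) : G := if b then t else 1

theorem zb_comm (b : Bool) {a : G} (ha : a * t = t * a) : Commute a (zb t b) := by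
  cases b
  · exact Commute.one_right a
  · exact ha


namespace Frame

variable {H : Hyp t} {L : Lifts H} {g x : G} (F : Frame L g x)
include F

/-- The class of a generator modulo the centre. -/
noncomputable def e (S : ℕ) : QV t := pv ⟨F.qs S, F.qs_mem S⟩

/-- The combination of classes given by a mask. -/
noncomputable def ev (c : ℕ) : QV t := ∑ S ∈ Finset.range 8, if c.testBit S then F.e S else 0

/-- The ordered product given by a mask. -/
def prd : ℕ → ℕ → G
  | 0, _ => 1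
  | k + 1, a => if a.testBit k then prd k a * F.qs k else prd k a

theorem prd_mem (k a : ℕ) : F.prd k a ∈ oc t := by
  induction k with
  | zero => exact one_mem _
  | succ k ih =>
    simp only [prd]
    split_ifs
    · exact mul_mem ih (F.qs_mem k)
    · exact ih

theorem pv_prd (k a : ℕ) :
    pv ⟨F.prd k a, F.prd_mem k a⟩ = ∑ S ∈ Finset.range k, if a.testBit S then F.e S else 0 := by
  induction k with
  | zero => rw [Finset.sum_range_zero]; exact Additive.ofMul.injective.eq_iff.2 (map_one Abelianization.of)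
  | succ k ih =>
    rw [Finset.sum_range_succ, ← ih]
    by_cases h : a.testBit k = true
    · rw [if_pos h]
      show _ = pv _ + pv _
      rw [← pv_mul]
      congr 1
      exact Subtype.ext (by simp [prd, h])
    · rw [if_neg h, add_zero]
      congr 1
      exact Subtype.ext (by simp [prd, h])

theorem e_up {S : ℕ} (hS : S < 8) {i : Fin 3} (h : S.testBit i.val = false) :
    qact (L.D i) (F.e S) = F.e (S ^^^ 2 ^ i.val) := by
  rw [e, qact_pv]
  exact congrArg pv (Subtype.ext (F.conj_up hS h))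

theorem e_down {S : ℕ} (hS : S < 8) {i : Fin 3} (h : S.testBit i.val = true) :
    qact (L.D i) (F.e S) = F.e (S ^^^ 2 ^ i.val) + F.e S := by
  have hT : S ^^^ 2 ^ i.val < 8 := Nat.xor_lt_two_pow (n := 3) hS (by fin_cases i <;> norm_num)
  have hb : (S ^^^ 2 ^ i.val).testBit i.val = false := by
    rw [Nat.testBit_xor, h, Nat.testBit_two_pow_self]; rfl
  have h1 := F.e_up hT hb
  rw [Nat.xor_assoc, Nat.xor_self, Nat.xor_zero] at h1
  have h2 := F.two.fpf F.std L i (F.e (S ^^^ 2 ^ i.val))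
  rw [h1] at h2
  have h3 := congrArg (F.e (S ^^^ 2 ^ i.val) + F.e S + ·) h2
  simp only [add_zero] at h3
  rw [← add_assoc, H.exp_two, zero_add] at h3
  exact h3

theorem a_e0 (i : Fin 3) : qact (L.N i) (F.e 0) = F.e 0 := by
  obtain ⟨c, hc, hcp⟩ := F.std i
  rw [H.qact_congr (c := L.N i) (d := c) ((L.nπ i).trans hcp.symm), e, qact_pv]
  refine congrArg pv (Subtype.ext ?_)
  show (c : G) * F.qs 0 * (c : G)⁻¹ = F.qs 0
  rw [F.qs_zero]
  exact mul_inv_eq_iff_eq_mul.2 (mem_centralizer_singleton_iff.1 (oc_le x (mem_subgroupOf.1 hc).1))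

theorem a_e : ∀ (S : ℕ), S < 8 → ∀ i : Fin 3, qact (L.N i) (F.e S) =
    if S.testBit i.val then F.e (S ^^^ 2 ^ i.val) + F.e S else F.e S := by
  intro S
  induction S using Nat.strong_induction_on with
  | _ S IH =>
  intro hS i
  by_cases h0 : S = 0
  · subst h0
    rw [Nat.zero_testBit]
    exact F.a_e0 i
  obtain ⟨j, hj, hji⟩ := pick_bit ⟨S, hS⟩ i h0
  simp only at hj hji
  set T := S ^^^ 2 ^ j.val with hT'
  have hb : T.testBit j.val = false := by
    rw [hT', Nat.testBit_xor, hj, Nat.testBit_two_pow_self]; rfl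
  have hT : T < S := Nat.lt_of_testBit j.val hb hj fun k hk => by
    rw [hT', Nat.testBit_xor, Nat.testBit_two_pow_of_ne (by omega)]; simp
  have hS' : F.e S = qact (L.D j) (F.e T) := by
    rw [F.e_up (by omega) hb, hT', Nat.xor_assoc, Nat.xor_self, Nat.xor_zero]
  conv_lhs => rw [hS', qact_mul]
  by_cases hij : i = j
  · subst hij
    rw [if_pos hj, H.qact_congr (c := L.N i * L.D i) (d := L.D i * L.D i * L.N i)
      (congrArg H.π (Subtype.ext (L.nd i) : L.N i * L.D i = L.D i * L.D i * L.N i)),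
      ← qact_mul, IH T hT (by omega) i, if_neg (by rw [hb]; simp), ← qact_mul, ← hS', F.e_down hS hj]
  · have hni : ¬ S.testBit i.val = true := fun h => hij (hji h).symm
    have hne : (j.val : ℕ) ≠ i.val := fun h => hij (Fin.ext h.symm)
    rw [if_neg hni, (Subtype.ext (L.ndne i j hij) : L.N i * L.D j = L.D j * L.N i),
      ← qact_mul, IH T hT (by omega) i, if_neg (by
        rw [hT', Nat.testBit_xor, Nat.testBit_two_pow_of_ne hne]; simpa using hni), ← hS']

theorem ev_xor (a b : ℕ) : F.ev (a ^^^ b) = F.ev a + F.ev b := by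
  rw [ev, ev, ev, ← Finset.sum_add_distrib]
  refine Finset.sum_congr rfl fun S _ => ?_
  rw [Nat.testBit_xor]
  cases a.testBit S <;> cases b.testBit S <;> simp [H.exp_two]

theorem ev_pow {S : ℕ} (hS : S < 8) : F.ev (2 ^ S) = F.e S := by
  rw [ev, Finset.sum_eq_single S (fun T _ hT => by rw [Nat.testBit_two_pow_of_ne (Ne.symm hT)]; simp)
    (fun h => absurd (Finset.mem_range.2 hS) h), Nat.testBit_two_pow_self, if_pos rfl]

theorem ev_lin (f : AddMonoid.End (QV t)) (img : ℕ → ℕ) (hf : ∀ S < 8, f (F.e S) = F.ev (img S % 256))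
    (c : ℕ) : f (F.ev c) = F.ev (lin img 8 c) := by
  have h : ∀ k, k ≤ 8 → f (∑ S ∈ Finset.range k, if c.testBit S then F.e S else 0) = F.ev (lin img k c) := by
    intro k hk
    induction k with
    | zero => rw [Finset.sum_range_zero, map_zero]; simp [lin, ev]
    | succ k ih =>
      rw [Finset.sum_range_succ, map_add, ih (by omega)]
      cases hb : c.testBit k
      · simp [lin, hb]
      · simp only [lin, hb, if_true]
        rw [hf k (by omega), F.ev_xor]
  exact h 8 le_rfl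

theorem a_ev (i : Fin 3) (c : ℕ) : qact (L.N i) (F.ev c) = F.ev (lin (gn i.val) 8 c) := by
  refine F.ev_lin _ _ (fun S hS => ?_) c
  rw [F.a_e S hS i, gn_val ⟨S, hS⟩ i]
  have hT : S ^^^ 2 ^ i.val < 8 := Nat.xor_lt_two_pow (n := 3) hS (by fin_cases i <;> norm_num)
  split_ifs
  · rw [F.ev_xor, F.ev_pow hT, F.ev_pow hS]
  · rw [F.ev_pow hS]

theorem ev_bij : Function.Bijective fun c : Fin 256 => F.ev c.val := by
  refine (Nat.bijective_iff_injective_and_card _).2 ⟨fun a b hab => ?_, by rw [Nat.card_fin, H.card_QV]⟩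
  have hab' : F.ev a.val = F.ev b.val := hab
  by_contra hne
  have hlt : a.val ^^^ b.val < 256 := Nat.xor_lt_two_pow (n := 8) a.2 b.2
  have hz : F.ev (a.val ^^^ b.val) = 0 := by rw [F.ev_xor, hab', H.exp_two]
  obtain ⟨S, hS⟩ := lin_inj ⟨_, hlt⟩ (fun h => hne (Fin.ext (Nat.xor_eq_zero_iff.1 h)))
  have hd : ∀ (i : Fin 3) (v : Bool) (c : ℕ), F.ev c = 0 → F.ev (down i.val v c) = 0 := by
    intro i v c hc
    cases v
    · simpa [down] using hc
    · simp only [down, if_true]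
      rw [F.ev_xor, ← F.a_ev, hc, map_zero, add_zero]
  have h1 := hd 0 (S.val.testBit 0) _ (hd 1 (S.val.testBit 1) _ (hd 2 (S.val.testBit 2) _ hz))
  simp only [Fin.val_zero, Fin.val_one, Fin.val_two] at h1
  rw [hS, show (1 : ℕ) = 2 ^ 0 by norm_num, F.ev_pow (by norm_num), e, H.pv_zero_iff] at h1
  simp only [F.qs_zero] at h1
  rcases h1 with h | h
  exacts [F.two.xne h, F.two.ne h]

theorem exists_prd {q : G} (hq : q ∈ oc t) : ∃ c < 256, q = F.prd 8 c ∨ q = F.prd 8 c * t := by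
  obtain ⟨c, hc⟩ := F.ev_bij.2 (pv ⟨q, hq⟩)
  have hc' : pv ⟨F.prd 8 c.val, F.prd_mem 8 _⟩ = pv ⟨q, hq⟩ := (F.pv_prd 8 c.val).trans hc
  exact ⟨c.val, c.2, H.pv_eq_iff.1 hc'⟩

theorem qs_W (i : Fin 3) : F.qs (2 ^ i.val) ∈ oc t ⊓ oc x := by
  classical
  have hc : ∀ w : ↥(oc t ⊓ oc x), ∃ c : {c : Fin 256 // c.val &&& 23 = c.val},
      (w : G) = F.prd 8 c.1.val ∨ (w : G) = F.prd 8 c.1.val * t := by
    intro w
    obtain ⟨c, hc⟩ := F.ev_bij.2 (pv ⟨w, w.2.1⟩)
    have hc' : pv ⟨F.prd 8 c.val, F.prd_mem 8 _⟩ = pv ⟨(w : G), w.2.1⟩ := (F.pv_prd 8 c.val).trans hc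
    refine ⟨⟨c, lin_socle c fun j => ?_⟩, H.pv_eq_iff.1 hc'⟩
    obtain ⟨r, hr, hrp⟩ := F.std j
    have hcur : F.ev c.val = pv ⟨(w : G), w.2.1⟩ := hc
    have hmove : F.ev (c.val ^^^ lin (gn j.val) 8 c.val) = 0 ∨
        F.ev (c.val ^^^ lin (gn j.val) 8 c.val) = F.ev 1 := by
      rw [F.ev_xor, ← F.a_ev, hcur, H.qact_congr (c := L.N j) (d := r) ((L.nπ j).trans hrp.symm), qact_pv]
      rcases F.two.R_W (mem_subgroupOf.1 hr) w.2 with e | e
      · left
        rw [show (⟨(r : G) * w * (r : G)⁻¹, oc_conj_mem r.2 w.2.1⟩ : ↥(oc t)) = ⟨(w : G), w.2.1⟩ from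
          Subtype.ext e, H.exp_two]
      · right
        rw [show (⟨(r : G) * w * (r : G)⁻¹, oc_conj_mem r.2 w.2.1⟩ : ↥(oc t)) =
          ⟨x, F.two.mem⟩ * ⟨(w : G), w.2.1⟩ from Subtype.ext e, pv_mul, add_comm (pv ⟨x, _⟩), ← add_assoc,
          H.exp_two, zero_add, show (1 : ℕ) = 2 ^ 0 by norm_num, F.ev_pow (by norm_num)]
        exact congrArg pv (Subtype.ext F.qs_zero.symm)
    have h0 : F.ev 0 = 0 := by simp [ev]
    have hlt : c.val ^^^ lin (gn j.val) 8 c.val < 256 := by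
      have key : ∀ (c : Fin 256) (j : Fin 3), c.val ^^^ lin (gn j.val) 8 c.val < 256 := by decide +kernel
      exact key c j
    rcases hmove with e | e
    · exact Or.inl (congrArg Fin.val (F.ev_bij.1 (a₁ := ⟨_, hlt⟩) (a₂ := ⟨0, by norm_num⟩) (e.trans h0.symm)))
    · exact Or.inr (congrArg Fin.val (F.ev_bij.1 (a₁ := ⟨_, hlt⟩) (a₂ := ⟨1, by norm_num⟩) e))
  choose c hc using hc
  let f : ↥(oc t ⊓ oc x) → {c : Fin 256 // c.val &&& 23 = c.val} × Bool := fun w =>
    (c w, decide ((w : G) = F.prd 8 (c w).1.val))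
  have hf : Function.Injective f := by
    intro a b h
    have h1 := congrArg Prod.fst h
    have h2 := congrArg Prod.snd h
    simp only [f] at h1 h2
    refine Subtype.ext ?_
    rw [decide_eq_decide] at h2
    rcases hc a with e | e
    · rw [e, (h2.1 e), h1]
    · rcases hc b with e' | e'
      · rw [h2.2 e', e', h1]
      · rw [e, e', h1]
  have hb : Function.Bijective f := (Nat.bijective_iff_injective_and_card f).2
    ⟨hf, by rw [F.two.card_W, Nat.card_eq_fintype_card]; decide +kernel⟩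
  have hm : (2 ^ 2 ^ i.val : ℕ) < 256 ∧ (2 ^ 2 ^ i.val) &&& 23 = 2 ^ 2 ^ i.val := by
    fin_cases i <;> decide
  obtain ⟨w, hw⟩ := hb.2 (⟨⟨_, hm.1⟩, hm.2⟩, true)
  have h1 := congrArg Prod.fst hw
  have h2 := congrArg Prod.snd hw
  simp only [f, decide_eq_true_iff] at h1 h2
  rw [h1] at h2
  have : F.prd 8 (2 ^ 2 ^ i.val) = F.qs (2 ^ i.val) := by
    fin_cases i <;> simp [prd, Nat.testBit, Nat.shiftRight_eq_div_pow]
  have hw2 := w.2
  rwa [show (w : G) = F.qs (2 ^ i.val) from h2.trans this] at hw2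

theorem comm_W {a b : G} (ha : a ∈ oc t ⊓ oc x) (hb : b ∈ oc t ⊓ oc x) : Commute a b :=
  F.two.abel a ha b hb

theorem t_comm (S : ℕ) : Commute (F.qs S) t := H.sett.comm_z (F.qs_mem S)

theorem square_x (i : Fin 3) :
    L.dl i * L.dl i * x * (L.dl i * L.dl i)⁻¹ = x * F.qs (2 ^ i.val) := by
  have hq : ∀ j : Fin 3, F.qs (2 ^ j.val) = L.dl j * x * (L.dl j)⁻¹ := fun j => by
    have hb : (0 : ℕ).testBit j.val = false := Nat.zero_testBit _
    have := F.conj_up (S := 0) (by norm_num) hb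
    rw [F.qs_zero, Nat.zero_xor] at this
    exact this.symm
  have hxc : ∀ j : Fin 3, Commute x (F.qs (2 ^ j.val)) := fun j => F.comm_W F.two.x_W (F.qs_W j)
  have h0 : L.dl 0 * L.dl 0 * x * (L.dl 0 * L.dl 0)⁻¹ = x * F.qs 1 := by
    have hl := F.line
    rw [← hq 0] at hl
    have e := eq_inv_of_mul_eq_one_right hl
    rw [e, mul_inv_rev, show F.qs (2 ^ (0 : Fin 3).val) = F.qs 1 from rfl, F.qs_inv,
      inv_eq_of_mul_eq_one_right F.two.xx]
    exact (hxc 0).eq.symm
  by_cases hi : i = 0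
  · subst hi; exact h0
  have hmem : L.dl i * L.dl i * x * (L.dl i * L.dl i)⁻¹ ∈ oc t :=
    oc_conj_mem (mem_centralizer_singleton_iff.2
      ((show Commute (L.dl i) t from L.dC i).mul_left (L.dC i)).eq) F.two.mem
  have hcases : L.dl i * L.dl i * x * (L.dl i * L.dl i)⁻¹ = x * F.qs (2 ^ i.val) ∨
      L.dl i * L.dl i * x * (L.dl i * L.dl i)⁻¹ = x * F.qs (2 ^ i.val) * t := by
    have h2 := F.two.fpf F.std L i (pv ⟨x, F.two.mem⟩)
    rw [qact_mul, qact_pv, qact_pv] at h2
    have h3 : pv ⟨x * F.qs (2 ^ i.val), mul_mem F.two.mem (F.qs_mem _)⟩ =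
        pv ⟨L.dl i * L.dl i * x * (L.dl i * L.dl i)⁻¹, hmem⟩ := by
      have h5 := congrArg (· + pv ⟨L.dl i * L.dl i * x * (L.dl i * L.dl i)⁻¹, hmem⟩) h2
      simp only [zero_add] at h5
      rw [add_assoc] at h5
      have h6 : pv (t := t) ⟨((L.D i * L.D i : ↥(centralizer ({t} : Set G))) : G) * x * ((L.D i * L.D i : ↥(centralizer ({t} : Set G))) : G)⁻¹, oc_conj_mem (L.D i * L.D i).2 F.two.mem⟩ =
          pv ⟨L.dl i * L.dl i * x * (L.dl i * L.dl i)⁻¹, hmem⟩ := rfl
      rw [h6, H.exp_two, add_zero] at h5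
      rw [← h5, ← pv_mul]
      exact congrArg pv (Subtype.ext (by show x * F.qs _ = x * _; rw [hq i]; rfl))
    exact (H.pv_eq_iff.1 h3)
  refine hcases.resolve_right fun he => ?_
  -- compare the two orders of conjugation
  have hb : (2 ^ i.val).testBit (0 : Fin 3).val = false := by
    rw [Nat.testBit_two_pow_of_ne]; intro h; exact hi (Fin.ext h)
  have hb' : (1 : ℕ).testBit i.val = false := by
    fin_cases i <;> first | (exact absurd rfl hi) | decide
  have hlt : (2 : ℕ) ^ i.val < 8 := by fin_cases i <;> norm_num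
  have A1 := F.conj_up hlt hb
  have A2 := F.conj_up (S := 1) (by norm_num) hb'
  have hd : Commute (L.dl 0 * L.dl 0) (L.dl i * L.dl i) :=
    ((show Commute (L.dl 0) (L.dl i) from L.dd 0 i).mul_left (L.dd 0 i)).mul_right
      ((show Commute (L.dl 0) (L.dl i) from L.dd 0 i).mul_left (L.dd 0 i))
  have key : (L.dl 0 * L.dl 0) * (x * F.qs (2 ^ i.val) * t) * (L.dl 0 * L.dl 0)⁻¹ =
      (L.dl i * L.dl i) * (x * F.qs 1) * (L.dl i * L.dl i)⁻¹ := by
    rw [← he, ← h0]
    calc _ = (L.dl 0 * L.dl 0 * (L.dl i * L.dl i)) * x * (L.dl 0 * L.dl 0 * (L.dl i * L.dl i))⁻¹ := by group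
      _ = (L.dl i * L.dl i * (L.dl 0 * L.dl 0)) * x * (L.dl i * L.dl i * (L.dl 0 * L.dl 0))⁻¹ := by rw [hd.eq]
      _ = _ := by group
  have ht0 : L.dl 0 * L.dl 0 * t * (L.dl 0 * L.dl 0)⁻¹ = t :=
    mul_inv_eq_iff_eq_mul.2 ((show Commute (L.dl 0) t from L.dC 0).mul_left (L.dC 0)).eq
  have B1 : L.dl 0 * L.dl 0 * F.qs (2 ^ i.val) * (L.dl 0 * L.dl 0)⁻¹ =
      F.qs (2 ^ i.val) * F.qs (1 ^^^ 2 ^ i.val) := by
    rw [← A2, hq i]
    calc _ = L.dl i * (L.dl 0 * L.dl 0 * x * (L.dl 0 * L.dl 0)⁻¹) * (L.dl i)⁻¹ := by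
          have hc : Commute (L.dl 0 * L.dl 0) (L.dl i) :=
            (show Commute (L.dl 0) (L.dl i) from L.dd 0 i).mul_left (L.dd 0 i)
          rw [show L.dl 0 * L.dl 0 * (L.dl i * x * (L.dl i)⁻¹) * (L.dl 0 * L.dl 0)⁻¹ =
            (L.dl 0 * L.dl 0 * L.dl i) * x * (L.dl 0 * L.dl 0 * L.dl i)⁻¹ by group, hc.eq]
          group
      _ = _ := by rw [h0]; group
  have B2 : L.dl i * L.dl i * F.qs 1 * (L.dl i * L.dl i)⁻¹ =
      F.qs 1 * F.qs (1 ^^^ 2 ^ i.val) * t := by
    rw [Nat.xor_comm, show F.qs (2 ^ i.val ^^^ 1) = L.dl 0 * F.qs (2 ^ i.val) * (L.dl 0)⁻¹ from A1.symm,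
      show F.qs 1 = L.dl 0 * x * (L.dl 0)⁻¹ from hq 0]
    calc _ = L.dl 0 * (L.dl i * L.dl i * x * (L.dl i * L.dl i)⁻¹) * (L.dl 0)⁻¹ := by
          have hc : Commute (L.dl i * L.dl i) (L.dl 0) :=
            (show Commute (L.dl i) (L.dl 0) from L.dd i 0).mul_left (L.dd i 0)
          rw [show L.dl i * L.dl i * (L.dl 0 * x * (L.dl 0)⁻¹) * (L.dl i * L.dl i)⁻¹ =
            (L.dl i * L.dl i * L.dl 0) * x * (L.dl i * L.dl i * L.dl 0)⁻¹ by group, hc.eq]
          group
      _ = _ := by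
        rw [he, show L.dl 0 * (x * F.qs (2 ^ i.val) * t) * (L.dl 0)⁻¹ =
          L.dl 0 * x * (L.dl 0)⁻¹ * (L.dl 0 * F.qs (2 ^ i.val) * (L.dl 0)⁻¹) * (L.dl 0 * t * (L.dl 0)⁻¹) by group,
          mul_inv_eq_iff_eq_mul.2 (L.dC 0)]
  rw [show L.dl 0 * L.dl 0 * (x * F.qs (2 ^ i.val) * t) * (L.dl 0 * L.dl 0)⁻¹ =
      (L.dl 0 * L.dl 0 * x * (L.dl 0 * L.dl 0)⁻¹) * (L.dl 0 * L.dl 0 * F.qs (2 ^ i.val) * (L.dl 0 * L.dl 0)⁻¹) *
        (L.dl 0 * L.dl 0 * t * (L.dl 0 * L.dl 0)⁻¹) by group, h0, B1, ht0,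
    show L.dl i * L.dl i * (x * F.qs 1) * (L.dl i * L.dl i)⁻¹ =
      (L.dl i * L.dl i * x * (L.dl i * L.dl i)⁻¹) * (L.dl i * L.dl i * F.qs 1 * (L.dl i * L.dl i)⁻¹) by group,
    he, B2] at key
  have hc01 : Commute (F.qs 1) (F.qs (2 ^ i.val)) := F.comm_W (F.qs_W 0) (F.qs_W i)
  have hsq : F.qs 1 * F.qs 1 = 1 := F.qs_sq 1
  have R : x * F.qs (2 ^ i.val) * t * (F.qs 1 * F.qs (1 ^^^ 2 ^ i.val) * t) =
      x * F.qs 1 * (F.qs (2 ^ i.val) * F.qs (1 ^^^ 2 ^ i.val)) := by
    rw [show x * F.qs (2 ^ i.val) * t * (F.qs 1 * F.qs (1 ^^^ 2 ^ i.val) * t) =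
      x * F.qs (2 ^ i.val) * (t * (F.qs 1 * F.qs (1 ^^^ 2 ^ i.val))) * t by group,
      ← ((F.t_comm 1).mul_left (F.t_comm _)).eq,
      show x * F.qs (2 ^ i.val) * (F.qs 1 * F.qs (1 ^^^ 2 ^ i.val) * t) * t =
        x * (F.qs (2 ^ i.val) * F.qs 1) * F.qs (1 ^^^ 2 ^ i.val) * (t * t) by group,
      ← hc01.eq, H.tt, mul_one]
    group
  rw [R] at key
  exact H.tne (mul_eq_left.1 key)

theorem conj_down {S : ℕ} (hS : S < 8) {i : Fin 3} (h : S.testBit i.val = true) :
    L.dl i * F.qs S * (L.dl i)⁻¹ = F.qs (S ^^^ 2 ^ i.val) * F.qs S := by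
  set T := S ^^^ 2 ^ i.val with hT'
  have hT : T < 8 := Nat.xor_lt_two_pow (n := 3) hS (by fin_cases i <;> norm_num)
  have hb : T.testBit i.val = false := by
    rw [hT', Nat.testBit_xor, h, Nat.testBit_two_pow_self]; rfl
  have e1 := F.mv_up ⟨T, hT⟩ i hb
  simp only at e1
  rw [hT', Nat.xor_assoc, Nat.xor_self, Nat.xor_zero, ← hT'] at e1
  have hc : Commute (L.dl i) (F.mv T) := by
    have h' : ∀ (b : Bool) (k : Fin 3), Commute (L.dl i) (if b then L.dl k else 1) := fun b k => by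
      cases b
      · exact Commute.one_right _
      · exact L.dd i k
    exact ((h' _ 0).mul_right (h' _ 1)).mul_right (h' _ 2)
  have e2 : F.mv S = F.mv T * L.dl i := by rw [← e1, hc.eq]
  calc L.dl i * F.qs S * (L.dl i)⁻¹ = (L.dl i * F.mv T) * L.dl i * x * ((L.dl i * F.mv T) * L.dl i)⁻¹ := by
        rw [qs, e2]; group
    _ = F.mv T * (L.dl i * L.dl i * x * (L.dl i * L.dl i)⁻¹) * (F.mv T)⁻¹ := by rw [hc.eq]; group
    _ = F.mv T * (x * (L.dl i * x * (L.dl i)⁻¹)) * (F.mv T)⁻¹ := by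
      rw [F.square_x i]
      have hb0 : (0 : ℕ).testBit i.val = false := Nat.zero_testBit _
      have := F.conj_up (S := 0) (by norm_num) hb0
      rw [F.qs_zero, Nat.zero_xor] at this
      rw [this]
    _ = _ := by rw [qs, qs, e2]; group

/-- The commutation of two generators is as prescribed. -/
def Com (S T : ℕ) : Prop := F.qs S * F.qs T = zb t (comB S T) * (F.qs T * F.qs S)

theorem com_symm {S T : ℕ} (h : F.Com S T) : F.Com T S := by
  unfold Com at h ⊢
  rw [show comB T S = comB S T by rw [comB, comB, Nat.xor_comm], h, ← mul_assoc]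
  cases comB S T <;> simp [zb, H.tt]

theorem com_up {S T : ℕ} (hS : S < 8) (hT : T < 8) {i : Fin 3} (h1 : S.testBit i.val = false)
    (h2 : T.testBit i.val = false) (h : F.Com S T) : F.Com (S ^^^ 2 ^ i.val) (T ^^^ 2 ^ i.val) := by
  unfold Com at h ⊢
  have e : comB (S ^^^ 2 ^ i.val) (T ^^^ 2 ^ i.val) = comB S T := by
    rw [comB, comB]
    congr 1
    rw [Nat.xor_assoc, Nat.xor_comm T, ← Nat.xor_assoc (2 ^ i.val), Nat.xor_self, Nat.zero_xor]
  have hz := (zb_comm (comB S T) (L.dC i) : Commute (L.dl i) (zb t (comB S T)))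
  rw [e, ← F.conj_up hS h1, ← F.conj_up hT h2,
    show L.dl i * F.qs S * (L.dl i)⁻¹ * (L.dl i * F.qs T * (L.dl i)⁻¹) = L.dl i * (F.qs S * F.qs T) * (L.dl i)⁻¹ by group,
    h, ← mul_assoc (L.dl i), hz.eq]
  group

theorem com_zero_pair {j k : Fin 3} (h : j ≠ k) : Commute x (F.qs (2 ^ k.val ^^^ 2 ^ j.val)) := by
  have h1 : Commute (x * F.qs (2 ^ j.val)) (F.qs (2 ^ k.val)) :=
    (F.comm_W F.two.x_W (F.qs_W k)).mul_left (F.comm_W (F.qs_W j) (F.qs_W k))
  rw [← F.square_x j] at h1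
  have h2 := (Commute.conj_iff (L.dl j)).2 h1
  rw [show L.dl j * (L.dl j * L.dl j * x * (L.dl j * L.dl j)⁻¹) * (L.dl j)⁻¹ =
      (L.dl j * L.dl j * L.dl j) * x * (L.dl j * L.dl j * L.dl j)⁻¹ by group, L.d3, one_mul, inv_one,
    mul_one, F.conj_up (by fin_cases k <;> norm_num) (Nat.testBit_two_pow_of_ne fun e => h (Fin.ext e).symm)] at h2
  exact h2

theorem x_central_false (h : ∀ S < 8, Commute x (F.qs S)) : False := by
  have hp : ∀ k, k ≤ 8 → ∀ a, Commute x (F.prd k a) := by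
    intro k hk a
    induction k with
    | zero => exact Commute.one_right x
    | succ k ih =>
      simp only [prd]
      split_ifs
      · exact (ih (by omega)).mul_right (h k (by omega))
      · exact ih (by omega)
  rcases H.sett.center_cases F.two.mem (fun q hq => by
    obtain ⟨c, -, rfl | rfl⟩ := F.exists_prd hq
    · exact (hp 8 le_rfl c).symm
    · exact ((hp 8 le_rfl c).mul_right (H.sett.comm_z F.two.mem)).symm) with e | e
  exacts [F.two.xne e, F.two.ne e]

theorem com_zero_top : F.Com 0 7 := by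
  rw [Com, F.qs_zero, show comB 0 7 = true from rfl]
  rcases H.sett.commutator_cases F.two.mem (F.qs_mem 7) with e | e
  · exfalso
    refine F.x_central_false fun U hU => ?_
    rcases zero_cases ⟨U, hU⟩ with h | ⟨i, h⟩ | ⟨j, k, hjk, h⟩ | h <;> simp only at h <;> rw [h]
    · rw [F.qs_zero]
    · exact F.comm_W F.two.x_W (F.qs_W i)
    · exact F.com_zero_pair hjk
    · exact commutatorElement_eq_one_iff_mul_comm.1 e
  · simp only [zb, if_true]
    calc x * F.qs 7 = x * F.qs 7 * x⁻¹ * (F.qs 7)⁻¹ * (F.qs 7 * x) := by group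
      _ = t * (F.qs 7 * x) := congrArg (· * (F.qs 7 * x)) e

theorem com_zero {U : ℕ} (hU : U < 8) : F.Com 0 U := by
  rcases zero_cases ⟨U, hU⟩ with h | ⟨i, h⟩ | ⟨j, k, hjk, h⟩ | h <;> simp only at h
  · subst h; simp [Com, comB, zb]
  · subst h
    rw [Com, F.qs_zero, show comB 0 (2 ^ i.val) = false by fin_cases i <;> rfl]
    simp only [zb, Bool.false_eq_true, if_false, one_mul]
    exact F.comm_W F.two.x_W (F.qs_W i)
  · subst h
    rw [Com, F.qs_zero, show comB 0 (2 ^ k.val ^^^ 2 ^ j.val) = false by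
      revert hjk; revert j k; decide]
    simp only [zb, Bool.false_eq_true, if_false, one_mul]
    exact F.com_zero_pair hjk
  · subst h; exact F.com_zero_top

theorem com_all : ∀ S T : ℕ, S < 8 → T < 8 → F.Com S T := by
  intro S
  induction S using Nat.strong_induction_on with
  | _ S IH =>
  intro T hS hT
  by_cases hcom : ∀ i : Fin 3, ¬(S.testBit i.val = true ∧ T.testBit i.val = true)
  · rcases pair_cases ⟨S, hS⟩ ⟨T, hT⟩ hcom with h | h | ⟨i, j, hij, h, h'⟩ | ⟨i, h, h'⟩ | ⟨i, h, h'⟩ <;>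
      simp only at h
    · subst h; exact F.com_zero hT
    · subst h; exact F.com_symm (F.com_zero hS)
    · simp only at h'
      subst h; subst h'
      have key : ∀ i j : Fin 3, i ≠ j → comB (2 ^ i.val) (2 ^ j.val) = false := by decide
      rw [Com, key i j hij]
      simp only [zb, Bool.false_eq_true, if_false, one_mul]
      exact F.comm_W (F.qs_W i) (F.qs_W j)
    all_goals
      simp only at h'
      subst h; subst h'
      suffices hk : F.Com (2 ^ i.val) (7 ^^^ 2 ^ i.val) by first | exact hk | exact F.com_symm hk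
      rw [Com, show comB (2 ^ i.val) (7 ^^^ 2 ^ i.val) = true by fin_cases i <;> rfl]
      rcases H.sett.commutator_cases (F.qs_mem (2 ^ i.val)) (F.qs_mem (7 ^^^ 2 ^ i.val)) with e | e
      · exfalso
        have h1 : Commute (F.qs (2 ^ i.val)) (F.qs (7 ^^^ 2 ^ i.val)) :=
          commutatorElement_eq_one_iff_mul_comm.1 e
        have h2 := (Commute.conj_iff (L.dl i)).2 h1
        have hlt : 2 ^ i.val < 8 := by fin_cases i <;> norm_num
        have hlt' : 7 ^^^ 2 ^ i.val < 8 := by fin_cases i <;> decide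
        have hbit : (7 ^^^ 2 ^ i.val).testBit i.val = false := by fin_cases i <;> decide
        rw [F.conj_down hlt (Nat.testBit_two_pow_self), F.conj_up hlt' hbit,
          Nat.xor_assoc, Nat.xor_self, Nat.xor_zero, F.qs_zero] at h2
        have h3 : F.Com (2 ^ i.val) 7 := by
          have h4 := F.com_up (S := 0) (T := 7 ^^^ 2 ^ i.val) (i := i) (by norm_num) hlt' (Nat.zero_testBit _)
            hbit (F.com_zero hlt')
          rwa [Nat.zero_xor, Nat.xor_assoc, Nat.xor_self, Nat.xor_zero] at h4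
        have h3' : Commute (F.qs (2 ^ i.val)) (F.qs 7) := by
          unfold Com at h3
          rw [show comB (2 ^ i.val) 7 = false by fin_cases i <;> rfl] at h3
          simp [zb] at h3
          exact h3
        have h5 : Commute x (F.qs 7) := by
          have h6 := h2.mul_left h3'
          rwa [mul_assoc, F.qs_sq, mul_one] at h6
        have h7 := F.com_zero (U := 7) (by norm_num)
        unfold Com at h7
        rw [F.qs_zero, h5.eq, show comB 0 7 = true from rfl] at h7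
        exact H.tne (mul_eq_right.1 h7.symm)
      · simp only [zb, if_true]
        calc F.qs (2 ^ i.val) * F.qs (7 ^^^ 2 ^ i.val) = F.qs (2 ^ i.val) * F.qs (7 ^^^ 2 ^ i.val) *
              (F.qs (2 ^ i.val))⁻¹ * (F.qs (7 ^^^ 2 ^ i.val))⁻¹ *
              (F.qs (7 ^^^ 2 ^ i.val) * F.qs (2 ^ i.val)) := by group
          _ = t * (F.qs (7 ^^^ 2 ^ i.val) * F.qs (2 ^ i.val)) :=
            congrArg (· * (F.qs (7 ^^^ 2 ^ i.val) * F.qs (2 ^ i.val))) e
  · push Not at hcom
    obtain ⟨i, hi, hi'⟩ := hcom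
    have hS' : S ^^^ 2 ^ i.val < S := Nat.lt_of_testBit i.val (by
      rw [Nat.testBit_xor, hi, Nat.testBit_two_pow_self]; rfl) hi fun k hk => by
      rw [Nat.testBit_xor, Nat.testBit_two_pow_of_ne (by omega)]; simp
    have hT8 : T ^^^ 2 ^ i.val < 8 := Nat.xor_lt_two_pow (n := 3) hT (by fin_cases i <;> norm_num)
    have := F.com_up (i := i) (show S ^^^ 2 ^ i.val < 8 by omega) hT8
      (by rw [Nat.testBit_xor, hi, Nat.testBit_two_pow_self]; rfl)
      (by rw [Nat.testBit_xor, hi', Nat.testBit_two_pow_self]; rfl)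
      (IH _ hS' _ (by omega) hT8)
    rwa [Nat.xor_assoc, Nat.xor_self, Nat.xor_zero, Nat.xor_assoc, Nat.xor_self, Nat.xor_zero] at this

theorem n_x (i : Fin 3) : L.nl i * x * (L.nl i)⁻¹ = x := by
  have hmem : L.nl i * x * (L.nl i)⁻¹ ∈ oc t :=
    oc_conj_mem (mem_centralizer_singleton_iff.2 (L.nC i)) F.two.mem
  have h := F.a_e0 i
  rw [e, qact_pv, H.pv_eq_iff] at h
  simp only [F.qs_zero] at h
  rcases h with e | e
  · exact e.symm
  exfalso
  set n := L.nl i
  set d := L.dl i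
  have hn : n * x * n⁻¹ = x * t := by
    calc n * x * n⁻¹ = n * x * n⁻¹ * t * t := by rw [mul_assoc _ t t, H.tt, mul_one]
      _ = x * t := congrArg (· * t) e.symm
  have hnd : n * d * n⁻¹ = d * d := mul_inv_eq_iff_eq_mul.2 (L.nd i)
  have htd : Commute d t := L.dC i
  set z := d * d * x * (d * d)⁻¹ with hz
  have hzx : z = x * (d * x * d⁻¹) := by
    rw [hz, F.square_x i]
    have hb0 : (0 : ℕ).testBit i.val = false := Nat.zero_testBit _
    have := F.conj_up (S := 0) (by norm_num) hb0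
    rw [F.qs_zero, Nat.zero_xor] at this
    rw [this]
  have e1 : n * (d * x * d⁻¹) * n⁻¹ = z * t := by
    rw [show n * (d * x * d⁻¹) * n⁻¹ = (n * d * n⁻¹) * (n * x * n⁻¹) * (n * d * n⁻¹)⁻¹ by group, hnd, hn,
      mul_assoc _ (x * t), mul_assoc x, ← (htd.mul_left htd).inv_left.eq]
    rw [hz]; group
  have e2 : n * z * n⁻¹ = d * x * d⁻¹ * t := by
    rw [hz, show n * (d * d * x * (d * d)⁻¹) * n⁻¹ = (n * d * n⁻¹) * (n * d * n⁻¹) * (n * x * n⁻¹) *
      ((n * d * n⁻¹) * (n * d * n⁻¹))⁻¹ by group, hnd, hn]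
    have h4 : d * d * (d * d) = d := by rw [← mul_assoc, L.d3, one_mul]
    rw [h4, mul_assoc, mul_assoc, ← htd.inv_left.eq]
    group
  rw [hzx, show n * (x * (d * x * d⁻¹)) * n⁻¹ = (n * x * n⁻¹) * (n * (d * x * d⁻¹) * n⁻¹) by group, hn,
    e1, hzx] at e2
  have hxd : Commute t (x * (d * x * d⁻¹)) := by
    rw [← hzx]
    exact (H.sett.comm_z (oc_conj_mem (mem_centralizer_singleton_iff.2 ((htd.mul_left htd).eq)) F.two.mem)).symm
  have e3 : x * t * (x * (d * x * d⁻¹) * t) = d * x * d⁻¹ := by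
    calc x * t * (x * (d * x * d⁻¹) * t) = x * (t * (x * (d * x * d⁻¹))) * t := by group
      _ = x * x * (d * x * d⁻¹) * (t * t) := by rw [hxd.eq]; group
      _ = _ := by rw [F.two.xx, H.tt, one_mul, mul_one]
  rw [e3] at e2
  exact H.tne (mul_eq_left.1 e2.symm)

theorem conj_n {S : ℕ} (hS : S < 8) (i : Fin 3) : L.nl i * F.qs S * (L.nl i)⁻¹ =
    if S.testBit i.val then F.qs (S ^^^ 2 ^ i.val) * F.qs S else F.qs S := by
  induction S using Nat.strong_induction_on with
  | _ S IH =>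
  by_cases h0 : S = 0
  · subst h0
    simp [F.qs_zero, F.n_x]
  obtain ⟨j, hj, hji⟩ := pick_bit ⟨S, hS⟩ i h0
  simp only at hj hji
  set T := S ^^^ 2 ^ j.val with hT'
  have hb : T.testBit j.val = false := by
    rw [hT', Nat.testBit_xor, hj, Nat.testBit_two_pow_self]; rfl
  have hT : T < S := Nat.lt_of_testBit j.val hb hj fun k hk => by
    rw [hT', Nat.testBit_xor, Nat.testBit_two_pow_of_ne (by omega)]; simp
  have e1 := F.conj_up (show T < 8 by omega) hb
  rw [hT', Nat.xor_assoc, Nat.xor_self, Nat.xor_zero, ← hT'] at e1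
  have e2 : ∀ d d' : G, L.nl i * d = d' * L.nl i → L.nl i * (d * F.qs T * d⁻¹) * (L.nl i)⁻¹ =
      d' * (L.nl i * F.qs T * (L.nl i)⁻¹) * d'⁻¹ := fun d d' h => by
    rw [show L.nl i * (d * F.qs T * d⁻¹) * (L.nl i)⁻¹ = (L.nl i * d) * F.qs T * (L.nl i * d)⁻¹ by group, h]
    group
  by_cases hij : i = j
  · subst hij
    rw [if_pos hj, ← e1, e2 _ _ (L.nd i), IH T hT (by omega), if_neg (by rw [hb]; simp),
      show L.dl i * L.dl i * F.qs T * (L.dl i * L.dl i)⁻¹ = L.dl i * (L.dl i * F.qs T * (L.dl i)⁻¹) * (L.dl i)⁻¹ by group,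
      e1]
    exact F.conj_down hS hj
  · have hni : ¬ S.testBit i.val = true := fun h => hij (hji h).symm
    rw [if_neg hni, ← e1, e2 _ _ (L.ndne i j hij), IH T hT (by omega), if_neg (by
      rw [hT', Nat.testBit_xor, Nat.testBit_two_pow_of_ne fun h => hij (Fin.ext h).symm]; simpa using hni)]

theorem nl_mem_W_cent (i : Fin 3) : L.nl i ∈ oc x := by
  obtain ⟨r, hr, hrp⟩ := F.std i
  have hq : (((L.N i)⁻¹ * r : ↥(centralizer ({t} : Set G))) : G) ∈ oc t :=
    (H.ker _).1 (by rw [map_mul, map_inv, hrp, show H.π (L.N i) = ref i from L.nπ i, inv_mul_cancel])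
  have hrR : (r : G) ∈ oc x ⊓ centralizer ({t} : Set G) := mem_subgroupOf.1 hr
  -- `r` and the lift agree on the generators of the meet
  have gens : ∀ w ∈ ({t, x, F.qs 1, F.qs 2, F.qs 4} : Set G), (r : G) * w * (r : G)⁻¹ =
      L.nl i * w * (L.nl i)⁻¹ := by
    intro w hw
    have hwW : w ∈ oc t ⊓ oc x := by
      rcases hw with rfl | rfl | rfl | rfl | rfl
      exacts [F.two.t_W, F.two.x_W, F.qs_W 0, F.qs_W 1, F.qs_W 2]
    have hq' := H.qact_congr (c := r) (d := L.N i) (hrp.trans (L.nπ i).symm) (pv ⟨w, hwW.1⟩)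
    rw [qact_pv, qact_pv, H.pv_eq_iff] at hq'
    have hnw : L.nl i * w * (L.nl i)⁻¹ = w ∨ L.nl i * w * (L.nl i)⁻¹ = x * w := by
      rcases hw with rfl | rfl | rfl | rfl | rfl
      · exact Or.inl (mul_inv_eq_iff_eq_mul.2 (L.nC i))
      · exact Or.inl (F.n_x i)
      · rw [F.conj_n (by norm_num) i]; fin_cases i <;> simp [F.qs_zero, Nat.testBit, Nat.shiftRight_eq_div_pow]
      · rw [F.conj_n (by norm_num) i]; fin_cases i <;> simp [F.qs_zero, Nat.testBit, Nat.shiftRight_eq_div_pow]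
      · rw [F.conj_n (by norm_num) i]; fin_cases i <;> simp [F.qs_zero, Nat.testBit, Nat.shiftRight_eq_div_pow]
    rcases hq' with e | e
    · exact e.symm
    exfalso
    have e' : L.nl i * w * (L.nl i)⁻¹ = (r : G) * w * (r : G)⁻¹ * t := e
    have hwx : Commute w x := (F.comm_W hwW F.two.x_W)
    rcases F.two.R_W hrR hwW with h | h <;> rw [h] at e' <;> rcases hnw with h' | h' <;> rw [h'] at e'
    · exact H.tne (mul_eq_left.1 e'.symm)
    · rw [← hwx.eq] at e'
      exact F.two.ne (mul_left_cancel e')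
    · rw [← hwx.eq, mul_assoc] at e'
      exact F.two.ne (by
        have h1 := mul_eq_left.1 e'.symm
        rw [← mul_one x, ← H.tt, ← mul_assoc, h1, one_mul])
    · exact H.tne (mul_eq_left.1 e'.symm)
  have hW : ∀ w ∈ oc t ⊓ oc x, (((L.N i)⁻¹ * r : ↥(centralizer ({t} : Set G))) : G) * w =
      w * (((L.N i)⁻¹ * r : ↥(centralizer ({t} : Set G))) : G) := by
    set q := (((L.N i)⁻¹ * r : ↥(centralizer ({t} : Set G))) : G) with hq0
    have hgen : ∀ w ∈ ({t, x, F.qs 1, F.qs 2, F.qs 4} : Set G), q * w = w * q := by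
      intro w hw
      have := gens w hw
      show (L.nl i)⁻¹ * (r : G) * w = w * ((L.nl i)⁻¹ * (r : G))
      calc (L.nl i)⁻¹ * (r : G) * w = (L.nl i)⁻¹ * ((r : G) * w * (r : G)⁻¹) * (r : G) := by group
        _ = _ := by rw [this]; group
    set K := closure ({t, x, F.qs 1, F.qs 2, F.qs 4} : Set G)
    have hKle : K ≤ centralizer ({q} : Set G) :=
      (closure_le _).2 fun w hw => mem_centralizer_singleton_iff.2 (hgen w hw).symm
    have hK : oc t ⊓ oc x ≤ K := by
      have hb : K ≤ oc t ⊓ oc x := (closure_le _).2 (by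
        rintro w (rfl | rfl | rfl | rfl | rfl)
        exacts [F.two.t_W, F.two.x_W, F.qs_W 0, F.qs_W 1, F.qs_W 2])
      refine (eq_of_le_of_card_ge hb ?_).ge
      rw [F.two.card_W]
      have hkey : ∀ (c : Fin 256), c.val &&& 23 = c.val → F.prd 8 c.val ∈ K := by
        intro c hc
        have hs : ∀ k < 8, c.val.testBit k = true → F.qs k ∈ K := by
          intro k hk hbit
          have hm : ((c.val &&& 23).testBit k) = true := by rw [hc]; exact hbit
          rw [Nat.testBit_and, hbit, Bool.true_and] at hm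
          interval_cases k <;> first | (exact absurd hm (by decide)) | skip
          · rw [F.qs_zero]; exact subset_closure (by simp)
          all_goals exact subset_closure (by simp)
        have : ∀ k ≤ 8, F.prd k c.val ∈ K := by
          intro k hk
          induction k with
          | zero => exact one_mem _
          | succ k ih =>
            simp only [prd]
            split_ifs with hbit
            · exact mul_mem (ih (by omega)) (hs k (by omega) hbit)
            · exact ih (by omega)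
        exact this 8 le_rfl
      have ht : t ∈ K := subset_closure (by simp)
      let f : {c : Fin 256 // c.val &&& 23 = c.val} × Bool → ↥K := fun p =>
        ⟨F.prd 8 p.1.1.val * zb t p.2, mul_mem (hkey _ p.1.2) (by cases p.2 <;> simp [zb, ht])⟩
      have hf : Function.Injective f := by
        rintro ⟨⟨a, ha⟩, ba⟩ ⟨⟨b, hb'⟩, bb⟩ h
        have h' : F.prd 8 a.val * zb t ba = F.prd 8 b.val * zb t bb := congrArg Subtype.val h
        have hpv : F.ev a.val = F.ev b.val := by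
          rw [← show pv ⟨F.prd 8 a.val, F.prd_mem 8 _⟩ = F.ev a.val from F.pv_prd 8 a.val,
            ← show pv ⟨F.prd 8 b.val, F.prd_mem 8 _⟩ = F.ev b.val from F.pv_prd 8 b.val, H.pv_eq_iff]
          show F.prd 8 b.val = F.prd 8 a.val ∨ F.prd 8 b.val = F.prd 8 a.val * t
          cases ba <;> cases bb <;> simp [zb] at h'
          · exact Or.inl h'.symm
          · exact Or.inr (by rw [h', mul_assoc, H.tt, mul_one])
          · exact Or.inr h'.symm
          · exact Or.inl h'.symm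
        obtain rfl : a = b := F.ev_bij.1 hpv
        have h'' := mul_left_cancel h'
        cases ba <;> cases bb <;> simp [zb] at h''
        · rfl
        · exact absurd h''.symm H.tne
        · exact absurd h'' H.tne
        · rfl
      refine le_trans ?_ (Nat.card_le_card_of_injective f hf)
      rw [Nat.card_eq_fintype_card]
      decide +kernel
    exact fun w hw => (mem_centralizer_singleton_iff.1 (hKle (hK hw))).symm
  have hqW := H.centralizer_abel inf_le_left F.two.abel F.two.card_W hq hW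
  have e : L.nl i = (r : G) * ((((L.N i)⁻¹ * r : ↥(centralizer ({t} : Set G))) : G))⁻¹ := by
    show L.nl i = (r : G) * ((L.nl i)⁻¹ * (r : G))⁻¹
    group
  rw [e]
  exact (oc x).mul_mem hrR.1 ((oc x).inv_mem hqW.2)

theorem cent_d {q : G} (hq : q ∈ oc t) (h : ∀ i, Commute (L.dl i) q) : q = 1 ∨ q = t := by
  refine (H.pv_zero_iff (a := ⟨q, hq⟩)).1 ?_
  have hd : qact (L.D 0) (pv ⟨q, hq⟩) = pv ⟨q, hq⟩ := by
    rw [qact_pv]
    exact congrArg pv (Subtype.ext (mul_inv_eq_iff_eq_mul.2 (h 0).eq))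
  have := F.two.fpf F.std L 0 (pv ⟨q, hq⟩)
  rwa [hd, hd, H.exp_two, zero_add] at this

theorem nn (i : Fin 3) : L.nl i * L.nl i = 1 := by
  have hmem : L.nl i * L.nl i ∈ oc t := (H.ker (L.N i * L.N i)).1 (by
    rw [map_mul, show H.π (L.N i) = ref i from L.nπ i]; exact ref_mul_self i)
  refine F.two.pair.one_of_both (F.cent_d hmem fun j => ?_) (F.two.pair.sq_cases' (F.nl_mem_W_cent i))
  show L.dl j * (L.nl i * L.nl i) = L.nl i * L.nl i * L.dl j
  by_cases hij : i = j
  · subst hij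
    rw [mul_assoc (L.nl i), L.nd i, show L.nl i * (L.dl i * L.dl i * L.nl i) =
      (L.nl i * L.dl i) * (L.dl i * L.nl i) by group, L.nd i,
      show L.dl i * L.dl i * L.nl i * (L.dl i * L.nl i) = L.dl i * L.dl i * (L.nl i * L.dl i) * L.nl i by group,
      L.nd i, show L.dl i * L.dl i * (L.dl i * L.dl i * L.nl i) * L.nl i =
        (L.dl i * L.dl i * L.dl i) * L.dl i * (L.nl i * L.nl i) by group, L.d3, one_mul]
  · exact ((show Commute (L.nl i) (L.dl j) from L.ndne i j hij).mul_left (L.ndne i j hij)).eq.symm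

theorem nn_comm (i j : Fin 3) : L.nl i * L.nl j = L.nl j * L.nl i := by
  by_cases hij : i = j
  · rw [hij]
  refine commutatorElement_eq_one_iff_mul_comm.1 ?_
  rw [commutatorElement_def]
  have hmem : L.nl i * L.nl j * (L.nl i)⁻¹ * (L.nl j)⁻¹ ∈ oc t :=
    (H.ker (L.N i * L.N j * (L.N i)⁻¹ * (L.N j)⁻¹)).1 (by
      rw [map_mul, map_mul, map_mul, map_inv, map_inv, show H.π (L.N i) = ref i from L.nπ i,
        show H.π (L.N j) = ref j from L.nπ j, ref_comm i j, mul_inv_cancel_right, mul_inv_cancel])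
  refine F.two.pair.one_of_both (F.cent_d hmem fun k => ?_)
    (F.two.pair.comm_cases' (F.nl_mem_W_cent i) (F.nl_mem_W_cent j))
  have inv2 : ∀ l, (L.nl l)⁻¹ = L.nl l := fun l => inv_eq_of_mul_eq_one_right (F.nn l)
  rw [inv2, inv2]
  have sd : ∀ l, L.nl l * (L.dl l * L.dl l) = L.dl l * L.nl l := fun l => by
    rw [← mul_assoc, L.nd, mul_assoc _ (L.nl l), L.nd, show L.dl l * L.dl l * (L.dl l * L.dl l * L.nl l) =
      (L.dl l * L.dl l * L.dl l) * L.dl l * L.nl l by group, L.d3, one_mul]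
  have hc : ∀ l, l ≠ k → Commute (L.nl l) (L.dl k) := fun l h => L.ndne l k h
  show L.dl k * (L.nl i * L.nl j * L.nl i * L.nl j) = L.nl i * L.nl j * L.nl i * L.nl j * L.dl k
  by_cases hik : i = k
  · subst hik
    have hj := hc j (Ne.symm hij)
    calc L.dl i * (L.nl i * L.nl j * L.nl i * L.nl j)
        = (L.dl i * L.nl i) * L.nl j * L.nl i * L.nl j := by group
      _ = L.nl i * (L.dl i * L.dl i * L.nl j) * L.nl i * L.nl j := by rw [← sd]; group
      _ = L.nl i * (L.nl j * (L.dl i * L.dl i)) * L.nl i * L.nl j := by rw [← (hj.mul_right hj).eq]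
      _ = L.nl i * L.nl j * (L.dl i * L.dl i * L.nl i) * L.nl j := by group
      _ = L.nl i * L.nl j * L.nl i * (L.dl i * L.nl j) := by rw [← L.nd]; group
      _ = _ := by rw [← hj.eq]; group
  · by_cases hjk : j = k
    · subst hjk
      have hi := hc i hik
      calc L.dl j * (L.nl i * L.nl j * L.nl i * L.nl j)
          = (L.dl j * L.nl i) * L.nl j * L.nl i * L.nl j := by group
        _ = L.nl i * (L.dl j * L.nl j) * L.nl i * L.nl j := by rw [← hi.eq]; group
        _ = L.nl i * L.nl j * (L.dl j * L.dl j * L.nl i) * L.nl j := by rw [← sd]; group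
        _ = L.nl i * L.nl j * L.nl i * (L.dl j * L.dl j * L.nl j) := by rw [← (hi.mul_right hi).eq]; group
        _ = _ := by rw [← L.nd]; group
    · exact ((((hc i hik).mul_left (hc j hjk)).mul_left (hc i hik)).mul_left (hc j hjk)).eq.symm

end Frame

end Cfsg.Agent.OEightRec
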