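import Cfsg.Agent.OEightRec.Nodes
import Cfsg.Agent.Chev.CurtisTits.Main
import Cfsg.Agent.Chev.CurtisTits.Data.D4
import Cfsg.Agent.Chev.Ortho.D4Iso
import Cfsg.Agent.Classical.OrthPOmega
import Cfsg.Agent.GraphForms.Classify

/-!
A group generated by root involutions satisfying the node relations of type D4 over the field with two
elements, with trivial centre, is the orthogonal group `Ω⁺(8,2)`.
-/

set_option autoImplicit false
set_option maxRecDepth 100000

namespace Cfsg.Agent.OEightRec

open Cfsg.Lie Cfsg.Agent.Chev

universe u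

/-- The six root involutions of a node pair: `α₀, -α₀, αᵢ, -αᵢ, α₀ + αᵢ, -(α₀ + αᵢ)`. -/
def six {G : Type u} [Group G] (a h : G) (n m : Fin 3 → G) (i : Fin 3) (k : Fin 6) : G :=
  ![a, h * a * h, n i, m i, h * n i * h, h * m i * h] k

/-- The indices of the six roots of a node pair in the datum. -/
def sixIdx (i : Fin 3) (k : Fin 6) : ℕ :=
  ![14, 9, ![18, 13, 12] i, ![5, 10, 11] i, ![19, 16, 15] i, ![4, 7, 8] i] k

/-- The position of a root among the node pairs, if it has one. -/
def sixPos (r : ℕ) : Option (Fin 3 × Fin 6) :=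
  (List.lookup r [(14, (0, 0)), (9, (0, 1)), (18, (0, 2)), (13, (1, 2)), (12, (2, 2)), (5, (0, 3)),
    (10, (1, 3)), (11, (2, 3)), (19, (0, 4)), (16, (1, 4)), (15, (2, 4)), (4, (0, 5)), (7, (1, 5)),
    (8, (2, 5))])

/-- The commutator of two roots of a node pair, as a list of roots. -/
def sixComm (k l : Fin 6) : Option (List (Fin 6)) :=
  ![![none, none, some [4], some [], some [], some [3]],
    ![none, none, some [], some [5], some [2], some []],
    ![some [4], some [], none, none, some [], some [1]],
    ![some [], some [5], none, none, some [0], some []],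
    ![some [], some [2], some [], some [0], none, none],
    ![some [3], some [], some [1], some [], none, none]] k l

/-- The relations between the roots of the subsystems of rank two. -/
def relList : List (ℕ × ℕ × List ℕ) :=
  ((List.finRange 3).flatMap fun i => (List.finRange 6).flatMap fun k =>
    (List.finRange 6).flatMap fun l => match sixComm k l with
      | some c => [(sixIdx i k, sixIdx i l, c.map (sixIdx i))]
      | none => []) ++
  ((List.finRange 3).flatMap fun i => (List.finRange 3).flatMap fun j =>
    if i = j then [] else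
      [(sixIdx i 2, sixIdx j 2, []), (sixIdx i 2, sixIdx j 3, []), (sixIdx i 3, sixIdx j 2, []),
        (sixIdx i 3, sixIdx j 3, [])])

/-- Membership in a subsystem of rank two, decided. -/
def inSub (i j r : ℕ) : Bool :=
  (List.range 4).all fun k => k == i || k == j || ((chevD4.coroot.getD r #[]).getD k 0).natAbs == 0

theorem inSub_of {i j r : ℕ} (h : chevD4.InRankTwoSub i j r) : inSub i j r = true := by
  simp only [inSub, List.all_eq_true, List.mem_range, Bool.or_eq_true, beq_iff_eq]
  intro k hk
  by_cases h1 : k = i
  · exact Or.inl (Or.inl h1)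
  by_cases h2 : k = j
  · exact Or.inl (Or.inr h2)
  · exact Or.inr (Int.natAbs_eq_zero.2 (h.2.2.2 k hk h1 h2))

theorem pair_check : ∀ i : Fin 4, ∀ j : Fin 4, ∀ r : Fin 24, ∀ s : Fin 24,
    (inSub i j r && inSub i j s && !(s.val == r.val) && !(s.val == chevD4.neg r)) = true →
      ((r.val, s.val, (chevD4.commTerms r s).map fun c => c.1) ∈ relList ∧
        ((chevD4.commTerms r s).all fun c =>
          c.2.1.natAbs % 2 == 1 && Nat.ble 1 c.2.2.1 && Nat.ble 1 c.2.2.2) = true) := by
  decide +kernel

open QuadraticMap in
/-- The group `Ω⁺(8,2)` has trivial centre. -/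
theorem center_omega_plus :
    Subgroup.center (Cfsg.Omega (ZMod 2) (Cfsg.quadFormPlus 4 (ZMod 2))) = ⊥ := by
  have : Fact (Nat.Prime 2) := ⟨Nat.prime_two⟩
  have hQ : (polarBilin (AutPOmega.qPlus (ZMod 2) 4)).Nondegenerate := GraphForms.nondeg_qPlus
  exact Subgroup.card_eq_one.1
    ((Classical.Quad.card_center_omega (Q := AutPOmega.qPlus (ZMod 2) 4) hQ (by simp)).2 (Or.inr rfl))

variable {G : Type u} [Group G] (a h : G) (n m : Fin 3 → G)

/-- The image of a root. -/
def img (r : ℕ) : G :=
  match sixPos r with
  | some p => six a h n m p.1 p.2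
  | none => 1

theorem img_idx (i : Fin 3) (k : Fin 6) : img a h n m (sixIdx i k) = six a h n m i k := by
  fin_cases i <;> fin_cases k <;> rfl

variable {a h n m}

theorem Nodes.img_sq (N : Nodes a h n m) (r : ℕ) : img a h n m r * img a h n m r = 1 := by
  have key : ∀ i k, six a h n m i k * six a h n m i k = 1 := by
    intro i k
    have conj : ∀ x : G, x * x = 1 → h * x * h * (h * x * h) = 1 := fun x hx => by
      rw [show h * x * h * (h * x * h) = h * (x * (h * h) * x) * h by group, N.hh, mul_one, hx, mul_one, N.hh]
    fin_cases k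
    exacts [N.aa, conj _ N.aa, N.nn i, N.mm i, conj _ (N.nn i), conj _ (N.mm i)]
  rw [img]
  split
  exacts [key _ _, one_mul 1]

/-- Two involutions commute, stated as a relator. -/
theorem rel_of_comm {x y : G} (hx : x * x = 1) (hy : y * y = 1) (e : x * y = y * x) :
    y * x * y * x = 1 := by
  rw [show y * x * y * x = y * (x * y) * x by group, e,
    show y * (y * x) * x = y * y * (x * x) by group, hy, hx, one_mul]

theorem rel_flip {x y z : G} (hx : x * x = 1) (hy : y * y = 1) (hz : z * z = 1)
    (e : x * y * x * y = z) : y * x * y * x = z := by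
  have e1 : (x * y * x * y)⁻¹ = z⁻¹ := by rw [e]
  simpa [mul_assoc, inv_eq_of_mul_eq_one_left hx, inv_eq_of_mul_eq_one_left hy,
    inv_eq_of_mul_eq_one_left hz] using e1

theorem Nodes.six_rel (N : Nodes a h n m) (i : Fin 3) : ∀ k l c, sixComm k l = some c →
    six a h n m i l * six a h n m i k * six a h n m i l * six a h n m i k =
      (c.map (six a h n m i)).prod := by
  set r := n i * m i * n i with hrdef
  have hr : r * r = 1 := by
    rw [hrdef, show n i * m i * n i * (n i * m i * n i) = n i * (m i * (n i * n i) * m i) * n i by group,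
      N.nn, mul_one, N.mm, mul_one, N.nn]
  have tr : ∀ (u x y z : G), u * u = 1 → x * y * x * y = z →
      u * x * u * (u * y * u) * (u * x * u) * (u * y * u) = u * z * u := by
    intro u x y z hu e
    rw [show u * x * u * (u * y * u) * (u * x * u) * (u * y * u) =
      u * (x * (u * u) * y * (u * u) * x * (u * u) * y) * u by group, hu]
    simp only [mul_one, e]
  have tc : ∀ (u x y : G), u * u = 1 → x * y = y * x →
      u * x * u * (u * y * u) = u * y * u * (u * x * u) := by
    intro u x y hu e
    rw [show u * x * u * (u * y * u) = u * (x * (u * u) * y) * u by group,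
      show u * y * u * (u * x * u) = u * (y * (u * u) * x) * u by group, hu, mul_one, mul_one, e]
  have cancel : ∀ x : G, h * (h * x * h) * h = x := fun x => by
    rw [show h * (h * x * h) * h = h * h * x * (h * h) by group, N.hh, one_mul, mul_one]
  have cancelR : ∀ x : G, r * (r * x * r) * r = x := fun x => by
    rw [show r * (r * x * r) * r = r * r * x * (r * r) by group, hr, one_mul, mul_one]
  have rn : r * n i * r = m i := by
    have e := N.nmn i
    rw [hrdef, show n i * m i * n i * n i * (n i * m i * n i) =
      n i * m i * (n i * n i) * (n i * m i * n i) by group, N.nn, mul_one, e,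
      show n i * m i * (m i * n i * m i) = n i * (m i * m i) * n i * m i by group, N.mm, mul_one,
      N.nn, one_mul]
  have rA : r * a * r = h * n i * h := N.rar i
  have rC : r * (h * n i * h) * r = a := by rw [← rA, cancelR]
  have rh : r * h * r = h * r * h := N.braid i
  have rD : r * (h * m i * h) * r = h * a * h := by
    calc r * (h * m i * h) * r = r * h * r * (r * m i * r) * (r * h * r) := by
          rw [show r * h * r * (r * m i * r) * (r * h * r) = r * h * (r * r) * m i * (r * r) * h * r by group,
            hr, mul_one, mul_one]; group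
      _ = h * r * h * n i * (h * r * h) := by rw [rh, ← rn, cancelR]
      _ = h * (r * (h * n i * h) * r) * h := by group
      _ = h * a * h := by rw [rC]
  have rA' : r * (h * a * h) * r = h * m i * h := by rw [← rD, cancelR]
  have hsq : ∀ k, six a h n m i k * six a h n m i k = 1 := fun k => by
    rw [← img_idx]; exact N.img_sq _
  have sA : a * a = 1 := N.aa
  have sA' : h * a * h * (h * a * h) = 1 := hsq 1
  have sN : n i * n i = 1 := N.nn i
  have sM : m i * m i = 1 := N.mm i
  have sC : h * n i * h * (h * n i * h) = 1 := hsq 4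
  have sD : h * m i * h * (h * m i * h) = 1 := hsq 5
  have rm : r * m i * r = n i := by rw [← rn, cancelR]
  have AN : a * n i * a * n i = h * n i * h := N.anan i
  have AM : a * m i = m i * a := N.comm_am i
  have AC : a * (h * n i * h) = h * n i * h * a := (N.comm_ca i).symm
  have NC : n i * (h * n i * h) = h * n i * h * n i := (N.comm_cn i).symm
  have CM : h * n i * h * m i * (h * n i * h) * m i = a := N.cmcm i
  have A'C : h * a * h * (h * n i * h) * (h * a * h) * (h * n i * h) = n i := by
    rw [tr h a (n i) _ N.hh AN, cancel]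
  have A'D : h * a * h * (h * m i * h) = h * m i * h * (h * a * h) := tc h a (m i) N.hh AM
  have A'N : h * a * h * n i = n i * (h * a * h) := by
    have := tc h a (h * n i * h) N.hh AC
    rwa [cancel] at this
  have AD : a * (h * m i * h) * a * (h * m i * h) = m i := by
    have := tr r _ _ _ hr (rel_flip sA' sC sN A'C)
    rwa [rC, rA', rn] at this
  have A'M : h * a * h * m i * (h * a * h) * m i = h * m i * h := by
    have := tr h _ _ _ N.hh AD
    rwa [cancel] at this
  have ND : n i * (h * m i * h) * n i * (h * m i * h) = h * a * h := by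
    have := tr h _ _ _ N.hh CM
    rwa [cancel] at this
  have MD : m i * (h * m i * h) = h * m i * h * m i := by
    have := tc r _ _ hr A'N.symm
    rwa [rA', rn] at this
  intro k l c hc
  fin_cases k <;> fin_cases l <;> first
    | (simp [sixComm] at hc; done)
    | (obtain rfl : _ = c := Option.some.inj hc
       simp only [List.map_cons, List.map_nil, List.prod_cons, List.prod_nil, mul_one]
       first
         | exact rel_of_comm sA sM AM
         | exact rel_of_comm sM sA AM.symm
         | exact rel_of_comm sA sC AC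
         | exact rel_of_comm sC sA AC.symm
         | exact rel_of_comm sA' sN A'N
         | exact rel_of_comm sN sA' A'N.symm
         | exact rel_of_comm sA' sD A'D
         | exact rel_of_comm sD sA' A'D.symm
         | exact rel_of_comm sN sC NC
         | exact rel_of_comm sC sN NC.symm
         | exact rel_of_comm sM sD MD
         | exact rel_of_comm sD sM MD.symm
         | exact AN | exact rel_flip sA sN sC AN
         | exact AD | exact rel_flip sA sD sM AD
         | exact A'C | exact rel_flip sA' sC sN A'C
         | exact A'M | exact rel_flip sA' sM sD A'M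
         | exact CM | exact rel_flip sC sM sA CM
         | exact ND | exact rel_flip sN sD sA' ND)

theorem Nodes.rel (N : Nodes a h n m) {r s : ℕ} {w : List ℕ} (hw : (r, s, w) ∈ relList) :
    img a h n m s * img a h n m r * img a h n m s * img a h n m r = (w.map (img a h n m)).prod := by
  simp only [relList, List.mem_append, List.mem_flatMap] at hw
  rcases hw with ⟨i, -, k, -, l, -, hw⟩ | ⟨i, -, j, -, hw⟩
  · split at hw
    · rename_i c hc
      simp only [List.mem_singleton, Prod.mk.injEq] at hw
      obtain ⟨rfl, rfl, rfl⟩ := hw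
      rw [img_idx, img_idx, List.map_map, show (img a h n m ∘ sixIdx i) = six a h n m i from
        funext (img_idx a h n m i)]
      exact N.six_rel i k l c hc
    · simp at hw
  · split at hw
    · simp at hw
    · rename_i hij
      simp only [List.mem_cons, List.not_mem_nil, or_false, Prod.mk.injEq] at hw
      rcases hw with ⟨rfl, rfl, rfl⟩ | ⟨rfl, rfl, rfl⟩ | ⟨rfl, rfl, rfl⟩ | ⟨rfl, rfl, rfl⟩ <;>
        simp only [img_idx, List.map_nil, List.prod_nil]
      exacts [rel_of_comm (N.nn i) (N.nn j) (N.comm_nn i j hij),
        rel_of_comm (N.nn i) (N.mm j) (N.comm_nm i j hij),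
        rel_of_comm (N.mm i) (N.nn j) (N.comm_nm j i (Ne.symm hij)).symm,
        rel_of_comm (N.mm i) (N.mm j) (N.comm_mm i j hij)]

variable (a h n m)

/-- The images of the generators. -/
noncomputable def genImg (z : Fin chevD4.nroots × ZMod 2) : G :=
  if z.2 = 0 then 1 else img a h n m z.1

variable {a h n m}

theorem lift_stX (r : ℕ) (t : ZMod 2) : FreeGroup.lift (genImg a h n m) (chevD4.stX r t) =
    if t = 0 then 1 else img a h n m r := by
  rw [ChevalleyDatum.stX]
  split
  · rw [FreeGroup.lift_apply_of, genImg]
  · rename_i hr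
    rw [map_one, img, show sixPos r = none by
      have : 24 ≤ r := not_lt.1 hr
      rw [sixPos, List.lookup_eq_none_iff]
      intro p hp
      fin_cases hp <;> simp <;> omega]
    simp

theorem lift_stWord (w : List (ℕ × ZMod 2)) : FreeGroup.lift (genImg a h n m) (chevD4.stWord w) =
    (w.map fun p => if p.2 = 0 then 1 else img a h n m p.1).prod := by
  rw [ChevalleyDatum.stWord, map_list_prod, List.map_map]
  exact congrArg List.prod (List.map_congr_left fun p _ => lift_stX p.1 p.2)

theorem sixPos_none : ∀ r : Fin 24, (sixPos r).isSome = true →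
    ((List.range 4).any fun i => (List.range 4).any fun j => inSub i j r) = true := by
  decide +kernel

theorem Nodes.lift_rels (N : Nodes a h n m) :
    ∀ g ∈ chevD4.curtisTitsRels (ZMod 2), FreeGroup.lift (genImg a h n m) g = 1 := by
  have two : ∀ t : ZMod 2, t = 0 ∨ t = 1 := by decide
  have hsq := N.img_sq
  have hone : ∀ r, FreeGroup.lift (genImg a h n m) (chevD4.stH r (1 : ZMod 2)) = 1 := by
    intro r
    rw [ChevalleyDatum.stH, lift_stWord]
    simp only [ChevalleyDatum.hWord, ChevalleyDatum.nWord, List.cons_append, List.nil_append,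
      List.map_cons, List.map_nil, List.prod_cons, List.prod_nil]
    simp [show (-1 : ZMod 2) = 1 from rfl]
    generalize img a h n m (chevD4.neg r) = y, hsq (chevD4.neg r) = hy at *
    rw [← mul_assoc (img a h n m r) (img a h n m r), hsq, one_mul, ← mul_assoc y, hy, one_mul, hsq]
  rintro g (((⟨r, t, hr, hnb, rfl⟩ | ⟨i, j, r, t₁, t₂, hs, rfl⟩) |
    ⟨i, j, r, s, t, u, hr, hs, h1, h2, rfl⟩) | ⟨i, j, r, t₁, t₂, hs, ht₁, ht₂, rfl⟩)
  · rw [lift_stX]
    split
    · rfl
    · rw [img]
      split
      · rename_i p hp
        have hsome := sixPos_none ⟨r, hr⟩ (by simp [hp])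
        simp only [List.any_eq_true, List.mem_range, inSub, List.all_eq_true, Bool.or_eq_true,
          beq_iff_eq] at hsome
        obtain ⟨i, hi, j, hj, hall⟩ := hsome
        exact absurd ⟨hr, hi, hj, fun k hk h1 h2 => Int.natAbs_eq_zero.1
          (((hall k hk).resolve_left (by rintro (e | e) <;> contradiction)))⟩ (hnb i j)
      · rfl
  · rw [map_mul, map_mul, map_inv, lift_stX, lift_stX, lift_stX, mul_inv_eq_one]
    rcases two t₁ with rfl | rfl <;> rcases two t₂ with rfl | rfl <;>
      simp [show (1 : ZMod 2) + 1 = 0 from rfl, hsq]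
  · have hrn : r < 24 := hr.1
    have hsn : s < 24 := hs.1
    obtain ⟨hmem, hco⟩ := pair_check ⟨i, hr.2.1⟩ ⟨j, hr.2.2.1⟩ ⟨r, hrn⟩ ⟨s, hsn⟩ (by
      simp [inSub_of hr, inSub_of hs, h1, h2])
    simp only [List.all_eq_true, Bool.and_eq_true, beq_iff_eq, Nat.ble_eq] at hco
    rw [map_mul, map_mul, map_mul, map_mul, map_inv, map_inv, map_inv, lift_stX, lift_stX,
      lift_stWord, mul_inv_eq_one, ChevalleyDatum.commWord, List.map_map]
    rcases two t with rfl | rfl
    · rw [if_pos rfl]
      refine Eq.trans (by group) (List.prod_eq_one fun x hx => ?_).symm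
      obtain ⟨c, hc, rfl⟩ := List.mem_map.1 hx
      simp [zero_pow (Nat.one_le_iff_ne_zero.1 (hco c hc).1.2)]
    rcases two u with rfl | rfl
    · rw [if_pos rfl]
      refine Eq.trans (by group) (List.prod_eq_one fun x hx => ?_).symm
      obtain ⟨c, hc, rfl⟩ := List.mem_map.1 hx
      simp [zero_pow (Nat.one_le_iff_ne_zero.1 (hco c hc).2)]
    simp only [one_ne_zero, ↓reduceIte]
    rw [inv_eq_of_mul_eq_one_left (hsq r), inv_eq_of_mul_eq_one_left (hsq s),
      N.rel hmem, List.map_map]
    refine congrArg List.prod (List.map_congr_left fun c hc => ?_)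
    have hcast : (c.2.1 : ZMod 2) = 1 := by
      have := (hco c hc).1.1
      rcases two (c.2.1 : ZMod 2) with e | e
      · exfalso
        rw [ZMod.intCast_zmod_eq_zero_iff_dvd] at e
        omega
      · exact e
    simp [hcast, show (-1 : ZMod 2) = 1 from rfl]
  · have e1 : t₁ = 1 := (two t₁).resolve_left ht₁
    have e2 : t₂ = 1 := (two t₂).resolve_left ht₂
    subst e1 e2
    rw [map_mul, map_mul, map_inv, mul_one, hone, one_mul, inv_one, mul_one]

/-- Node relations and trivial centre identify the group. -/
theorem iso_omega [Nontrivial G] (N : Nodes a h n m)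
    (hgen : Subgroup.closure ({a, h} ∪ Set.range n ∪ Set.range m) = ⊤) (hc : Subgroup.center G = ⊥) :
    Nonempty (G ≃* Cfsg.Omega (ZMod 2) (Cfsg.quadFormPlus 4 (ZMod 2))) := by
  have : Fact (Nat.Prime 2) := ⟨Nat.prime_two⟩
  obtain ⟨e, -⟩ := CT.curtisTits (F := ZMod 2) facts_chevD4 CT.factsD4 CT.combD4 CT.pairsD4
  let φ : chevD4.SteinbergGroup (ZMod 2) →* G :=
    (PresentedGroup.toGroup N.lift_rels).comp e.symm.toMonoidHom
  have hφs : Function.Surjective φ := by
    suffices hT : Function.Surjective (PresentedGroup.toGroup N.lift_rels) by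
      intro x
      obtain ⟨y, rfl⟩ := hT x
      exact ⟨e y, by simp [φ]⟩
    rw [← MonoidHom.range_eq_top, eq_top_iff, ← hgen, Subgroup.closure_le]
    have him : ∀ i k, six a h n m i k ∈ (PresentedGroup.toGroup N.lift_rels).range := fun i k =>
      ⟨PresentedGroup.mk _ (chevD4.stX (sixIdx i k) (1 : ZMod 2)), (lift_stX _ _).trans (by
        rw [if_neg one_ne_zero, img_idx])⟩
    rintro x ((hx | ⟨i, rfl⟩) | ⟨i, rfl⟩)
    · rcases hx with rfl | hx
      · exact him 0 0
      · rw [Set.mem_singleton_iff] at hx
        subst hx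
        have e0 : x = a * (x * a * x) * a := by
          rw [← N.braid0, show a * (a * x * a) * a = a * a * x * (a * a) by group, N.aa, one_mul, mul_one]
        exact Eq.subst (motive := fun y => y ∈ (PresentedGroup.toGroup N.lift_rels).range) e0.symm
          (Subgroup.mul_mem _ (Subgroup.mul_mem _ (him 0 0) (him 0 1)) (him 0 0))
    · exact him i 2
    · exact him i 3
  let L := CT.stLift facts_chevD4 (D := chevD4) (F := ZMod 2)
  let θ := L.θ.rangeRestrict
  have hker : θ.ker ≤ φ.ker := by
    intro x hx
    rw [MonoidHom.ker_rangeRestrict] at hx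
    have hx' := L.ker_le_center extra_chevD4 hx
    have : φ x ∈ Subgroup.center G := Subgroup.mem_center_iff.2 fun g => by
      obtain ⟨y, rfl⟩ := hφs g
      rw [← map_mul, ← map_mul, Subgroup.mem_center_iff.1 hx' y]
    rwa [hc, Subgroup.mem_bot] at this
  let ψ : L.θ.range →* G := θ.liftOfSurjective L.θ.rangeRestrict_surjective ⟨φ, hker⟩
  have hψs : Function.Surjective ψ := fun g => by
    obtain ⟨x, rfl⟩ := hφs g
    exact ⟨θ x, MonoidHom.liftOfRightInverse_comp_apply _ _ _ _ _⟩
  have : IsSimpleGroup ↥L.θ.range := by
    rw [L.range_θ]; exact (d4_simple (ZMod 2)).1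
  have hψi : Function.Injective ψ := by
    rcases (MonoidHom.normal_ker ψ).eq_bot_or_eq_top with h0 | h0
    · exact (MonoidHom.ker_eq_bot_iff _).1 h0
    · obtain ⟨x, y, hxy⟩ := exists_pair_ne G
      obtain ⟨x, rfl⟩ := hψs x
      obtain ⟨y, rfl⟩ := hψs y
      rw [MonoidHom.ker_eq_top_iff] at h0
      exact absurd (by rw [h0]; rfl) hxy
  obtain ⟨e1⟩ := Chev.Ortho.D4.iso (F := ZMod 2)
  have e2 := (QuotientGroup.quotientMulEquivOfEq center_omega_plus).trans QuotientGroup.quotientBot
  exact ⟨(MulEquiv.ofBijective ψ ⟨hψi, hψs⟩).symm.trans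
    ((MulEquiv.subgroupCongr L.range_θ).trans (e1.trans e2))⟩

end Cfsg.Agent.OEightRec
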