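import Cfsg.Agent.OEightRec.Pair

/-!
Coordinates on the quotient in which the second core induces the standard Sylow 2-subgroup, and
lifts of the generators normalising a Sylow 3-subgroup of the centraliser.
-/

set_option autoImplicit false
set_option maxHeartbeats 1000000

namespace Cfsg.Agent.OEightRec

open Subgroup Cfsg Cfsg.Agent.LargeExtra

/-- A rotation in one factor. -/
def rot (i : Fin 3) : P3 := Pi.mulSingle i (finRotate 3)

/-- A transposition in one factor. -/
def ref (i : Fin 3) : P3 := Pi.mulSingle i (Equiv.swap 1 2)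

theorem rot_cube (i : Fin 3) : rot i ^ 3 = 1 := by
  rw [rot, ← Pi.mulSingle_pow, show finRotate 3 ^ 3 = (1 : Equiv.Perm (Fin 3)) by decide, Pi.mulSingle_one]

theorem ref_mul_self (i : Fin 3) : ref i * ref i = 1 := by
  rw [ref, ← Pi.mulSingle_mul, Equiv.swap_mul_self, Pi.mulSingle_one]

theorem rot_ne (i : Fin 3) : rot i ≠ 1 := by
  rw [rot, ne_eq, Pi.mulSingle_eq_one_iff]; decide

theorem rot_comm (i j : Fin 3) : rot i * rot j = rot j * rot i := by
  rcases eq_or_ne i j with rfl | h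
  · rfl
  · exact (Pi.mulSingle_commute h _ _).eq

theorem ref_comm (i j : Fin 3) : ref i * ref j = ref j * ref i := by
  rcases eq_or_ne i j with rfl | h
  · rfl
  · exact (Pi.mulSingle_commute h _ _).eq

theorem ref_rot (i : Fin 3) : ref i * rot i = rot i * rot i * ref i := by
  rw [ref, rot, ← Pi.mulSingle_mul, ← Pi.mulSingle_mul, ← Pi.mulSingle_mul]
  congr 1
  decide

theorem ref_rot_ne {i j : Fin 3} (h : i ≠ j) : ref i * rot j = rot j * ref i :=
  (Pi.mulSingle_commute h _ _).eq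

variable {G : Type*} [Group G] [Finite G] {t : G}

/-- The image in the quotient of the part of `O_2(C(x))` centralising `t`. -/
def Hyp.img (H : Hyp t) (x : G) : Subgroup P3 :=
  ((oc x ⊓ centralizer ({t} : Set G)).subgroupOf (centralizer ({t} : Set G))).map H.π

/-- Standard coordinates. -/
def Hyp.Std (H : Hyp t) (x : G) : Prop := ∀ i, ref i ∈ H.img x

/-- Other coordinates on the quotient. -/
def Hyp.twist (H : Hyp t) (u : P3) : Hyp t :=
  { H with
    π := (MulAut.conj u).toMonoidHom.comp H.π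
    surj := (MulAut.conj u).surjective.comp H.surj
    ker := fun c => by
      rw [MonoidHom.comp_apply, MulEquiv.coe_toMonoidHom, MulEquiv.map_eq_one_iff]
      exact H.ker c }

theorem Two.twist {H : Hyp t} {g x : G} (T : Two H g x) (u : P3) : Two (H.twist u) g x :=
  ⟨T.eq, T.mem, T.ne⟩

theorem perm_conj : ∀ p : Equiv.Perm (Fin 3), p * p = 1 → p ≠ 1 →
    ∃ u : Equiv.Perm (Fin 3), u * p * u⁻¹ = Equiv.swap 1 2 := by decide

theorem Two.exists_u {H : Hyp t} {g x : G} (T : Two H g x) :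
    ∃ u : P3, (H.twist u).Std x := by
  classical
  have : Fact (Nat.Prime 2) := ⟨Nat.prime_two⟩
  set A := H.img x with hA
  have hA8 : Nat.card A = 8 := T.card_image
  have hA2 : IsPGroup 2 A := IsPGroup.of_card (n := 3) (by rw [hA8]; norm_num)
  let ev : (i : Fin 3) → ↥A →* Equiv.Perm (Fin 3) := fun i =>
    (Pi.evalMonoidHom (fun _ : Fin 3 => Equiv.Perm (Fin 3)) i).comp A.subtype
  have h2 : ∀ i, Nat.card ↥(ev i).range ≤ 2 := fun i => by
    obtain ⟨k, hk⟩ := IsPGroup.iff_card.1 (hA2.of_surjective (ev i).rangeRestrict (ev i).rangeRestrict_surjective)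
    have h6 : 2 ^ k ∣ 6 := by
      have := card_subgroup_dvd_card (ev i).range
      rw [hk, Nat.card_eq_fintype_card (α := Equiv.Perm (Fin 3)), Fintype.card_perm] at this
      exact this
    rw [hk]
    rcases Nat.lt_or_ge k 2 with h | h
    · interval_cases k <;> norm_num
    · have := (Nat.pow_dvd_pow 2 h).trans h6
      norm_num at this
  let f : ↥A → ((i : Fin 3) → ↥(ev i).range) := fun a i => ⟨ev i a, a, rfl⟩
  have hf : Function.Injective f := fun a b h =>
    Subtype.ext (funext fun i => congrArg Subtype.val (congrFun h i))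
  have hle := Nat.card_le_card_of_injective f hf
  rw [hA8, Nat.card_pi, Fin.prod_univ_three] at hle
  have heq : ∀ i, Nat.card ↥(ev i).range = 2 := by
    have a0 := h2 0
    have a1 := h2 1
    have a2 := h2 2
    intro i
    by_contra hne
    have hi : Nat.card ↥(ev i).range ≤ 1 := by have := h2 i; omega
    fin_cases i
    · exact absurd (le_trans hle (Nat.mul_le_mul (Nat.mul_le_mul hi a1) a2)) (by norm_num)
    · exact absurd (le_trans hle (Nat.mul_le_mul (Nat.mul_le_mul a0 hi) a2)) (by norm_num)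
    · exact absurd (le_trans hle (Nat.mul_le_mul (Nat.mul_le_mul a0 a1) hi)) (by norm_num)
  have hbij : Function.Bijective f := (Nat.bijective_iff_injective_and_card f).2
    ⟨hf, by rw [hA8, Nat.card_pi, Fin.prod_univ_three, heq, heq, heq]; norm_num⟩
  have hτ : ∀ i, ∃ u : Equiv.Perm (Fin 3), u⁻¹ * Equiv.swap 1 2 * u ∈ (ev i).range := by
    intro i
    obtain ⟨⟨p, hp⟩, hp1, -⟩ := Nat.card_eq_two_iff' (1 : ↥(ev i).range) |>.1 (heq i)
    have hpp : p * p = 1 := by
      have := pow_card_eq_one' (x := (⟨p, hp⟩ : ↥(ev i).range))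
      rw [heq i, sq] at this
      exact congrArg Subtype.val this
    obtain ⟨u, hu⟩ := perm_conj p hpp fun e => hp1 (Subtype.ext e)
    refine ⟨u, ?_⟩
    rw [← hu]
    simpa [mul_assoc] using hp
  choose u hu using hτ
  refine ⟨u, fun i => ?_⟩
  obtain ⟨⟨a, haA⟩, ha⟩ := hbij.2
    (fun j => if h : j = i then ⟨(u j)⁻¹ * Equiv.swap 1 2 * u j, hu j⟩ else 1)
  have haj : ∀ j, a j = if j = i then (u j)⁻¹ * Equiv.swap 1 2 * u j else 1 := fun j => by
    have := congrArg Subtype.val (congrFun ha j)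
    simp only [f, ev] at this
    rw [show a j = _ from this]
    split_ifs <;> rfl
  have e : ref i = u * a * u⁻¹ := by
    funext j
    simp only [Pi.mul_apply, Pi.inv_apply, haj, ref]
    by_cases h : j = i
    · subst h; rw [Pi.mulSingle_eq_same, if_pos rfl]; group
    · rw [Pi.mulSingle_eq_of_ne h, if_neg h]; group
  obtain ⟨c, hc, hca⟩ := haA
  exact ⟨c, hc, by rw [e, ← hca]; rfl⟩

theorem Two.exists_std {H : Hyp t} {g x : G} (T : Two H g x) :
    ∃ H' : Hyp t, Two H' g x ∧ H'.Std x :=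
  let ⟨u, hu⟩ := T.exists_u
  ⟨H.twist u, T.twist u, hu⟩

/-- Lifts of the generators of the quotient. -/
structure Lifts (H : Hyp t) where
  /-- the elements of order three -/
  dl : Fin 3 → G
  /-- the other lifts -/
  nl : Fin 3 → G
  dC : ∀ i, dl i * t = t * dl i
  nC : ∀ i, nl i * t = t * nl i
  dπ : ∀ i, H.π ⟨dl i, mem_centralizer_singleton_iff.2 (dC i)⟩ = rot i
  nπ : ∀ i, H.π ⟨nl i, mem_centralizer_singleton_iff.2 (nC i)⟩ = ref i
  d3 : ∀ i, dl i * dl i * dl i = 1
  dd : ∀ i j, dl i * dl j = dl j * dl i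
  nd : ∀ i, nl i * dl i = dl i * dl i * nl i
  ndne : ∀ i j, i ≠ j → nl i * dl j = dl j * nl i

/-- Existence of the lifts. -/
theorem Hyp.exists_lifts (H : Hyp t) : Nonempty (Lifts H) := by
  classical
  have : Fact (Nat.Prime 2) := ⟨Nat.prime_two⟩
  have : Fact (Nat.Prime 3) := ⟨Nat.prime_three⟩
  set C := centralizer ({t} : Set G)
  let sgn : P3 →* (Fin 3 → ℤˣ) :=
    { toFun := fun p i => Equiv.Perm.sign (p i)
      map_one' := by funext i; simp
      map_mul' := fun p q => by funext i; simp }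
  set M : Subgroup ↥C := (sgn.comp H.π).ker
  obtain ⟨P⟩ : Nonempty (Sylow 3 M) := inferInstance
  set PC : Subgroup ↥C := (P : Subgroup M).map M.subtype
  have hint : ∀ c ∈ PC, H.π c = 1 → c = 1 := by
    intro c hc h
    have h2 : (c : G) ∈ oc t := (H.ker c).1 h
    obtain ⟨p, hp, rfl⟩ := hc
    obtain ⟨a, ha⟩ := P.isPGroup' ⟨p, hp⟩
    obtain ⟨b, hb⟩ := oc_isPGroup t ⟨_, h2⟩
    have e1 : ((M.subtype p : ↥C) : G) ^ 3 ^ a = 1 :=
      congrArg (fun z : ↥(P : Subgroup M) => (((z : M) : ↥C) : G)) ha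
    have e2 : ((M.subtype p : ↥C) : G) ^ 2 ^ b = 1 := congrArg Subtype.val hb
    have := pow_gcd_eq_one.2 ⟨e1, e2⟩
    rw [Nat.Coprime.pow a b (by norm_num : Nat.Coprime 3 2), pow_one] at this
    exact Subtype.ext this
  -- rotations lift into `PC`
  have hrot : ∀ i, ∃ c ∈ PC, H.π c = rot i := by
    intro i
    obtain ⟨c, hc⟩ := H.surj (rot i)
    have hcM : c ∈ M := by
      show sgn (H.π c) = 1
      rw [hc]
      funext j
      show Equiv.Perm.sign (rot i j) = 1
      rw [rot]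
      by_cases h : j = i
      · subst h; rw [Pi.mulSingle_eq_same, sign_finRotate]; decide
      · rw [Pi.mulSingle_eq_of_ne h, map_one]
    -- a conjugate of the element of order three lies in the Sylow subgroup
    have hM3 : IsPGroup 3 ↥(zpowers ((⟨c, hcM⟩ : M) ^ 4)) := by
      refine IsPGroup.iff_card.2 ?_
      have h3 : ((c ^ 3 : ↥C) : G) ∈ oc t := (H.ker _).1 (by rw [map_pow, hc, rot_cube])
      have h12 : ((⟨c, hcM⟩ : M) ^ 4) ^ 3 = 1 := by
        refine Subtype.ext (Subtype.ext ?_)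
        show ((c : G) ^ 4) ^ 3 = 1
        have hsq : ∀ q ∈ oc t, q ^ 4 = 1 := fun q hq => by
          have h2 : (⟨q, hq⟩ : ↥(oc t)) ^ 2 ∈ center ↥(oc t) := Fusion.es_pow_mem_center H.es _
          have := congrArg Subtype.val (Fusion.es_center_pow H.es h2)
          simpa [← pow_mul] using this
        rw [← pow_mul, show 4 * 3 = 3 * 4 by norm_num, pow_mul]
        exact hsq _ h3
      rw [Nat.card_zpowers]
      obtain ⟨k, -, hk⟩ := (Nat.dvd_prime_pow Nat.prime_three).1
        (orderOf_dvd_of_pow_eq_one (show ((⟨c, hcM⟩ : M) ^ 4) ^ 3 ^ 1 = 1 by rw [pow_one, h12]))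
      exact ⟨k, hk⟩
    obtain ⟨S, hS⟩ := hM3.exists_le_sylow
    obtain ⟨m, hm⟩ := MulAction.exists_smul_eq M S P
    have hmem : m * (⟨c, hcM⟩ : M) ^ 4 * m⁻¹ ∈ (P : Subgroup M) := by
      rw [← hm, Sylow.coe_subgroup_smul]
      exact ⟨_, hS (mem_zpowers _), rfl⟩
    refine ⟨_, ⟨_, hmem, rfl⟩, ?_⟩
    show H.π ((m : ↥C) * c ^ 4 * (m : ↥C)⁻¹) = rot i
    have hm' : sgn (H.π (m : ↥C)) = 1 := m.2
    have hA : ∀ p q : Equiv.Perm (Fin 3), Equiv.Perm.sign p = 1 → Equiv.Perm.sign q = 1 →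
        p * q * p⁻¹ = q := by decide
    rw [map_mul, map_mul, map_inv, map_pow, hc,
      show rot i ^ 4 = rot i by rw [pow_succ, rot_cube, one_mul]]
    funext j
    refine hA _ _ (congrFun hm' j) ?_
    have := congrFun (show sgn (rot i) = 1 by rw [← hc]; exact hcM) j
    exact this
  choose δ hδ hδπ using hrot
  have hinj : ∀ a ∈ PC, ∀ b ∈ PC, H.π a = H.π b → a = b := fun a ha b hb e =>
    inv_mul_eq_one.1 (hint _ (PC.mul_mem (PC.inv_mem ha) hb) (by rw [map_mul, map_inv, e, inv_mul_cancel]))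
  have hMn : M.Normal := MonoidHom.normal_ker _
  have htop := Sylow.normalizer_sup_eq_top (N := M) P
  have hn : ∀ i, ∃ n : ↥C, H.π n = ref i ∧ ∀ c ∈ PC, n * c * n⁻¹ ∈ PC := by
    intro i
    obtain ⟨c, hc⟩ := H.surj (ref i)
    obtain ⟨a, ha, b, hb, hab⟩ := mem_sup_of_normal_right.1 (show c ∈ normalizer (PC : Set ↥C) ⊔ M from
      htop ▸ mem_top c)
    -- adjust by an element of the Sylow subgroup
    have hb' : H.π b ∈ (H.π.comp PC.subtype).range := by
      have hR : ∀ p : P3, sgn p = 1 → p ∈ (H.π.comp PC.subtype).range := by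
        intro p hp
        have hcase : ∀ q : Equiv.Perm (Fin 3), Equiv.Perm.sign q = 1 →
            q = 1 ∨ q = finRotate 3 ∨ q = finRotate 3 * finRotate 3 := by decide
        have hmem : ∀ j, Pi.mulSingle (M := fun _ => Equiv.Perm (Fin 3)) j (p j) ∈
            (H.π.comp PC.subtype).range := by
          intro j
          rcases hcase (p j) (congrFun hp j) with e | e | e <;> rw [e]
          · rw [Pi.mulSingle_one]; exact one_mem _
          · exact ⟨⟨δ j, hδ j⟩, hδπ j⟩
          · rw [Pi.mulSingle_mul]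
            exact mul_mem ⟨⟨δ j, hδ j⟩, hδπ j⟩ ⟨⟨δ j, hδ j⟩, hδπ j⟩
        have hp3 : p = Pi.mulSingle 0 (p 0) * Pi.mulSingle 1 (p 1) * Pi.mulSingle 2 (p 2) := by
          funext j; fin_cases j <;> simp
        rw [hp3]
        exact mul_mem (mul_mem (hmem 0) (hmem 1)) (hmem 2)
      exact hR _ hb
    obtain ⟨⟨b', hb'P⟩, hb'e⟩ := hb'
    refine ⟨a * b', ?_, fun d hd => ?_⟩
    · rw [map_mul, show H.π b' = H.π b from hb'e, ← map_mul, hab, hc]
    · rw [show a * b' * d * (a * b')⁻¹ = a * (b' * d * b'⁻¹) * a⁻¹ by group]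
      exact (mem_normalizer_iff.1 ha _).1 (PC.mul_mem (PC.mul_mem hb'P hd) (PC.inv_mem hb'P))
  choose ν hνπ hνP using hn
  refine ⟨⟨fun i => δ i, fun i => ν i, fun i => mem_centralizer_singleton_iff.1 (δ i).2,
    fun i => mem_centralizer_singleton_iff.1 (ν i).2, hδπ, hνπ, fun i => ?_, fun i j => ?_, fun i => ?_,
    fun i j hij => ?_⟩⟩
  · have := hint _ (PC.mul_mem (PC.mul_mem (hδ i) (hδ i)) (hδ i)) (by
      rw [map_mul, map_mul, hδπ, ← sq, ← pow_succ]; exact rot_cube i)
    exact congrArg Subtype.val this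
  · exact congrArg Subtype.val (hinj _ (PC.mul_mem (hδ i) (hδ j)) _ (PC.mul_mem (hδ j) (hδ i))
      (by rw [map_mul, map_mul, hδπ, hδπ, rot_comm]))
  · have := hinj _ (hνP i _ (hδ i)) _ (PC.mul_mem (hδ i) (hδ i)) (by
      rw [map_mul, map_mul, map_mul, map_inv, hδπ, hνπ, ref_rot, mul_inv_cancel_right])
    exact congrArg Subtype.val (mul_inv_eq_iff_eq_mul.1 this)
  · have := hinj _ (hνP i _ (hδ j)) _ (hδ j) (by
      rw [map_mul, map_mul, map_inv, hδπ, hνπ, ref_rot_ne hij, mul_inv_cancel_right])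
    exact congrArg Subtype.val (mul_inv_eq_iff_eq_mul.1 this)

end Cfsg.Agent.OEightRec
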