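import Mathlib

/-!
Root involutions attached to the four nodes of the diagram of type D4 over the field with two elements:
`a` the central node, `h` its Weyl element, `n i` and `m i` an outer node and its opposite.
-/

set_option autoImplicit false

namespace Cfsg.Agent.OEightRec

/-- Relations between the root involutions: enough for all relations inside the rank two subsystems.
The root involution of `α₀ + αᵢ` is `h * n i * h`, that of `-αᵢ` is `m i`, that of `-α₀` is `h * a * h`,
and the Weyl element of an outer node is `n i * m i * n i`. -/
structure Nodes {G : Type*} [Group G] (a h : G) (n m : Fin 3 → G) : Prop where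
  aa : a * a = 1
  hh : h * h = 1
  nn : ∀ i, n i * n i = 1
  mm : ∀ i, m i * m i = 1
  braid0 : a * h * a = h * a * h
  nmn : ∀ i, n i * m i * n i = m i * n i * m i
  braid : ∀ i, (n i * m i * n i) * h * (n i * m i * n i) = h * (n i * m i * n i) * h
  comm_nn : ∀ i j, i ≠ j → n i * n j = n j * n i
  comm_nm : ∀ i j, i ≠ j → n i * m j = m j * n i
  comm_mm : ∀ i j, i ≠ j → m i * m j = m j * m i
  anan : ∀ i, a * n i * a * n i = h * n i * h
  comm_am : ∀ i, a * m i = m i * a
  comm_ca : ∀ i, h * n i * h * a = a * (h * n i * h)
  comm_cn : ∀ i, h * n i * h * n i = n i * (h * n i * h)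
  cmcm : ∀ i, h * n i * h * m i * (h * n i * h) * m i = a
  rar : ∀ i, (n i * m i * n i) * a * (n i * m i * n i) = h * n i * h

end Cfsg.Agent.OEightRec
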