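import Cfsg.Agent.OEightRec.Base

/-!
Two commuting conjugates `t`, `x` each in the two-core of the centraliser of the other.
-/

set_option autoImplicit false

namespace Cfsg.Agent.OEightRec

open Subgroup Cfsg Cfsg.Agent.LargeExtra

variable {G : Type*} [Group G] [Finite G] {t : G}

/-- A further conjugate `x = g t g⁻¹` of `t` in `O_2(C(t))`. -/
structure Two (H : Hyp t) (g x : G) : Prop where
  eq : g * t * g⁻¹ = x
  mem : x ∈ oc t
  ne : x ≠ t

namespace Hyp

variable (H : Hyp t)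
include H

/-- The centraliser of a non-central involution has index two in the two-core. -/
theorem card_cent_inv {x : G} (hx : x ∈ oc t) (hx1 : x ≠ 1) (hxt : x ≠ t) :
    Nat.card ↥(oc t ⊓ centralizer ({x} : Set G) : Subgroup G) = 256 := by
  set Q := oc t
  set P := Q ⊓ centralizer ({x} : Set G) with hP
  obtain ⟨y, hy, hyx⟩ := H.sett.exists_mover hx hx1 hxt
  have hconj : ∀ q ∈ Q, q * x * q⁻¹ = x ∨ q * x * q⁻¹ = x * t := fun q hq => by
    rcases H.sett.commutator_cases hq hx with e | e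
    · exact Or.inl (mul_inv_eq_one.1 e)
    · right; rw [mul_inv_eq_iff_eq_mul.1 e, (H.sett.comm_z hx).eq]
  have hmem : ∀ q : Q, q ∈ P.subgroupOf Q ↔ (q : G) * x * (q : G)⁻¹ = x := fun q => by
    rw [mem_subgroupOf, hP, mem_inf, and_iff_right q.2, mem_centralizer_singleton_iff,
      mul_inv_eq_iff_eq_mul]
  have hne : x * t ≠ x := fun e => H.tne (mul_eq_left.1 e)
  have hi : (P.subgroupOf Q).index = 2 := by
    rw [index_eq_two_iff]
    refine ⟨⟨y, hy⟩, fun b => ?_⟩
    rw [hmem, hmem]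
    have e : ((b * ⟨y, hy⟩ : Q) : G) * x * ((b * ⟨y, hy⟩ : Q) : G)⁻¹ =
        ((b : G) * x * (b : G)⁻¹) * t := by
      show (b : G) * y * x * ((b : G) * y)⁻¹ = _
      calc (b : G) * y * x * ((b : G) * y)⁻¹ = (b : G) * (y * x * y⁻¹) * (b : G)⁻¹ := by group
        _ = (b : G) * x * (t * (b : G)⁻¹) := by rw [hyx]; group
        _ = _ := by rw [← (H.sett.comm_z b.2).inv_left.eq]; group
    rw [e]
    rcases hconj b b.2 with h | h
    · exact Or.inr ⟨h, by rw [h]; exact hne⟩
    · refine Or.inl ⟨by rw [h, mul_assoc, H.tt, mul_one], by rw [h]; exact hne⟩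
  have := card_mul_index (P.subgroupOf Q)
  rw [hi, Nat.card_congr (subgroupOfEquivOfLe (inf_le_left : P ≤ Q)).toEquiv] at this
  have h2 : Nat.card ↥Q = 512 := H.card
  rw [← hP] at this
  show Nat.card ↥P = 256
  omega

end Hyp

namespace Two

variable {H : Hyp t} {g x : G} (T : Two H g x)
include T

theorem conjmap : (oc t).map (MulAut.conj g).toMonoidHom = oc x := by rw [oc_map_conj, T.eq]

theorem tmem' : t ∈ oc x := T.eq ▸ H.sett.symm (T.eq.symm ▸ T.mem)

theorem pair : LargeExtra.Pair (oc t) (oc x) t x where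
  es := H.es
  es' := by
    rw [← T.conjmap]
    exact extraspecial_congr (equivMapOfInjective _ _ (MulAut.conj g).injective) H.es
  le := oc_le t
  le' := oc_le x
  nrm := H.nrm
  nrm' := fun c hc => mem_normalizer_iff.2 fun q => ⟨oc_conj_mem hc, fun hq => by
    have := oc_conj_mem (inv_mem hc) hq
    simpa [mul_assoc] using this⟩
  cent := fun c hc => by
    rcases H.sett.center_cases (H.cent hc) fun q hq => mem_centralizer_iff.1 hc q hq with e | e <;> rw [e]
    exacts [one_mem _, mem_zpowers t]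
  ord := H.ord
  ord' := by rw [← T.eq]; exact ((MulAut.conj g).orderOf_eq t).trans H.ord
  mem := H.tmem
  mem' := by rw [← T.eq]; exact conj_mem_oc H.tmem
  memx := T.mem
  memz := T.tmem'
  ne := T.ne

theorem xx : x * x = 1 := T.pair.xx

theorem xne : x ≠ 1 := T.pair.x_ne

theorem tx : t * x = x * t := T.pair.xz_comm.eq.symm

theorem card_P : Nat.card ↥(oc t ⊓ centralizer ({x} : Set G) : Subgroup G) = 256 :=
  H.card_cent_inv T.mem T.xne T.ne

/-- The opposite element. -/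
theorem back : Two H g⁻¹ (g⁻¹ * t * g) := by
  refine ⟨by rw [inv_inv], ?_, fun e => T.ne ?_⟩
  · have := conj_mem_oc (g := g⁻¹) T.tmem'
    rwa [inv_inv, show g⁻¹ * x * g = t by rw [← T.eq]; group] at this
  · have h : g * t * g⁻¹ = g * (g⁻¹ * t * g) * g⁻¹ := by rw [e]
    rw [T.eq] at h
    rw [h]; group

theorem card_R : Nat.card ↥(oc x ⊓ centralizer ({t} : Set G) : Subgroup G) = 256 := by
  rw [← T.back.card_P, ← card_map_of_injective (K := oc t ⊓ centralizer ({g⁻¹ * t * g} : Set G))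
    (f := (MulAut.conj g).toMonoidHom) (MulAut.conj g).injective]
  congr 2
  ext r
  rw [mem_inf, ← T.conjmap]
  simp only [Subgroup.mem_map, mem_inf, MulEquiv.coe_toMonoidHom, MulAut.conj_apply,
    mem_centralizer_singleton_iff]
  constructor
  · rintro ⟨⟨q, hq, rfl⟩, h⟩
    refine ⟨q, ⟨hq, ?_⟩, rfl⟩
    calc q * (g⁻¹ * t * g) = g⁻¹ * (g * q * g⁻¹ * t) * g := by group
      _ = g⁻¹ * (t * (g * q * g⁻¹)) * g := by rw [h]
      _ = _ := by group
  · rintro ⟨q, ⟨hq, h⟩, rfl⟩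
    refine ⟨⟨q, hq, rfl⟩, ?_⟩
    calc g * q * g⁻¹ * t = g * (q * (g⁻¹ * t * g)) * g⁻¹ := by group
      _ = g * (g⁻¹ * t * g * q) * g⁻¹ := by rw [h]
      _ = _ := by group

theorem abel : ∀ a ∈ oc t ⊓ oc x, ∀ b ∈ oc t ⊓ oc x, a * b = b * a := by
  intro a ha b hb
  rcases T.pair.comm_cases ha.1 hb.1 with e | e
  · exact commutatorElement_eq_one_iff_mul_comm.1 e
  rcases T.pair.comm_cases' ha.2 hb.2 with e' | e'
  · exact commutatorElement_eq_one_iff_mul_comm.1 e'
  · exact absurd (e'.symm.trans e) T.ne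

theorem sq_W {a : G} (ha : a ∈ oc t ⊓ oc x) : a * a = 1 :=
  T.pair.one_of_both (T.pair.sq_cases ha.1) (T.pair.sq_cases' ha.2)

theorem card_W : Nat.card ↥(oc t ⊓ oc x : Subgroup G) = 32 := by
  refine le_antisymm (H.card_abel_le inf_le_left T.abel) ?_
  set P := oc t ⊓ centralizer ({x} : Set G)
  set P' := P.map (MulAut.conj g⁻¹).toMonoidHom
  have hP' : P' ≤ centralizer ({t} : Set G) := by
    rintro _ ⟨p, hp, rfl⟩
    rw [mem_centralizer_singleton_iff]
    show g⁻¹ * p * g⁻¹⁻¹ * t = t * (g⁻¹ * p * g⁻¹⁻¹)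
    have := mem_centralizer_singleton_iff.1 hp.2
    calc g⁻¹ * p * g⁻¹⁻¹ * t = g⁻¹ * (p * (g * t * g⁻¹)) * g := by group
      _ = g⁻¹ * ((g * t * g⁻¹) * p) * g := by rw [T.eq, this]
      _ = _ := by group
  have h2 : IsPGroup 2 ↥P' := ((oc_isPGroup t).to_le inf_le_left).map _
  have h := H.card_two_le h2 hP'
  have e : P' ⊓ oc t = (oc t ⊓ oc x).map (MulAut.conj g⁻¹).toMonoidHom := by
    have ho : oc t = (oc x).map (MulAut.conj g⁻¹).toMonoidHom := by
      rw [oc_map_conj, ← T.eq]; congr 1; group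
    conv_lhs => rw [ho]
    rw [← Subgroup.map_inf _ _ _ (MulAut.conj g⁻¹).injective]
    congr 1
    ext q
    simp only [P, mem_inf]
    exact ⟨fun h => ⟨h.1.1, h.2⟩, fun h => ⟨⟨h.1, oc_le x h.2⟩, h.2⟩⟩
  rw [e, card_map_of_injective (MulAut.conj g⁻¹).injective,
    card_map_of_injective (MulAut.conj g⁻¹).injective, T.card_P] at h
  omega

theorem t_W : t ∈ oc t ⊓ oc x := ⟨H.tmem, T.tmem'⟩

theorem x_W : x ∈ oc t ⊓ oc x := ⟨T.mem, T.pair.mem'⟩

/-- The only elements of the meet centralised by the other core are in the four-group. -/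
theorem fixed_W {w : G} (hw : w ∈ oc t ⊓ oc x)
    (hR : ∀ r ∈ oc x ⊓ centralizer ({t} : Set G), r * w = w * r) :
    w = 1 ∨ w = t ∨ w = x ∨ w = x * t := by
  by_contra hc
  push Not at hc
  set Q' := oc x
  set B0 : Subgroup ↥Q' := closure {⟨t, T.tmem'⟩, ⟨w, hw.2⟩} with hB0
  set B := B0 ⊔ center ↥Q'
  have hle := card_mul_centralizer_le T.pair.es' B le_sup_right
  have hQ' : Nat.card ↥Q' = 512 := by
    show Nat.card ↥(oc x) = 512
    rw [← T.conjmap, card_map_of_injective (MulAut.conj g).injective, H.card]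
  have hxc : (⟨x, T.pair.mem'⟩ : ↥Q') ∈ center ↥Q' :=
    mem_center_iff.2 fun q => Subtype.ext (mem_centralizer_singleton_iff.1 (oc_le x q.2))
  have hB : 5 ≤ Nat.card ↥B := by
    have ht : (⟨t, T.tmem'⟩ : ↥Q') ∈ B := mem_sup_left (subset_closure (Or.inl rfl))
    have hw' : (⟨w, hw.2⟩ : ↥Q') ∈ B := mem_sup_left (subset_closure (Or.inr rfl))
    have hx : (⟨x, T.pair.mem'⟩ : ↥Q') ∈ B := mem_sup_right hxc
    let f : Fin 5 → ↥B := ![1, ⟨_, ht⟩, ⟨_, hx⟩, ⟨_, B.mul_mem hx ht⟩, ⟨_, hw'⟩]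
    have hf : Function.Injective f := by
      intro i j hij
      have e : ((f i : ↥Q') : G) = ((f j : ↥Q') : G) := by rw [hij]
      have h1 : x * t ≠ 1 := fun e => T.ne (by
        rw [← mul_one x, ← H.tt, ← mul_assoc, e, one_mul])
      fin_cases i <;> fin_cases j <;> first
        | rfl
        | exact absurd e H.tne | exact absurd e.symm H.tne
        | exact absurd e T.xne | exact absurd e.symm T.xne
        | exact absurd e h1 | exact absurd e.symm h1
        | exact absurd e hc.1 | exact absurd e.symm hc.1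
        | exact absurd e hc.2.1 | exact absurd e.symm hc.2.1
        | exact absurd e hc.2.2.1 | exact absurd e.symm hc.2.2.1
        | exact absurd e hc.2.2.2 | exact absurd e.symm hc.2.2.2
        | exact absurd e T.ne | exact absurd e.symm T.ne
        | exact absurd (mul_eq_left.1 e) H.tne | exact absurd (mul_eq_left.1 e.symm) H.tne
        | exact absurd (mul_eq_right.1 e) T.xne | exact absurd (mul_eq_right.1 e.symm) T.xne
    simpa using Nat.card_le_card_of_injective f hf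
  have hR' : (oc x ⊓ centralizer ({t} : Set G)).subgroupOf Q' ≤ centralizer (B : Set ↥Q') := by
    rw [← le_centralizer_iff, sup_le_iff]
    refine ⟨?_, center_le_centralizer _⟩
    rw [closure_le]
    rintro q (rfl | rfl) <;> refine mem_centralizer_iff.2 fun r hr => Subtype.ext ?_
    · exact mem_centralizer_singleton_iff.1 (mem_subgroupOf.1 hr).2
    · exact hR r (mem_subgroupOf.1 hr)
  have h3 := card_le_of_le hR'
  rw [Nat.card_congr (subgroupOfEquivOfLe (inf_le_left : oc x ⊓ centralizer ({t} : Set G) ≤ Q')).toEquiv,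
    T.card_R] at h3
  rw [hQ'] at hle
  exact absurd (le_trans (Nat.mul_le_mul hB h3) hle) (by norm_num)

/-- An element of the other core centralising the meet lies in it. -/
theorem cent_W {r : G} (hr : r ∈ oc x) (hc : ∀ w ∈ oc t ⊓ oc x, r * w = w * r) : r ∈ oc t ⊓ oc x := by
  have hmap : (oc t ⊓ oc x).map (MulAut.conj g⁻¹).toMonoidHom ≤ oc t := by
    rintro _ ⟨w, hw, rfl⟩
    show g⁻¹ * w * g⁻¹⁻¹ ∈ oc t
    rw [inv_inv]
    have := conj_mem_oc (g := g⁻¹) hw.2
    rwa [inv_inv, show g⁻¹ * x * g = t by rw [← T.eq]; group] at this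
  have hab : ∀ a ∈ (oc t ⊓ oc x).map (MulAut.conj g⁻¹).toMonoidHom,
      ∀ b ∈ (oc t ⊓ oc x).map (MulAut.conj g⁻¹).toMonoidHom, a * b = b * a := by
    rintro _ ⟨a, ha, rfl⟩ _ ⟨b, hb, rfl⟩
    rw [← map_mul, ← map_mul, T.abel a ha b hb]
  have hq : g⁻¹ * r * g⁻¹⁻¹ ∈ oc t := by
    have := conj_mem_oc (g := g⁻¹) hr
    rwa [show g⁻¹ * x * g⁻¹⁻¹ = t by rw [← T.eq]; group] at this
  obtain ⟨w, hw, e⟩ := H.centralizer_abel hmap hab
    (by rw [card_map_of_injective (MulAut.conj g⁻¹).injective, T.card_W]) hq (by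
      rintro _ ⟨w, hw, rfl⟩
      show (MulAut.conj g⁻¹) r * (MulAut.conj g⁻¹) w = (MulAut.conj g⁻¹) w * (MulAut.conj g⁻¹) r
      rw [← map_mul, ← map_mul, hc w hw])
  rwa [show r = w from (MulAut.conj g⁻¹).injective e.symm]

theorem R_W {r : G} (hr : r ∈ oc x ⊓ centralizer ({t} : Set G)) {w : G} (hw : w ∈ oc t ⊓ oc x) :
    r * w * r⁻¹ = w ∨ r * w * r⁻¹ = x * w := by
  rcases T.pair.comm_cases' hr.1 hw.2 with e | e
  · exact Or.inl (mul_inv_eq_one.1 e)
  · exact Or.inr (mul_inv_eq_iff_eq_mul.1 e)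

/-- The other core covers a Sylow 2-subgroup of the quotient. -/
theorem card_image :
    Nat.card ↥((((oc x ⊓ centralizer ({t} : Set G)).subgroupOf (centralizer ({t} : Set G))).map H.π)) = 8 := by
  set R := oc x ⊓ centralizer ({t} : Set G)
  set ψ : ↥R →* P3 := H.π.comp (inclusion inf_le_right)
  have hr : ψ.range = (R.subgroupOf (centralizer ({t} : Set G))).map H.π := by
    ext p
    constructor
    · rintro ⟨r, rfl⟩; exact ⟨_, mem_subgroupOf.2 r.2, rfl⟩
    · rintro ⟨c, hc, rfl⟩; exact ⟨⟨c, mem_subgroupOf.1 hc⟩, rfl⟩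
  have hk : ψ.ker = (oc t ⊓ oc x).subgroupOf R := by
    ext r
    rw [MonoidHom.mem_ker, mem_subgroupOf, mem_inf]
    exact (H.ker _).trans ⟨fun h => ⟨h, r.2.1⟩, fun h => h.1⟩
  have h := card_mul_index ψ.ker
  rw [index_ker, hr, hk, Nat.card_congr (subgroupOfEquivOfLe (H := oc t ⊓ oc x) (K := R)
    fun w hw => ⟨hw.2, oc_le t hw.1⟩).toEquiv, T.card_W, T.card_R] at h
  omega

end Two

end Cfsg.Agent.OEightRec
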