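import Cfsg.Agent.OEightRec.SwapPre

/-!
The exchange of `t` and `x`: an involution inducing the map of the model.
-/

set_option autoImplicit false
set_option maxHeartbeats 1000000

namespace Cfsg.Agent.OEightRec

open Subgroup Cfsg Cfsg.Agent.LargeExtra

theorem q7_facts : ∀ i : Fin 3, cmul 128 (qw i.val) = cmul (qw i.val) 128 ∧
    cmul 128 (cn i.val) = cmul (cmul (cn i.val) (qw i.val)) 128 ∧
    cmul (cmul (cn i.val) 1) (cmul (cmul (qw i.val) 256) (cn i.val)) = cmul (qw i.val) 257 := by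
  decide +kernel

theorem x_facts : ∀ i : Fin 3, cmul 1 (ec i.val) = cmul (ec i.val) 1 := by decide +kernel

variable {G : Type*} [Group G] [Finite G] {t : G}

namespace Frame

variable {H : Hyp t} {L : Lifts H} {g x : G} (F : Frame L g x)
include F

theorem el_lt512 {a : ℕ} (ha : a < 512) : F.el a ∈ oc t := by
  rw [el, Nat.mod_eq_of_lt ha, Nat.div_eq_of_lt ha, iz]
  refine mul_mem (mul_mem (F.prd_mem 8 _) ?_) (by simp [top, top1, one_mem])
  unfold zb
  split_ifs
  exacts [H.tmem, one_mem _]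

/-- The data normalised by an involution. -/
theorem locl_of {h : G} (h2 : h * h = 1) (h1 : h * t * h⁻¹ = x)
    (he : ∀ i : Fin 3, h * F.el (ec i.val) * h⁻¹ = F.el (ec i.val))
    (hq : ∀ i : Fin 3, h * F.el (qw i.val) * h⁻¹ = F.el (cn i.val)) : Locl t x h F.el := by
  have hinv : h⁻¹ = h := inv_eq_of_mul_eq_one_right h2
  have back : ∀ a b : G, h * a * h⁻¹ = b → h * b * h⁻¹ = a := fun a b e => by
    rw [← e, hinv, show h * (h * a * h) * h = (h * h) * a * (h * h) by group, h2, one_mul, mul_one]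
  refine ⟨fun a _ b _ => F.el_mul a b, fun a ha b hb e => F.el_inj ha hb e, fun a _ => F.el_mem a,
    fun c hc => F.el_surj hc, F.el_t, F.el_x, ?_, h2, ?_⟩
  · intro a ha haT
    have hs := allTx steps_val ha haT
    simp only [Bool.and_eq_true, beq_iff_eq] at hs
    have hstep : ∀ p ∈ steps a, h * F.el p.2.1 * h⁻¹ = F.el p.2.2 := by
      intro p hp
      simp only [steps, List.map_cons, List.map_nil, List.cons_append, List.nil_append, List.mem_cons,
        List.not_mem_nil, or_false] at hp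
      rcases hp with rfl | rfl | rfl | rfl | rfl | rfl | rfl | rfl | rfl | rfl | rfl <;>
        simp only
      · show h * F.el 1 * h⁻¹ = F.el 256
        rw [F.el_x, F.el_t]; exact back _ _ h1
      · exact he 0
      · exact he 1
      · exact hq 2
      · exact he 2
      · exact hq 1
      · exact hq 0
      · show h * F.el 256 * h⁻¹ = F.el 1
        rw [F.el_x, F.el_t]; exact h1
      · exact back _ _ (hq 0)
      · exact back _ _ (hq 1)
      · exact back _ _ (hq 2)
    have key : ∀ (l : List (Bool × ℕ × ℕ)) (a0 b0 : ℕ),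
        (∀ p ∈ l, h * F.el p.2.1 * h⁻¹ = F.el p.2.2) → h * F.el a0 * h⁻¹ = F.el b0 →
        h * F.el (l.foldl (fun acc p => if p.1 then cmul acc (if false then p.2.2 else p.2.1) else acc) a0) * h⁻¹ =
          F.el (l.foldl (fun acc p => if p.1 then cmul acc (if true then p.2.2 else p.2.1) else acc) b0) := by
      intro l
      induction l with
      | nil => exact fun a0 b0 _ e => e
      | cons p l ih =>
        intro a0 b0 hp e
        refine ih _ _ (fun q hq => hp q (List.mem_cons_of_mem _ hq)) ?_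
        simp only
        cases p.1
        · simpa using e
        · simp only [if_true, Bool.false_eq_true, if_false]
          rw [F.el_mul, F.el_mul, ← e, ← hp p List.mem_cons_self]
          group
    have := key (steps a) 0 0 hstep (by rw [F.el_zero]; group)
    rwa [show List.foldl _ 0 (steps a) = a from hs.1, show List.foldl _ 0 (steps a) = phi a from hs.2] at this
  · intro g' hne hmem
    obtain ⟨a, ha, hae⟩ := hmem
    obtain ⟨c, hc, hce⟩ := F.conj_of_mem (hae ▸ F.el_lt512 ha) hne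
    obtain ⟨b, hb, rfl⟩ := F.el_surj hc
    exact ⟨b, hb, hce⟩

theorem exists_swap {h : G} (h1 : h * t * h⁻¹ = x) (h1' : h * x * h⁻¹ = t)
    (he : ∀ i : Fin 3, h * F.qs (2 ^ i.val) * h⁻¹ = F.qs (2 ^ i.val))
    (hq : ∀ i : Fin 3, h * F.qs (7 ^^^ 2 ^ i.val) * h⁻¹ = L.nl i) :
    ∃ k : G, Locl t x k F.el := by
  have he' : ∀ i : Fin 3, h * F.el (ec i.val) * h⁻¹ = F.el (ec i.val) := fun i => by
    rw [ec, F.el_qs (by fin_cases i <;> norm_num)]; exact he i
  have hq' : ∀ i : Fin 3, h * F.el (qw i.val) * h⁻¹ = F.el (cn i.val) := fun i => by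
    rw [qw, F.el_qs (by fin_cases i <;> decide), F.el_nl]; exact hq i
  obtain ⟨v, hv, hvT, hve⟩ := F.exists_tx (c := h * h)
    (mul_inv_eq_iff_eq_mul.1 (by
      rw [show h * h * t * (h * h)⁻¹ = h * (h * t * h⁻¹) * h⁻¹ by group, h1, h1']))
    (mul_inv_eq_iff_eq_mul.1 (by
      rw [show h * h * x * (h * h)⁻¹ = h * (h * x * h⁻¹) * h⁻¹ by group, h1', h1]))
  obtain ⟨k, rfl⟩ : ∃ k : Fin 32, v = wc k.val := by
    have := allTx img_v hv hvT
    simp only [Bool.or_eq_true, Bool.not_eq_true', List.any_eq_true, List.mem_range, beq_iff_eq] at this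
    rcases this with e | ⟨k, hk, e⟩
    · exfalso
      rw [← Bool.not_eq_true, List.all_eq_true] at e
      refine e fun j hj => beq_iff_eq.2 (F.el_eq ?_)
      rw [List.mem_range] at hj
      rw [hve]
      refine mul_inv_eq_iff_eq_mul.1 ?_
      rw [show h * h * F.el (ec j) * (h * h)⁻¹ = h * (h * F.el (ec j) * h⁻¹) * h⁻¹ by group,
        he' ⟨j, hj⟩, he' ⟨j, hj⟩]
    · exact ⟨⟨k, hk⟩, e⟩
  -- the sign of the square
  have hvq : ∀ i : Fin 3, cmul (wc k.val) (qw i.val) = cmul (qw i.val) (wc k.val) := by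
    intro i
    refine (v_qw k i).resolve_right fun e => ?_
    have e1 := congrArg F.el e
    rw [F.el_mul, F.el_mul, F.el_mul, hve] at e1
    have hn : h * F.el (cn i.val) * h⁻¹ = F.el (qw i.val) * F.el 256 := by
      rw [← hq' i, show h * (h * F.el (qw i.val) * h⁻¹) * h⁻¹ = h * h * F.el (qw i.val) * (h * h)⁻¹ by group, e1,
        mul_inv_cancel_right]
    obtain ⟨e7q, e7n, e7⟩ := q7_facts i
    have f7q := congrArg F.el e7q
    have f7n := congrArg F.el e7n
    have f7 := congrArg F.el e7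
    simp only [F.el_mul] at f7q f7n f7
    set u := h * F.el 128 with hu
    have uq : u * F.el (qw i.val) * u⁻¹ = F.el (cn i.val) := by
      rw [← hq' i, hu, show h * F.el 128 * F.el (qw i.val) * (h * F.el 128)⁻¹ =
        h * (F.el 128 * F.el (qw i.val) * (F.el 128)⁻¹) * h⁻¹ by group, f7q, mul_inv_cancel_right]
    have un : u * F.el (cn i.val) * u⁻¹ = F.el (qw i.val) * F.el 256 * F.el (cn i.val) := by
      rw [hu, show h * F.el 128 * F.el (cn i.val) * (h * F.el 128)⁻¹ =
        h * (F.el 128 * F.el (cn i.val) * (F.el 128)⁻¹) * h⁻¹ by group, f7n, mul_inv_cancel_right,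
        show h * (F.el (cn i.val) * F.el (qw i.val)) * h⁻¹ =
          (h * F.el (cn i.val) * h⁻¹) * (h * F.el (qw i.val) * h⁻¹) by group, hn, hq' i]
    have hqt : F.el 128 * t * (F.el 128)⁻¹ = t := mul_inv_eq_iff_eq_mul.2 (F.el_mem 128)
    have h128 : F.el 128 = F.qs 7 := F.el_qs (S := 7) (by norm_num)
    have hqx : F.el 128 * x * (F.el 128)⁻¹ = x * t := by rw [h128]; exact F.qs7_x
    have ut : u * t * u⁻¹ = x := by
      rw [hu, show h * F.el 128 * t * (h * F.el 128)⁻¹ = h * (F.el 128 * t * (F.el 128)⁻¹) * h⁻¹ by group, hqt, h1]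
    have ux : u * x * u⁻¹ = t * x := by
      rw [hu, show h * F.el 128 * x * (h * F.el 128)⁻¹ = h * (F.el 128 * x * (F.el 128)⁻¹) * h⁻¹ by group, hqx,
        show h * (x * t) * h⁻¹ = (h * x * h⁻¹) * (h * t * h⁻¹) by group, h1, h1']
    have utx : u * (t * x) * u⁻¹ = t := by
      rw [show u * (t * x) * u⁻¹ = (u * t * u⁻¹) * (u * x * u⁻¹) by group, ut, ux, ← mul_assoc,
        ← F.two.tx, mul_assoc, F.two.xx, mul_one]
    obtain ⟨c, hc, hcT, hce⟩ := F.exists_tx (c := u * u * u)
      (mul_inv_eq_iff_eq_mul.1 (by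
        rw [show u * u * u * t * (u * u * u)⁻¹ = u * (u * (u * t * u⁻¹) * u⁻¹) * u⁻¹ by group, ut, ux, utx]))
      (mul_inv_eq_iff_eq_mul.1 (by
        rw [show u * u * u * x * (u * u * u)⁻¹ = u * (u * (u * x * u⁻¹) * u⁻¹) * u⁻¹ by group, ux, utx, ut]))
    have := allTx (no_twist i) hc hcT
    simp only [Bool.not_eq_true', beq_eq_false_iff_ne] at this
    refine this (F.el_eq' ?_)
    rw [hce]
    refine mul_inv_eq_iff_eq_mul.1 ?_
    rw [show u * u * u * F.el (qw i.val) * (u * u * u)⁻¹ = u * (u * (u * F.el (qw i.val) * u⁻¹) * u⁻¹) * u⁻¹ by group,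
      uq, un, show u * (F.el (qw i.val) * F.el 256 * F.el (cn i.val)) * u⁻¹ =
        (u * F.el (qw i.val) * u⁻¹) * (u * F.el 256 * u⁻¹) * (u * F.el (cn i.val) * u⁻¹) by group,
      uq, un, F.el_t, ut]
    rw [F.el_x, F.el_t] at f7
    exact f7
  -- the square is fixed by the swapper
  have hcomm : h * F.el (wc k.val) * h⁻¹ = F.el (wc k.val) := by rw [hve]; group
  rcases v_cases k hvq with e | e | e | e <;> rw [e] at hve hcomm
  · rw [F.el_zero] at hve
    exact ⟨h, F.locl_of hve.symm h1 he' hq'⟩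
  · rw [F.el_x, h1'] at hcomm
    exact absurd hcomm.symm F.two.ne
  · rw [F.el_t, h1] at hcomm
    exact absurd hcomm F.two.ne
  · have e257 : F.el 257 = t * x := by
      rw [show (257 : ℕ) = cmul 256 1 by decide, F.el_mul, F.el_t, F.el_x]
    refine ⟨h * x, F.locl_of ?_ ?_ (fun i => ?_) fun i => ?_⟩
    · rw [show h * x * (h * x) = (h * x * h⁻¹) * (h * h) * x by group, h1', ← hve, e257,
        ← mul_assoc t t, H.tt, one_mul, F.two.xx]
    · rw [show h * x * t * (h * x)⁻¹ = h * (x * t * x⁻¹) * h⁻¹ by group, ← F.two.tx, mul_inv_cancel_right, h1]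
    · rw [show h * x * F.el (ec i.val) * (h * x)⁻¹ = h * (x * F.el (ec i.val) * x⁻¹) * h⁻¹ by group]
      have e0 := congrArg F.el (x_facts i)
      rw [F.el_mul, F.el_mul, F.el_x] at e0
      rw [mul_inv_eq_iff_eq_mul.2 e0]
      exact he' i
    · rw [show h * x * F.el (qw i.val) * (h * x)⁻¹ = h * (x * F.el (qw i.val) * x⁻¹) * h⁻¹ by group]
      have e0 := congrArg F.el (qw_x i).1
      rw [F.el_mul, F.el_mul, F.el_x] at e0
      rw [mul_inv_eq_iff_eq_mul.2 e0.symm]
      exact hq' i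

end Frame

theorem exists_locl (hG : Cfsg.pResidual 2 G = ⊤) (H : Hyp t) :
    ∃ (x h : G) (f : ℕ → G), x ≠ t ∧ Locl t x h f := by
  obtain ⟨H', L, g, x, F⟩ := exists_frame hG H
  obtain ⟨L', F', h, h1, h1', he, hq⟩ := F.exists_pre
  obtain ⟨k, hk⟩ := F'.exists_swap h1 h1' he hq
  exact ⟨x, k, F'.el, F.two.ne, hk⟩

end Cfsg.Agent.OEightRec
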