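import Cfsg.Agent.OEightRec.CodeFacts

/-!
Finite facts on the codes used to construct the element exchanging `t` and `x`.
-/

set_option autoImplicit false
set_option maxRecDepth 100000

namespace Cfsg.Agent.OEightRec

/-- The codes of the meet of the two cores. -/
def wc (k : ℕ) : ℕ := k % 8 + 16 * (k / 8 % 2) + 256 * (k / 16 % 2)

/-- The codes of the four-group. -/
def mc (k : ℕ) : ℕ := k % 2 + 256 * (k / 2 % 2)

/-- The code of the generator moved by an outer node. -/
def ec (i : ℕ) : ℕ := 2 ^ 2 ^ i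

/-- The code of the root of the sum of the central node and an outer one. -/
def qw (i : ℕ) : ℕ := 2 ^ (7 ^^^ 2 ^ i)

/-- Codes of products of the three reflections. -/
def top8 (m : ℕ) : ℕ := 3 * (m % 2) + 18 * (m / 2 % 2) + 108 * (m / 4 % 2)

/-- The codes commuting with `x`. -/
def txc (z m : ℕ) : ℕ := z + 512 * top8 m

/-- A statement on all codes commuting with `x`. -/
def AllTx (P : ℕ → Bool) : Prop :=
  ∀ m : Fin 8, ∀ z : Fin 512, inTx (txc z.val m.val) = true → P (txc z.val m.val) = true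

theorem top_fix : ∀ m : Fin 216, actm m.val 1 % 256 = 1 → ∃ a : Fin 8, m.val = top8 a.val := by
  decide +kernel

theorem exists_txc {c : ℕ} (hc : c < 110592) (h : inTx c = true) :
    ∃ (z : Fin 512) (m : Fin 8), c = txc z.val m.val := by
  have h0 : mz (c % 512) (actm (c / 512) 1) % 256 = mz 1 (actm 0 (c % 512)) % 256 := by
    have := eq_of_beq h
    have e := congrArg (fun n => n % 512 % 256) this
    simp only [cmul, show (1 : ℕ) % 512 = 1 from rfl, show (1 : ℕ) / 512 = 0 from rfl] at e
    have l : ∀ a b m : ℕ, (mz a b + 512 * m) % 512 % 256 = mz a b % 256 := fun a b m => by omega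
    rwa [l, l] at e
  have key : ∀ a b, mz a b % 256 = (a % 256) ^^^ (b % 256) := fun a b => by
    have : (a % 256) ^^^ (b % 256) < 256 :=
      Nat.xor_lt_two_pow (n := 8) (Nat.mod_lt _ (by norm_num)) (Nat.mod_lt _ (by norm_num))
    unfold mz; omega
  have act0 : ∀ z : Fin 512, actm 0 z.val = z.val := by decide +kernel
  rw [key, key, act0 ⟨c % 512, Nat.mod_lt _ (by norm_num)⟩, Nat.xor_comm (1 % 256)] at h0
  have h1 := Nat.xor_right_injective h0
  obtain ⟨a, ha⟩ := top_fix ⟨c / 512, by omega⟩ h1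
  refine ⟨⟨c % 512, Nat.mod_lt _ (by norm_num)⟩, a, ?_⟩
  simp only at ha
  simp only [txc, ← ha]
  omega

theorem allTx {P : ℕ → Bool} (hP : AllTx P) {c : ℕ} (hc : c < 110592) (h : inTx c = true) : P c = true := by
  obtain ⟨z, m, rfl⟩ := exists_txc hc h
  exact hP m z h

theorem tx_moves : AllTx (fun c => (List.range 3).all fun i => (List.range 4).any fun k =>
    cmul c (ec i) == cmul (cmul (ec i) (mc k)) c) := by
  unfold AllTx; decide +kernel

/-- The adjustment. -/
def adj (p : ℕ) : ℕ :=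
  cmul (cmul (cmul (if p.testBit 0 then qw 0 else 0) (if p.testBit 1 then qw 1 else 0))
    (if p.testBit 2 then qw 2 else 0)) (512 * top8 (p / 8))

theorem adj_ex : ∀ z : Fin 64, ∃ p : Fin 64, adj p.val < 110592 ∧ inTx (adj p.val) = true ∧
    ∀ i : Fin 3, cmul (adj p.val) (cmul (ec i.val) (mc (z.val / 4 ^ i.val % 4))) =
      cmul (ec i.val) (adj p.val) := by
  decide +kernel

theorem img_q : ∀ i : Fin 3, AllTx (fun c => !((List.range 3).all fun j =>
    cmul c (ec j) == cmul (cmul (ec j) (if j == i.val then 1 else 0)) c) ||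
    (List.range 32).any fun k => c == cmul (cn i.val) (wc k)) := by
  unfold AllTx; decide +kernel

theorem img_n : ∀ i : Fin 3, AllTx (fun c => !((List.range 3).all fun j =>
    cmul c (ec j) == cmul (cmul (ec j) (if j == i.val then 256 else 0)) c) ||
    (List.range 32).any fun k => c == cmul (qw i.val) (wc k)) := by
  unfold AllTx; decide +kernel

theorem img_v : AllTx (fun c => !((List.range 3).all fun j => cmul c (ec j) == cmul (ec j) c) ||
    (List.range 32).any fun k => c == wc k) := by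
  unfold AllTx; decide +kernel

theorem qn_rel : ∀ i j : Fin 3, i ≠ j → cmul (qw i.val) (cn j.val) =
    cmul (2 ^ ((7 ^^^ 2 ^ i.val) ^^^ 2 ^ j.val)) (cmul (cn j.val) (qw i.val)) := by
  decide +kernel

theorem n_sq_kill : ∀ (i : Fin 3) (k : Fin 32),
    cmul (cmul (cn i.val) (wc k.val)) (cmul (cn i.val) (wc k.val)) = 0 →
    (∀ j : Fin 3, i ≠ j → ∃ l : Fin 32, cmul (cmul (cn i.val) (wc k.val)) (cmul (qw j.val) (wc l.val)) =
      cmul (2 ^ ((7 ^^^ 2 ^ i.val) ^^^ 2 ^ j.val))
        (cmul (cmul (qw j.val) (wc l.val)) (cmul (cn i.val) (wc k.val)))) →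
    ∃ m : Fin 4, wc k.val = mc m.val := by
  decide +kernel

theorem gauge : ∀ z : Fin 64, ∃ E : Fin 8, ∀ i : Fin 3, ∃ s : Fin 2,
    cmul (wc (2 * E.val)) (cmul (cn i.val) (mc (z.val / 4 ^ i.val % 4))) =
      cmul (cmul (cn i.val) (256 * s.val)) (wc (2 * E.val)) ∧
    ∀ j : Fin 3, cmul (wc (2 * E.val)) (ec j.val) = cmul (ec j.val) (wc (2 * E.val)) := by
  decide +kernel

theorem v_qw : ∀ (k : Fin 32) (i : Fin 3), cmul (wc k.val) (qw i.val) = cmul (qw i.val) (wc k.val) ∨
    cmul (wc k.val) (qw i.val) = cmul (cmul (qw i.val) 256) (wc k.val) := by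
  decide +kernel

theorem no_twist : ∀ i : Fin 3, AllTx (fun c => !(cmul c (qw i.val) == cmul (cmul (qw i.val) 257) c)) := by
  unfold AllTx; decide +kernel

theorem v_cases : ∀ k : Fin 32, (∀ i : Fin 3, cmul (wc k.val) (qw i.val) = cmul (qw i.val) (wc k.val)) →
    wc k.val = 0 ∨ wc k.val = 1 ∨ wc k.val = 256 ∨ wc k.val = 257 := by
  decide +kernel

/-- The steps of the normal form of a code commuting with `x`: source and image. -/
def steps (c : ℕ) : List (Bool × ℕ × ℕ) :=
  [0, 1, 2, 3, 4, 5, 6, 8].map (fun S => ((c % 512).testBit S, 2 ^ S, phiq S)) ++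
    [(c / 512 % 6 == 3, cn 0, qw 0), (c / 512 / 6 % 6 == 3, cn 1, qw 1), (c / 512 / 36 % 6 == 3, cn 2, qw 2)]

/-- The product of the sources or of the images. -/
def foldSteps (snd : Bool) (l : List (Bool × ℕ × ℕ)) : ℕ :=
  l.foldl (fun acc p => if p.1 then cmul acc (if snd then p.2.2 else p.2.1) else acc) 0

theorem steps_val : AllTx (fun c => foldSteps false (steps c) == c && foldSteps true (steps c) == phi c) := by
  unfold AllTx; decide +kernel

end Cfsg.Agent.OEightRec
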