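import Cfsg.Agent.OEightRec.Fusion
import Cfsg.Agent.OEightRec.SwapFacts

/-!
An element exchanging `t` and `x`, normalised on generators of the meet and of the two-core.
-/

set_option autoImplicit false
set_option maxHeartbeats 1000000

namespace Cfsg.Agent.OEightRec

open Subgroup Cfsg Cfsg.Agent.LargeExtra

theorem wc_eq : ∀ k : Fin 32, wc k.val = cmul (cmul (cmul (cmul (if k.val.testBit 0 then 1 else 0)
    (if k.val.testBit 1 then ec 0 else 0)) (if k.val.testBit 2 then ec 1 else 0))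
    (if k.val.testBit 3 then ec 2 else 0)) (if k.val.testBit 4 then 256 else 0) := by
  decide +kernel

theorem wc_inj : ∀ k l : Fin 32, wc k.val = wc l.val → k = l := by decide +kernel

theorem mc_mul : ∀ k l : Fin 4, cmul (mc k.val) (mc l.val) = mc (k.val ^^^ l.val) ∧ k.val ^^^ l.val < 4 := by
  decide

theorem qw_ec : ∀ i j : Fin 3, cmul (qw i.val) (ec j.val) =
      cmul (cmul (ec j.val) (if j == i then 256 else 0)) (qw i.val) ∧
    cmul (cn i.val) (ec j.val) = cmul (cmul (ec j.val) (if j == i then 1 else 0)) (cn i.val) := by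
  decide +kernel

theorem qw_x : ∀ i : Fin 3, cmul (qw i.val) 1 = cmul 1 (qw i.val) ∧ cmul (cn i.val) 1 = cmul 1 (cn i.val) ∧
    cmul (qw i.val) (qw i.val) = 0 ∧ cmul (cn i.val) (cn i.val) = 0 := by
  decide +kernel

theorem ec_third : ∀ i j : Fin 3, i ≠ j → ∃ k : Fin 3, 2 ^ ((7 ^^^ 2 ^ i.val) ^^^ 2 ^ j.val) = ec k.val := by
  decide

theorem four_pack : ∀ k : Fin 3 → Fin 4, ∃ z : Fin 64, ∀ i : Fin 3, z.val / 4 ^ i.val % 4 = (k i).val := by
  intro k
  have := (k 0).isLt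
  have := (k 1).isLt
  have := (k 2).isLt
  refine ⟨⟨(k 0).val + 4 * (k 1).val + 16 * (k 2).val, by omega⟩, fun i => ?_⟩
  fin_cases i <;> simp <;> omega

theorem wc_tx : ∀ E : Fin 8, inTx (wc (2 * E.val)) = true := by decide

variable {G : Type*} [Group G] [Finite G] {t : G}

namespace Frame

variable {H : Hyp t} {L : Lifts H} {g x : G} (F : Frame L g x)
include F

theorem el_zero : F.el 0 = 1 := by simp [el, top, top1, F.iz_zero]

theorem el_qs {S : ℕ} (hS : S < 8) : F.el (2 ^ S) = F.qs S := by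
  have h : 2 ^ S < 512 := by interval_cases S <;> norm_num
  rw [el, Nat.mod_eq_of_lt h, Nat.div_eq_of_lt h, F.iz_two_pow hS]
  simp [top, top1]

theorem el_nl (i : Fin 3) : F.el (cn i.val) = L.nl i := by
  fin_cases i <;> simp [el, cn, top, top1, F.iz_zero]

theorem el_eq {a b c d : ℕ} (h : F.el a * F.el b = F.el c * F.el d) : cmul a b = cmul c d :=
  F.el_inj (cmul_lt a b) (cmul_lt c d) (by rw [F.el_mul, F.el_mul, h])

theorem el_eq' {a b c d e : ℕ} (h : F.el a * F.el b = F.el c * F.el d * F.el e) :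
    cmul a b = cmul (cmul c d) e :=
  F.el_eq (by rw [h, F.el_mul])

theorem exists_tx {c : G} (ht : c * t = t * c) (hx : c * x = x * c) :
    ∃ a < 110592, inTx a = true ∧ F.el a = c := by
  obtain ⟨a, ha, rfl⟩ := F.el_surj ht
  refine ⟨a, ha, ?_, rfl⟩
  simp only [inTx, beq_iff_eq]
  exact F.el_eq (by rw [F.el_x]; exact hx)

theorem comm_x {a : ℕ} (h : inTx a = true) : F.el a * x = x * F.el a := by
  have := congrArg F.el (eq_of_beq h)
  rwa [F.el_mul, F.el_mul, F.el_x] at this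

theorem ec_W (i : Fin 3) : F.el (ec i.val) ∈ oc t ⊓ oc x := by
  rw [ec, F.el_qs (by fin_cases i <;> norm_num)]
  exact F.qs_W i

theorem exists_wc {w : G} (hw : w ∈ oc t ⊓ oc x) : ∃ k : Fin 32, F.el (wc k.val) = w := by
  have hmem : ∀ k : Fin 32, F.el (wc k.val) ∈ oc t ⊓ oc x := by
    intro k
    have hb : ∀ (b : Bool) (c : ℕ), F.el c ∈ oc t ⊓ oc x → F.el (if b then c else 0) ∈ oc t ⊓ oc x :=
      fun b c hc => by cases b <;> simp [F.el_zero, one_mem, hc]
    rw [wc_eq, F.el_mul, F.el_mul, F.el_mul, F.el_mul]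
    exact mul_mem (mul_mem (mul_mem (mul_mem (hb _ _ (by rw [F.el_x]; exact F.two.x_W)) (hb _ _ (F.ec_W 0)))
      (hb _ _ (F.ec_W 1))) (hb _ _ (F.ec_W 2))) (hb _ _ (by rw [F.el_t]; exact F.two.t_W))
  let f : Fin 32 → ↥(oc t ⊓ oc x) := fun k => ⟨F.el (wc k.val), hmem k⟩
  have hlt : ∀ k : Fin 32, wc k.val < 110592 := by decide +kernel
  have hf : Function.Bijective f := (Nat.bijective_iff_injective_and_card f).2
    ⟨fun k l h => wc_inj k l (F.el_inj (hlt k) (hlt l) (congrArg Subtype.val h)),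
      by rw [Nat.card_fin, F.two.card_W]⟩
  obtain ⟨k, hk⟩ := hf.2 ⟨w, hw⟩
  exact ⟨k, congrArg Subtype.val hk⟩

theorem exists_mc {w : G} (hw : w ∈ closure ({t, x} : Set G)) : ∃ k : Fin 4, F.el (mc k.val) = w := by
  induction hw using closure_induction with
  | mem z hz =>
    rcases hz with rfl | rfl
    exacts [⟨2, F.el_t⟩, ⟨1, F.el_x⟩]
  | one => exact ⟨0, F.el_zero⟩
  | mul a b _ _ ha hb =>
    obtain ⟨k, rfl⟩ := ha
    obtain ⟨l, rfl⟩ := hb
    exact ⟨⟨_, (mc_mul k l).2⟩, by rw [← (mc_mul k l).1, F.el_mul]⟩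
  | inv a _ ha =>
    obtain ⟨k, rfl⟩ := ha
    refine ⟨k, eq_inv_of_mul_eq_one_left ?_⟩
    rw [← F.el_mul, (mc_mul k k).1, Nat.xor_self]
    exact F.el_zero

/-- A swapper of `t` and `x` acts trivially on the meet modulo the four-group they generate. -/
theorem swap_mod {h : G} (h1 : h * t * h⁻¹ = x) (h2 : h * x * h⁻¹ = t) (i : Fin 3) :
    ∃ k : Fin 4, h * F.el (ec i.val) * h⁻¹ = F.el (cmul (ec i.val) (mc k.val)) := by
  set e := F.el (ec i.val) with he
  set M := closure ({t, x} : Set G) with hM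
  have htM : t ∈ M := subset_closure (Or.inl rfl)
  have hxM : x ∈ M := subset_closure (Or.inr rfl)
  have congr : ∀ u w w' : G, u * t * u⁻¹ ∈ M → u * x * u⁻¹ ∈ M → w⁻¹ * w' ∈ M →
      (u * w * u⁻¹)⁻¹ * (u * w' * u⁻¹) ∈ M := by
    intro u w w' hu hu' hw
    have hle : M ≤ M.comap (MulAut.conj u).toMonoidHom := (closure_le _).2 (by
      rintro z (rfl | rfl)
      exacts [hu, hu'])
    rw [show (u * w * u⁻¹)⁻¹ * (u * w' * u⁻¹) = u * (w⁻¹ * w') * u⁻¹ by group]
    exact hle hw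
  have trans : ∀ p q r : G, p⁻¹ * q ∈ M → q⁻¹ * r ∈ M → p⁻¹ * r ∈ M := fun p q r hp hq => by
    rw [show p⁻¹ * r = p⁻¹ * q * (q⁻¹ * r) by group]; exact mul_mem hp hq
  have symm : ∀ p q : G, p⁻¹ * q ∈ M → q⁻¹ * p ∈ M := fun p q hp => by
    rw [show q⁻¹ * p = (p⁻¹ * q)⁻¹ by group]; exact inv_mem hp
  have hTx : ∀ c : G, c * t = t * c → c * x = x * c → e⁻¹ * (c * e * c⁻¹) ∈ M := by
    intro c hc hc'
    obtain ⟨a, ha, haT, rfl⟩ := F.exists_tx hc hc'
    have := allTx tx_moves ha haT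
    simp only [List.all_eq_true, List.any_eq_true, List.mem_range, beq_iff_eq] at this
    obtain ⟨k, hk, hk'⟩ := this i.val i.2
    have := congrArg F.el hk'
    rw [F.el_mul, F.el_mul, F.el_mul] at this
    rw [he, this, mul_inv_cancel_right, inv_mul_cancel_left]
    have key : ∀ k : Fin 4, F.el (mc k.val) ∈ M := by
      intro k
      fin_cases k
      · simp [mc, F.el_zero, one_mem]
      · simpa [mc, F.el_x] using hxM
      · simpa [mc, F.el_t] using htM
      · have e3 : mc 3 = cmul 256 1 := by decide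
        rw [e3, F.el_mul, F.el_t, F.el_x]
        exact mul_mem htM hxM
    exact key ⟨k, hk⟩
  set q := F.qs 7
  have hqt : q * t * q⁻¹ = t := mul_inv_eq_iff_eq_mul.2 (F.t_comm 7).eq
  have hqx : q * x * q⁻¹ = x * t := F.qs7_x
  have hqW : ∀ w ∈ oc t, w⁻¹ * (q * w * q⁻¹) ∈ M := by
    intro w hw
    rw [show w⁻¹ * (q * w * q⁻¹) = w⁻¹ * (q * w * q⁻¹ * w⁻¹) * w by group]
    rcases H.sett.commutator_cases (F.qs_mem 7) hw with e' | e' <;> rw [e']
    · simp [one_mem]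
    · rwa [mul_assoc, ← (H.sett.comm_z hw).eq, inv_mul_cancel_left]
  set a := h * e * h⁻¹ with ha
  have heW : e ∈ oc t ⊓ oc x := F.ec_W i
  have haQ : a ∈ oc t := by
    have := conj_mem_oc (g := h) heW.2
    rwa [h2] at this
  set u := h * q with hu
  have hut : u * t * u⁻¹ = x := by
    rw [hu, show h * q * t * (h * q)⁻¹ = h * (q * t * q⁻¹) * h⁻¹ by group, hqt, h1]
  have hux : u * x * u⁻¹ = t * x := by
    rw [hu, show h * q * x * (h * q)⁻¹ = h * (q * x * q⁻¹) * h⁻¹ by group, hqx,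
      show h * (x * t) * h⁻¹ = (h * x * h⁻¹) * (h * t * h⁻¹) by group, h1, h2]
  have huM : u * t * u⁻¹ ∈ M ∧ u * x * u⁻¹ ∈ M := by
    rw [hut, hux]; exact ⟨hxM, mul_mem htM hxM⟩
  have hhM : h * t * h⁻¹ ∈ M ∧ h * x * h⁻¹ ∈ M := by
    rw [h1, h2]; exact ⟨hxM, htM⟩
  have s1 : a⁻¹ * (u * e * u⁻¹) ∈ M := by
    have := congr h _ _ hhM.1 hhM.2 (hqW e heW.1)
    rwa [show h * (q * e * q⁻¹) * h⁻¹ = u * e * u⁻¹ by rw [hu]; group, ← ha] at this
  have s2 : e⁻¹ * (h * a * h⁻¹) ∈ M := by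
    have hc1 : h * h * t = t * (h * h) := mul_inv_eq_iff_eq_mul.1 (by
      rw [show h * h * t * (h * h)⁻¹ = h * (h * t * h⁻¹) * h⁻¹ by group, h1, h2])
    have hc2 : h * h * x = x * (h * h) := mul_inv_eq_iff_eq_mul.1 (by
      rw [show h * h * x * (h * h)⁻¹ = h * (h * x * h⁻¹) * h⁻¹ by group, h2, h1])
    have := hTx _ hc1 hc2
    rwa [show h * h * e * (h * h)⁻¹ = h * a * h⁻¹ by rw [ha]; group] at this
  have s3 : e⁻¹ * (u * a * u⁻¹) ∈ M := by
    have := congr h _ _ hhM.1 hhM.2 (hqW a haQ)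
    rw [show h * (q * a * q⁻¹) * h⁻¹ = u * a * u⁻¹ by rw [hu]; group] at this
    exact trans _ _ _ s2 this
  have s4 : e⁻¹ * (u * (u * e * u⁻¹) * u⁻¹) ∈ M :=
    trans _ _ _ s3 (congr u _ _ huM.1 huM.2 s1)
  have s5 : a⁻¹ * (u * (u * (u * e * u⁻¹) * u⁻¹) * u⁻¹) ∈ M :=
    trans _ _ _ s1 (congr u _ _ huM.1 huM.2 s4)
  have hxtx : u * (t * x) * u⁻¹ = t := by
    rw [show u * (t * x) * u⁻¹ = (u * t * u⁻¹) * (u * x * u⁻¹) by group, hut, hux, ← mul_assoc,
      ← F.two.tx, mul_assoc, F.two.xx, mul_one]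
  have s6 : e⁻¹ * (u * (u * (u * e * u⁻¹) * u⁻¹) * u⁻¹) ∈ M := by
    have hc1 : u * u * u * t = t * (u * u * u) := mul_inv_eq_iff_eq_mul.1 (by
      rw [show u * u * u * t * (u * u * u)⁻¹ = u * (u * (u * t * u⁻¹) * u⁻¹) * u⁻¹ by group, hut, hux, hxtx])
    have hc2 : u * u * u * x = x * (u * u * u) := mul_inv_eq_iff_eq_mul.1 (by
      rw [show u * u * u * x * (u * u * u)⁻¹ = u * (u * (u * x * u⁻¹) * u⁻¹) * u⁻¹ by group, hux, hxtx, hut])
    have := hTx _ hc1 hc2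
    rwa [show u * u * u * e * (u * u * u)⁻¹ = u * (u * (u * e * u⁻¹) * u⁻¹) * u⁻¹ by group] at this
  obtain ⟨k, hk⟩ := F.exists_mc (trans _ _ _ s6 (symm _ _ s5))
  refine ⟨k, ?_⟩
  rw [F.el_mul, hk, ← he, mul_inv_cancel_left]

/-- The image of an element of `C(t) ∩ C(x)` under a swapper, from its commutation with the meet. -/
theorem swap_img {h : G} (h1 : h * t * h⁻¹ = x) (h2 : h * x * h⁻¹ = t)
    (he : ∀ j : Fin 3, h * F.el (ec j.val) * h⁻¹ = F.el (ec j.val)) {a d d' : ℕ} (ha : inTx a = true)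
    (hd : h * F.el d * h⁻¹ = F.el d') {i : Fin 3}
    (hrel : ∀ j : Fin 3, cmul a (ec j.val) = cmul (cmul (ec j.val) (if j == i then d else 0)) a) :
    ∃ c < 110592, inTx c = true ∧ F.el c = h * F.el a * h⁻¹ ∧
      ∀ j : Fin 3, cmul c (ec j.val) = cmul (cmul (ec j.val) (if j == i then d' else 0)) c := by
  set Φ := MulAut.conj h
  have ht : Commute (Φ (F.el a)) t := by
    have := (show Commute (F.el a) x from F.comm_x ha).map Φ
    rwa [show Φ x = t from h2] at this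
  have hx : Commute (Φ (F.el a)) x := by
    have := (show Commute (F.el a) t from F.el_mem a).map Φ
    rwa [show Φ t = x from h1] at this
  obtain ⟨c, hc, hcT, hce⟩ := F.exists_tx ht.eq hx.eq
  refine ⟨c, hc, hcT, hce, fun j => F.el_eq' ?_⟩
  have := congrArg (fun z => Φ (F.el z)) (hrel j)
  simp only [F.el_mul, map_mul] at this
  have hδ : Φ (F.el (if j == i then d else 0)) = F.el (if j == i then d' else 0) := by
    split_ifs
    · exact hd
    · rw [F.el_zero, map_one]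
  rwa [hδ, show Φ (F.el (ec j.val)) = F.el (ec j.val) from he j, ← show F.el c = Φ (F.el a) from hce] at this

theorem exists_pre : ∃ (L' : Lifts H) (F' : Frame L' g x) (h : G),
    h * t * h⁻¹ = x ∧ h * x * h⁻¹ = t ∧
    (∀ i : Fin 3, h * F'.qs (2 ^ i.val) * h⁻¹ = F'.qs (2 ^ i.val)) ∧
    ∀ i : Fin 3, h * F'.qs (7 ^^^ 2 ^ i.val) * h⁻¹ = L'.nl i := by
  -- a first swapper
  obtain ⟨d, hdt, hd⟩ := F.conj_of_mem (g' := g⁻¹) (by
      have := F.two.back.mem
      rwa [inv_inv]) (by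
      have := F.two.back.ne
      rwa [inv_inv])
  rw [inv_inv] at hd
  set h0 := g * d with hh0
  have h01 : h0 * t * h0⁻¹ = x := by
    rw [hh0, show g * d * t * (g * d)⁻¹ = g * (d * t * d⁻¹) * g⁻¹ by group,
      mul_inv_eq_iff_eq_mul.2 hdt, F.two.eq]
  have h02 : h0 * x * h0⁻¹ = t := by
    rw [hh0, show g * d * x * (g * d)⁻¹ = g * (d * x * d⁻¹) * g⁻¹ by group, ← hd]
    group
  choose k hk using fun i => F.swap_mod h01 h02 i
  obtain ⟨z, hz⟩ := four_pack k
  obtain ⟨p, -, hpT, hp⟩ := adj_ex z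
  set h1 := F.el (adj p.val) * h0 with hh1
  have h11 : h1 * t * h1⁻¹ = x := by
    rw [hh1, show F.el (adj p.val) * h0 * t * (F.el (adj p.val) * h0)⁻¹ =
      F.el (adj p.val) * (h0 * t * h0⁻¹) * (F.el (adj p.val))⁻¹ by group, h01,
      mul_inv_eq_iff_eq_mul.2 (F.comm_x hpT)]
  have h12 : h1 * x * h1⁻¹ = t := by
    rw [hh1, show F.el (adj p.val) * h0 * x * (F.el (adj p.val) * h0)⁻¹ =
      F.el (adj p.val) * (h0 * x * h0⁻¹) * (F.el (adj p.val))⁻¹ by group, h02,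
      mul_inv_eq_iff_eq_mul.2 (F.el_mem _)]
  have he1 : ∀ i : Fin 3, h1 * F.el (ec i.val) * h1⁻¹ = F.el (ec i.val) := fun i => by
    rw [hh1, show F.el (adj p.val) * h0 * F.el (ec i.val) * (F.el (adj p.val) * h0)⁻¹ =
      F.el (adj p.val) * (h0 * F.el (ec i.val) * h0⁻¹) * (F.el (adj p.val))⁻¹ by group, hk,
      mul_inv_eq_iff_eq_mul, ← F.el_mul, ← F.el_mul, ← hz i, hp i]
  -- images of the generators
  have hqT : ∀ i : Fin 3, inTx (qw i.val) = true ∧ inTx (cn i.val) = true := fun i =>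
    ⟨beq_iff_eq.2 (qw_x i).1, beq_iff_eq.2 (qw_x i).2.1⟩
  have hA : ∀ i : Fin 3, ∃ k : Fin 32, h1 * F.el (qw i.val) * h1⁻¹ = F.el (cmul (cn i.val) (wc k.val)) := by
    intro i
    obtain ⟨c, hc, hcT, hce, hrel⟩ := F.swap_img h11 h12 he1 (d := 256) (d' := 1) (hqT i).1
      (by rw [F.el_t, F.el_x, h11]) fun j => (qw_ec i j).1
    have := allTx (img_q i) hc hcT
    simp only [Bool.or_eq_true, Bool.not_eq_true', List.any_eq_true, List.mem_range, beq_iff_eq] at this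
    rcases this with h | ⟨k, hk', rfl⟩
    · exfalso
      rw [← Bool.not_eq_true, List.all_eq_true] at h
      refine h fun j hj => beq_iff_eq.2 ?_
      rw [List.mem_range] at hj
      simpa [Fin.ext_iff] using hrel ⟨j, hj⟩
    · exact ⟨⟨k, hk'⟩, hce.symm⟩
  have hB : ∀ i : Fin 3, ∃ k : Fin 32, h1 * F.el (cn i.val) * h1⁻¹ = F.el (cmul (qw i.val) (wc k.val)) := by
    intro i
    obtain ⟨c, hc, hcT, hce, hrel⟩ := F.swap_img h11 h12 he1 (d := 1) (d' := 256) (hqT i).2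
      (by rw [F.el_t, F.el_x, h12]) fun j => (qw_ec i j).2
    have := allTx (img_n i) hc hcT
    simp only [Bool.or_eq_true, Bool.not_eq_true', List.any_eq_true, List.mem_range, beq_iff_eq] at this
    rcases this with h | ⟨k, hk', rfl⟩
    · exfalso
      rw [← Bool.not_eq_true, List.all_eq_true] at h
      refine h fun j hj => beq_iff_eq.2 ?_
      rw [List.mem_range] at hj
      simpa [Fin.ext_iff] using hrel ⟨j, hj⟩
    · exact ⟨⟨k, hk'⟩, hce.symm⟩
  choose A hA using hA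
  choose B hB using hB
  have hmem : ∀ i : Fin 3, ∃ m : Fin 4, wc (A i).val = mc m.val := by
    intro i
    refine n_sq_kill i (A i) ?_ fun j hij => ⟨B j, ?_⟩
    · refine F.el_inj (cmul_lt _ _) (by norm_num) ?_
      rw [F.el_mul, ← hA, F.el_zero,
        show h1 * F.el (qw i.val) * h1⁻¹ * (h1 * F.el (qw i.val) * h1⁻¹) =
          h1 * (F.el (qw i.val) * F.el (qw i.val)) * h1⁻¹ by group, ← F.el_mul, (qw_x i).2.2.1, F.el_zero,
        mul_one, mul_inv_cancel]
    · obtain ⟨l, hl⟩ := ec_third i j hij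
      have := congrArg (fun z => h1 * F.el z * h1⁻¹) (qn_rel i j hij)
      simp only [F.el_mul, hl] at this ⊢
      refine F.el_inj (cmul_lt _ _) (cmul_lt _ _) ?_
      rw [F.el_mul, F.el_mul _ (cmul _ _), F.el_mul _ (cmul (cn i.val) _), ← hA, ← hB, ← he1 l]
      convert this using 1 <;> group
  choose m hm using hmem
  obtain ⟨z', hz'⟩ := four_pack m
  obtain ⟨E, hE⟩ := gauge z'
  choose s hs hcomm using hE
  have hc1 : ∀ i : Fin 3, F.el (256 * (s i).val) * t = t * F.el (256 * (s i).val) := fun i => F.el_mem _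
  have hsC : ∀ i : Fin 3, F.el (256 * (s i).val) = 1 ∨ F.el (256 * (s i).val) = t := fun i => by
    rcases (show (s i).val = 0 ∨ (s i).val = 1 by omega) with e | e <;> simp [e, F.el_zero, F.el_t]
  have hsd : ∀ (i : Fin 3) (j : Fin 3), Commute (F.el (256 * (s i).val)) (L.dl j) := fun i j => by
    rcases hsC i with e | e <;> rw [e]
    exacts [Commute.one_left _, (L.dC j).symm]
  let L' : Lifts H :=
  { dl := L.dl
    nl := fun i => L.nl i * F.el (256 * (s i).val)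
    dC := L.dC
    nC := fun i => ((show Commute (L.nl i) t from L.nC i).mul_left (hc1 i)).eq
    dπ := L.dπ
    nπ := fun i => by
      have hz0 : F.el (256 * (s i).val) ∈ oc t := by
        rcases hsC i with e | e <;> rw [e]
        exacts [one_mem _, H.tmem]
      refine Eq.trans ?_ (L.nπ i)
      rw [show (⟨L.nl i * F.el (256 * (s i).val), _⟩ : ↥(centralizer ({t} : Set G))) =
        L.N i * ⟨F.el (256 * (s i).val), oc_le t hz0⟩ from rfl, map_mul, (H.ker ⟨_, oc_le t hz0⟩).2 hz0, mul_one]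
      rfl
    d3 := L.d3
    dd := L.dd
    nd := fun i => by
      rw [mul_assoc, (hsd i i).eq, ← mul_assoc, L.nd, mul_assoc (L.dl i * L.dl i)]
    ndne := fun i j hij => ((show Commute (L.nl i) (L.dl j) from L.ndne i j hij).mul_left (hsd i j)).eq }
  set w := F.el (wc (2 * E.val)) with hw
  have hwx : w * x = x * w ∧ w * t = t * w := by
    exact ⟨F.comm_x (wc_tx E), F.el_mem _⟩
  refine ⟨L', ⟨F.two, F.std, F.line⟩, w * h1, ?_, ?_, fun i => ?_, fun i => ?_⟩
  · rw [show w * h1 * t * (w * h1)⁻¹ = w * (h1 * t * h1⁻¹) * w⁻¹ by group, h11, mul_inv_eq_iff_eq_mul.2 hwx.1]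
  · rw [show w * h1 * x * (w * h1)⁻¹ = w * (h1 * x * h1⁻¹) * w⁻¹ by group, h12, mul_inv_eq_iff_eq_mul.2 hwx.2]
  · show w * h1 * F.qs (2 ^ i.val) * (w * h1)⁻¹ = F.qs (2 ^ i.val)
    rw [← F.el_qs (by fin_cases i <;> norm_num), ← ec,
      show w * h1 * F.el (ec i.val) * (w * h1)⁻¹ = w * (h1 * F.el (ec i.val) * h1⁻¹) * w⁻¹ by group, he1,
      mul_inv_eq_iff_eq_mul, hw, ← F.el_mul, ← F.el_mul, hcomm 0 i]
  · show w * h1 * F.qs (7 ^^^ 2 ^ i.val) * (w * h1)⁻¹ = L.nl i * F.el (256 * (s i).val)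
    rw [← F.el_qs (S := 7 ^^^ 2 ^ i.val) (by fin_cases i <;> decide), ← qw,
      show w * h1 * F.el (qw i.val) * (w * h1)⁻¹ = w * (h1 * F.el (qw i.val) * h1⁻¹) * w⁻¹ by group, hA,
      hm, mul_inv_eq_iff_eq_mul, hw, ← F.el_mul, ← F.el_nl, ← F.el_mul, ← F.el_mul, ← hz' i, hs i]

end Frame

end Cfsg.Agent.OEightRec
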